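import Groth.Agent.DescLib.QAff
import Groth.Agent.FlatInDimLib.Rep
import Mathlib

/-!
# Descent of representability by monomorphisms of finite presentation
-/

set_option autoImplicit false
set_option linter.all false
set_option backward.isDefEq.respectTransparency false
set_option backward.isDefEq.respectTransparency.types false
set_option maxHeartbeats 1000000

universe u

open CategoryTheory CategoryTheory.Limits AlgebraicGeometry

namespace PureFlatLib

/-- Representability of a condition on algebras by a monomorphism of finite presentation. -/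
def Rep (A : Type u) [CommRing A] (P : ∀ (R : Type u) [CommRing R] [Algebra A R], Prop) : Prop :=
  ∃ (Z : Scheme.{u}) (i : Z ⟶ Spec (CommRingCat.of A)), Mono i ∧ LocallyOfFinitePresentation i ∧ QuasiCompact i ∧
    QuasiSeparated i ∧ ∀ (R : Type u) [CommRing R] [Algebra A R],
      P R ↔ ∃ k : Spec (CommRingCat.of R) ⟶ Z, k ≫ i = Spec.map (CommRingCat.ofHom (algebraMap A R))

variable {A : Type u} [CommRing A]

theorem Rep.congr {P P' : ∀ (R : Type u) [CommRing R] [Algebra A R], Prop} (h : Rep A P)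
    (e : ∀ (R : Type u) [CommRing R] [Algebra A R], P R ↔ P' R) : Rep A P' := by
  obtain ⟨Z, i, h1, h2, h3, h4, hZ⟩ := h
  exact ⟨Z, i, h1, h2, h3, h4, fun R _ _ => (e R).symm.trans (hZ R)⟩

theorem Rep.top {P : ∀ (R : Type u) [CommRing R] [Algebra A R], Prop}
    (h : ∀ (R : Type u) [CommRing R] [Algebra A R], P R) : Rep A P :=
  ⟨Spec (CommRingCat.of A), 𝟙 _, inferInstance, inferInstance, inferInstance, inferInstance,
    fun R _ _ => iff_of_true (h R) ⟨_, Category.comp_id _⟩⟩

theorem Rep.inter {P P' : ∀ (R : Type u) [CommRing R] [Algebra A R], Prop} (h : Rep A P) (h' : Rep A P') :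
    Rep A (fun R _ _ => P R ∧ P' R) := by
  obtain ⟨Z, i, h1, h2, h3, h4, hZ⟩ := h
  obtain ⟨Z', i', h1', h2', h3', h4', hZ'⟩ := h'
  refine ⟨pullback i i', pullback.fst i i' ≫ i, inferInstance, inferInstance, inferInstance, inferInstance,
    fun R _ _ => ⟨fun ⟨hP, hP'⟩ => ?_, fun ⟨k, hk⟩ => ⟨?_, ?_⟩⟩⟩
  · obtain ⟨k, hk⟩ := (hZ R).1 hP
    obtain ⟨k', hk'⟩ := (hZ' R).1 hP'
    exact ⟨pullback.lift k k' (hk.trans hk'.symm), by rw [pullback.lift_fst_assoc, hk]⟩
  · exact (hZ R).2 ⟨k ≫ pullback.fst i i', (Category.assoc _ _ _).trans hk⟩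
  · exact (hZ' R).2 ⟨k ≫ pullback.snd i i', by rw [Category.assoc, ← pullback.condition, hk]⟩

theorem Rep.inter_fin : ∀ {k : ℕ} {P : Fin k → ∀ (R : Type u) [CommRing R] [Algebra A R], Prop}
    (_ : ∀ j, Rep A (P j)), Rep A (fun R _ _ => ∀ j, P j R)
  | 0, _, _ => Rep.top fun R _ _ j => j.elim0
  | k + 1, P, h =>
    ((h 0).inter (Rep.inter_fin (P := fun j => P j.succ) fun j => h j.succ)).congr fun R _ _ =>
      ⟨fun ⟨h0, hs⟩ => Fin.cases h0 hs, fun H => ⟨H 0, fun j => H j.succ⟩⟩

theorem Rep.baseChange {P : ∀ (R : Type u) [CommRing R] [Algebra A R], Prop} (h : Rep A P)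
    {A' : Type u} [CommRing A'] [Algebra A A'] {P' : ∀ (R : Type u) [CommRing R] [Algebra A' R], Prop}
    (e : ∀ (R : Type u) [CommRing R] [Algebra A R] [Algebra A' R] [IsScalarTower A A' R], P R ↔ P' R) :
    Rep A' P' := by
  obtain ⟨Z, i, h1, h2, h3, h4, hZ⟩ := h
  let b := Spec.map (CommRingCat.ofHom (algebraMap A A'))
  refine ⟨pullback i b, pullback.snd i b, inferInstance, inferInstance, inferInstance, inferInstance,
    fun R _ _ => ?_⟩
  letI : Algebra A R := ((algebraMap A' R).comp (algebraMap A A')).toAlgebra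
  haveI : IsScalarTower A A' R := IsScalarTower.of_algebraMap_eq fun _ => rfl
  have hb : Spec.map (CommRingCat.ofHom (algebraMap A' R)) ≫ b = Spec.map (CommRingCat.ofHom (algebraMap A R)) := by
    rw [← Spec.map_comp]; rfl
  rw [← e R, hZ R]
  constructor
  · rintro ⟨k, hk⟩
    exact ⟨pullback.lift k (Spec.map (CommRingCat.ofHom (algebraMap A' R))) (hk.trans hb.symm),
      pullback.lift_snd _ _ _⟩
  · rintro ⟨k, hk⟩
    exact ⟨k ≫ pullback.fst i b, by rw [Category.assoc, pullback.condition, ← Category.assoc, hk, hb]⟩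

section Desc

variable (Q : ∀ (R : Type u) [CommRing R] [Algebra A R], Prop)

/-- The condition on schemes. -/
def Qs {T : Scheme.{u}} (g : T ⟶ Spec (CommRingCat.of A)) : Prop :=
  ∀ (R : CommRingCat.{u}) (j : Spec R ⟶ T),
    letI : Algebra A R := (Spec.preimage (j ≫ g)).hom.toAlgebra
    Q R

variable {Q}

theorem qs_comp {T T' : Scheme.{u}} (k : T' ⟶ T) {g : T ⟶ Spec (CommRingCat.of A)} (h : Qs Q g) : Qs Q (k ≫ g) := by
  intro R j
  show letI := (Spec.preimage (j ≫ k ≫ g)).hom.toAlgebra; Q R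
  rw [← Category.assoc]
  exact h R (j ≫ k)

theorem q_of_qs {T : Scheme.{u}} {g : T ⟶ Spec (CommRingCat.of A)} (h : Qs Q g) (R : Type u) [CommRing R]
    [inst : Algebra A R] (j : Spec (CommRingCat.of R) ⟶ T)
    (hj : j ≫ g = Spec.map (CommRingCat.ofHom (algebraMap A R))) : Q R := by
  have h1 := h (CommRingCat.of R) j
  have e : (Spec.preimage (j ≫ g)).hom.toAlgebra = inst := by
    refine Algebra.algebra_ext _ _ fun a => ?_
    show (Spec.preimage (j ≫ g)).hom a = algebraMap A R a
    rw [hj, Spec.preimage_map]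
    rfl
  rw [e] at h1
  exact h1

theorem qs_of_q (hstab : ∀ (R R' : Type u) [CommRing R] [CommRing R'] [Algebra A R] [Algebra A R'] [Algebra R R']
      [IsScalarTower A R R'], Q R → Q R') (R : Type u) [CommRing R] [Algebra A R] (h : Q R) :
    Qs Q (Spec.map (CommRingCat.ofHom (algebraMap A R))) := by
  intro R' j
  letI : Algebra A R' := (Spec.preimage (j ≫ Spec.map (CommRingCat.ofHom (algebraMap A R)))).hom.toAlgebra
  letI : Algebra R R' := (Spec.preimage j).hom.toAlgebra
  haveI : IsScalarTower A R R' := IsScalarTower.of_algebraMap_eq fun a => by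
    show (Spec.preimage (j ≫ Spec.map (CommRingCat.ofHom (algebraMap A R)))).hom a = _
    rw [Spec.preimage_comp, Spec.preimage_map]
    rfl
  exact hstab R R' h

variable (Q) in
/-- Representability descends. -/
theorem rep_of_cover {S : Scheme.{u}} (π : S ⟶ Spec (CommRingCat.of A)) [Mono π] [LocallyOfFinitePresentation π]
    [QuasiCompact π] [QuasiSeparated π]
    (hstab : ∀ (R R' : Type u) [CommRing R] [CommRing R'] [Algebra A R] [Algebra A R'] [Algebra R R']
      [IsScalarTower A R R'], Q R → Q R')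
    (hdesc : ∀ (R : Type u) [CommRing R] [Algebra A R],
      (∀ (t : Ideal R) [t.IsPrime], ∃ (R' : Type u) (_ : CommRing R') (_ : Algebra A R') (_ : Algebra R R')
        (_ : IsScalarTower A R R'), Module.Flat R R' ∧
          (∃ t' : Ideal R', t'.IsPrime ∧ t'.comap (algebraMap R R') = t) ∧ Q R') → Q R)
    (hfac : ∀ (R : Type u) [CommRing R] [Algebra A R], Q R →
      ∃ k : Spec (CommRingCat.of R) ⟶ S, k ≫ π = Spec.map (CommRingCat.ofHom (algebraMap A R)))
    {ι : Type u} [Finite ι] (Ak : ι → Type u) [∀ k, CommRing (Ak k)] [∀ k, Algebra A (Ak k)]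
    (q : ∀ k, Spec (CommRingCat.of (Ak k)) ⟶ S)
    (hq : ∀ k, q k ≫ π = Spec.map (CommRingCat.ofHom (algebraMap A (Ak k))))
    [∀ k, Flat (q k)] [∀ k, LocallyOfFinitePresentation (q k)]
    (hsurj : ∀ s : S, ∃ k x, q k x = s)
    (W : ι → Scheme.{u}) (w : ∀ k, W k ⟶ Spec (CommRingCat.of (Ak k))) [∀ k, Mono (w k)]
    [∀ k, LocallyOfFinitePresentation (w k)] [∀ k, QuasiCompact (w k)]
    (hrep : ∀ (k : ι) (R : Type u) [CommRing R] [Algebra A R] [Algebra (Ak k) R] [IsScalarTower A (Ak k) R],
      Q R ↔ ∃ l : Spec (CommRingCat.of R) ⟶ W k, l ≫ w k = Spec.map (CommRingCat.ofHom (algebraMap (Ak k) R))) :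
    Rep A Q := by
  classical
  let Xk := fun k => Spec (CommRingCat.of (Ak k))
  let X := ∐ Xk
  let p : X ⟶ S := Sigma.desc q
  let f : (∐ W) ⟶ X := Limits.Sigma.map w
  haveI hp1 : Flat p := IsZariskiLocalAtSource.sigmaDesc (P := @Flat) fun k => inferInstance
  haveI hp2 : LocallyOfFinitePresentation p :=
    IsZariskiLocalAtSource.sigmaDesc (P := @LocallyOfFinitePresentation) fun k => inferInstance
  haveI hp3 : Surjective p := ⟨fun s => by
    obtain ⟨k, x, rfl⟩ := hsurj s
    exact ⟨Sigma.ι Xk k x, by rw [← Scheme.Hom.comp_apply, Sigma.ι_desc]⟩⟩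
  haveI : CompactSpace X := (sigmaMk Xk).compactSpace
  haveI : QuasiSeparatedSpace S := quasiSeparatedSpace_of_quasiSeparated π
  haveI hp4 : QuasiCompact p := inferInstance
  have hι : ∀ k, Sigma.ι W k ≫ f = w k ≫ Sigma.ι Xk k := fun k => by simp [f]
  haveI hf1 : Mono f := by
    have he : f = Sigma.desc fun k => w k ≫ Sigma.ι Xk k := Sigma.hom_ext _ _ fun k => by rw [hι, Sigma.ι_desc]
    rw [he]
    refine FlatInDimLib.mono_sigmaDesc _ fun j k x y hxy => ?_
    by_contra hne
    exact Set.disjoint_iff.1 (disjoint_opensRange_sigmaι Xk j k hne |> fun h => TopologicalSpace.Opens.coe_disjoint.2 h)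
      ⟨⟨w j x, rfl⟩, ⟨w k y, hxy.symm⟩⟩
  haveI hf2 : LocallyOfFinitePresentation f := by
    have he : f = Sigma.desc fun k => w k ≫ Sigma.ι Xk k := Sigma.hom_ext _ _ fun k => by rw [hι, Sigma.ι_desc]
    rw [he]
    exact IsZariskiLocalAtSource.sigmaDesc (P := @LocallyOfFinitePresentation) fun k => inferInstance
  haveI : QuasiSeparatedSpace X := inferInstance
  haveI hf3 : QuasiCompact f := by
    haveI : ∀ k, CompactSpace (W k) := fun k => QuasiCompact.compactSpace_of_compactSpace (w k)
    haveI : CompactSpace (∐ W : Scheme.{u}) := (sigmaMk W).compactSpace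
    infer_instance
  haveI hf4 : IsSeparated f := inferInstance
  haveI hf5 : LocallyOfFiniteType f := inferInstance
  haveI hf6 : LocallyQuasiFinite f := inferInstance
  -- the key property of the coproduct
  have hW : ∀ {T : Scheme.{u}} (x : T ⟶ X), (∃ v : T ⟶ ∐ W, v ≫ f = x) ↔ Qs Q (x ≫ p ≫ π) := by
    intro T x
    have hloc : ∀ (R : Type u) [CommRing R] (k : ι) (y : Spec (CommRingCat.of R) ⟶ Xk k)
        (e : Spec (CommRingCat.of R) ⟶ T), y ≫ Sigma.ι Xk k = e ≫ x →
        ∀ [Algebra A R], e ≫ x ≫ p ≫ π = Spec.map (CommRingCat.ofHom (algebraMap A R)) →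
        (Q R ↔ ∃ l : Spec (CommRingCat.of R) ⟶ W k, l ≫ w k = y) := by
      intro R _ k y e hy _ hR
      letI : Algebra (Ak k) R := (Spec.preimage y).hom.toAlgebra
      have hy' : Spec.map (CommRingCat.ofHom (algebraMap (Ak k) R)) = y := by
        rw [RingHom.algebraMap_toAlgebra]
        exact Spec.map_preimage y
      haveI : IsScalarTower A (Ak k) R := by
        refine IsScalarTower.of_algebraMap_eq' ?_
        have h1 : Spec.map (CommRingCat.ofHom (algebraMap A R)) =
            Spec.map (CommRingCat.ofHom ((algebraMap (Ak k) R).comp (algebraMap A (Ak k)))) := by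
          rw [CommRingCat.ofHom_comp, Spec.map_comp, hy', ← hq k, ← hR, ← reassoc_of% hy, ← Sigma.ι_desc q k,
            Category.assoc]
        exact congrArg CommRingCat.Hom.hom (Spec.map_injective h1)
      rw [hrep k R, hy']
    constructor
    · rintro ⟨v, hv⟩ R' j
      letI : Algebra A R' := (Spec.preimage (j ≫ x ≫ p ≫ π)).hom.toAlgebra
      refine hdesc R' fun t _ => ?_
      let pt : Spec R' := (⟨t, inferInstance⟩ : PrimeSpectrum R')
      obtain ⟨⟨k, y₀⟩, hy₀⟩ := (sigmaMk W).surjective ((j ≫ v) pt)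
      rw [sigmaMk_mk] at hy₀
      let U : (Spec R').Opens := (j ≫ v) ⁻¹ᵁ (Sigma.ι W k).opensRange
      obtain ⟨_, ⟨_, ⟨a, rfl⟩, rfl⟩, hat, haU⟩ :=
        PrimeSpectrum.isBasis_basic_opens.exists_subset_of_mem_open (a := (⟨t, inferInstance⟩ : PrimeSpectrum R'))
          (show pt ∈ U from ⟨y₀, hy₀⟩) U.2
      let R'' := Localization.Away a
      let e : Spec (CommRingCat.of R'') ⟶ Spec R' := Spec.map (CommRingCat.ofHom (algebraMap R' R''))
      haveI : IsOpenImmersion e := IsOpenImmersion.of_isLocalization (R := R') (S := R'') a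
      have hrange : Set.range (e ≫ j ≫ v) ⊆ Set.range (Sigma.ι W k) := by
        rintro _ ⟨z, rfl⟩
        refine haU (show e z ∈ _ from ?_)
        exact (PrimeSpectrum.localization_away_comap_range R'' a).le ⟨z, rfl⟩
      let l := IsOpenImmersion.lift (Sigma.ι W k) (e ≫ j ≫ v) hrange
      refine ⟨R'', inferInstance, inferInstance, inferInstance, inferInstance,
        IsLocalization.flat R'' (Submonoid.powers a), ?_, ?_⟩
      · obtain ⟨z, hz⟩ := (PrimeSpectrum.localization_away_comap_range R'' a).ge hat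
        exact ⟨z.asIdeal, inferInstance, congrArg PrimeSpectrum.asIdeal hz⟩
      · refine (hloc R'' k (l ≫ w k) (e ≫ j) ?_ ?_).2 ⟨l, rfl⟩
        · rw [Category.assoc, ← hι, ← Category.assoc, IsOpenImmersion.lift_fac]
          simp only [Category.assoc, hv]
        · rw [Category.assoc]
          show e ≫ j ≫ x ≫ p ≫ π = _
          conv_lhs => rw [← Spec.map_preimage (j ≫ x ≫ p ≫ π)]
          rw [← Spec.map_comp]
          congr 1
    · intro h
      refine FlatInDimLib.exists_lift_of_local f x fun t => ?_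
      obtain ⟨⟨k, y₀⟩, hy₀⟩ := (sigmaMk Xk).surjective (x t)
      rw [sigmaMk_mk] at hy₀
      obtain ⟨V, hV, htV, hVU⟩ := exists_isAffineOpen_mem_and_subset
        (show t ∈ x ⁻¹ᵁ (Sigma.ι Xk k).opensRange from ⟨y₀, hy₀⟩)
      refine ⟨V, htV, ?_⟩
      let R := Γ(T, V)
      let e : Spec R ⟶ T := hV.fromSpec
      have hrange : Set.range (e ≫ x) ⊆ Set.range (Sigma.ι Xk k) := by
        rintro _ ⟨z, rfl⟩
        exact hVU (hV.range_fromSpec.le ⟨z, rfl⟩)
      let y := IsOpenImmersion.lift (Sigma.ι Xk k) (e ≫ x) hrange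
      letI : Algebra A R := (Spec.preimage (e ≫ x ≫ p ≫ π)).hom.toAlgebra
      have hR : e ≫ x ≫ p ≫ π = Spec.map (CommRingCat.ofHom (algebraMap A R)) := by
        rw [RingHom.algebraMap_toAlgebra]
        exact (Spec.map_preimage _).symm
      obtain ⟨l, hl⟩ := (hloc R k y e (IsOpenImmersion.lift_fac _ _ _) hR).1 (h R e)
      refine ⟨hV.isoSpec.hom ≫ l ≫ Sigma.ι W k, ?_⟩
      rw [Category.assoc, Category.assoc, hι, reassoc_of% hl, IsOpenImmersion.lift_fac,
        ← hV.isoSpec_hom_fromSpec, Category.assoc]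
  -- the descent datum
  have hsub : ∀ {T : Scheme.{u}} (x : T ⟶ X), Subsingleton (Desc.Lifts (Over.mk f) x) := fun x =>
    ⟨fun a b => Subtype.ext ((cancel_mono f).1 (a.2.trans b.2.symm))⟩
  have hmove : ∀ {T : Scheme.{u}} (x₀ x₁ : T ⟶ X), x₀ ≫ p = x₁ ≫ p → Desc.Lifts (Over.mk f) x₀ →
      ∃ v : T ⟶ ∐ W, v ≫ f = x₁ := fun {T} x₀ x₁ h v => by
    rw [hW, ← Category.assoc, ← h, Category.assoc, ← hW]
    exact ⟨v.1, v.2⟩
  let D : Desc.SchDD p :=
    { obj := Over.mk f
      φ := fun T x₀ x₁ h =>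
        haveI := hsub x₀
        haveI := hsub x₁
        { toFun := fun v => ⟨(hmove x₀ x₁ h v).choose, (hmove x₀ x₁ h v).choose_spec⟩
          invFun := fun v => ⟨(hmove x₁ x₀ h.symm v).choose, (hmove x₁ x₀ h.symm v).choose_spec⟩
          left_inv := fun v => Subsingleton.elim _ _
          right_inv := fun v => Subsingleton.elim _ _ }
      φ_natural := fun T T' g x₀ x₁ h h' v v' hv' => (cancel_mono f).1 (by
        refine (hmove (g ≫ x₀) (g ≫ x₁) h' v').choose_spec.trans ?_
        rw [Category.assoc]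
        exact congrArg (g ≫ ·) (hmove x₀ x₁ h v).choose_spec.symm)
      φ_self := fun T x v => @Subsingleton.elim _ (hsub x) _ _
      φ_comp := fun T x₀ x₁ x₂ h₀₁ h₁₂ v => @Subsingleton.elim _ (hsub x₂) _ _ }
  haveI : QuasiCompact D.obj.hom := hf3
  haveI : IsSeparated D.obj.hom := hf4
  haveI : LocallyQuasiFinite D.obj.hom := hf6
  haveI : LocallyOfFiniteType D.obj.hom := hf5
  obtain ⟨U, ⟨iso⟩⟩ := DescLib.effective_of_lqf D
  let eX : pullback p U.hom ≅ ∐ W :=
    { hom := iso.hom.hom.left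
      inv := iso.inv.hom.left
      hom_inv_id := congrArg (fun φ : (Desc.toDD p).obj U ⟶ _ => φ.hom.left) iso.hom_inv_id
      inv_hom_id := congrArg (fun φ : D ⟶ _ => φ.hom.left) iso.inv_hom_id }
  have heX : eX.hom ≫ f = pullback.fst p U.hom := Over.w iso.hom.hom
  haveI : IsIso eX.hom := eX.isIso_hom
  have hfst : ∀ (P : MorphismProperty Scheme.{u}) [P.RespectsIso] [P.DescendsAlong (@Surjective ⊓ @Flat ⊓ @QuasiCompact)],
      P f → P U.hom := by
    intro P _ _ hP
    refine MorphismProperty.of_pullback_fst_of_descendsAlong (Q := @Surjective ⊓ @Flat ⊓ @QuasiCompact) (f := p)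
      (g := U.hom) ⟨⟨hp3, hp1⟩, hp4⟩ ?_
    rw [← heX]
    exact (P.cancel_left_of_respectsIso _ _).2 hP
  haveI : LocallyOfFinitePresentation U.hom := hfst @LocallyOfFinitePresentation hf2
  haveI : QuasiCompact (pullback.fst p U.hom) := by rw [← heX]; infer_instance
  haveI : QuasiCompact U.hom := by
    haveI : QuasiCompact (pullback.snd p U.hom ≫ U.hom) := by rw [← pullback.condition]; infer_instance
    exact DescLib.quasiCompact_of_surjective_comp (pullback.snd p U.hom) U.hom
  haveI : Mono (pullback.fst p U.hom) := by rw [← heX]; exact mono_comp _ _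
  haveI : Mono U.hom := by
    refine (pullback.isIso_diagonal_iff _).1 ?_
    exact MorphismProperty.of_pullback_fst_of_descendsAlong
      (P := (MorphismProperty.isomorphisms Scheme.{u}).diagonal) (Q := @Surjective ⊓ @Flat ⊓ @QuasiCompact) (f := p)
      (g := U.hom) ⟨⟨hp3, hp1⟩, hp4⟩ ((pullback.isIso_diagonal_iff (pullback.fst p U.hom)).2 inferInstance)
  refine ⟨U.left, U.hom ≫ π, inferInstance, inferInstance, inferInstance, inferInstance, fun R _ _ => ?_⟩
  constructor
  · intro hR
    obtain ⟨s, hs⟩ := hfac R hR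
    let T' := pullback s p
    haveI : Surjective (pullback.fst s p) := inferInstance
    haveI : Flat (pullback.fst s p) := inferInstance
    haveI : QuasiCompact (pullback.fst s p) := inferInstance
    obtain ⟨v, hv⟩ := (hW (pullback.snd s p)).2 (by
      rw [← pullback.condition_assoc, hs]
      exact qs_comp _ (qs_of_q hstab R hR))
    have hlift : (v ≫ eX.inv ≫ pullback.snd p U.hom) ≫ U.hom = pullback.fst s p ≫ s := by
      rw [Category.assoc, Category.assoc, ← pullback.condition, ← heX]
      simp only [Category.assoc, Iso.inv_hom_id_assoc, reassoc_of% hv, pullback.condition]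
    let sec : T' ⟶ pullback (pullback.fst s p) (pullback.fst s U.hom) :=
      pullback.lift (𝟙 _) (pullback.lift (pullback.fst s p) (v ≫ eX.inv ≫ pullback.snd p U.hom) hlift.symm)
        (by rw [Category.id_comp, pullback.lift_fst])
    haveI : IsSplitEpi (pullback.fst (pullback.fst s p) (pullback.fst s U.hom)) :=
      ⟨⟨⟨sec, pullback.lift_fst _ _ _⟩⟩⟩
    haveI : IsIso (pullback.fst (pullback.fst s p) (pullback.fst s U.hom)) := isIso_of_mono_of_isSplitEpi _
    haveI : IsIso (pullback.fst s U.hom) :=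
      MorphismProperty.of_pullback_fst_of_descendsAlong (P := MorphismProperty.isomorphisms Scheme.{u})
        (Q := @Surjective ⊓ @Flat ⊓ @QuasiCompact) (f := pullback.fst s p) (g := pullback.fst s U.hom)
        ⟨⟨inferInstance, inferInstance⟩, inferInstance⟩ inferInstance
    exact ⟨inv (pullback.fst s U.hom) ≫ pullback.snd s U.hom, by
      rw [Category.assoc, ← pullback.condition_assoc, IsIso.inv_hom_id_assoc, hs]⟩
  · rintro ⟨k, hk⟩
    refine hdesc R fun t _ => ?_
    let s := k ≫ U.hom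
    let pt : Spec (CommRingCat.of R) := (⟨t, inferInstance⟩ : PrimeSpectrum R)
    obtain ⟨z, hz⟩ := (pullback.fst s p).surjective pt
    obtain ⟨V, hV, hzV, -⟩ := exists_isAffineOpen_mem_and_subset (x := z) (U := ⊤) trivial
    let R' := Γ(pullback s p, V)
    let e : Spec R' ⟶ Spec (CommRingCat.of R) := hV.fromSpec ≫ pullback.fst s p
    haveI : Flat e := inferInstance
    letI : Algebra R R' := (Spec.preimage e).hom.toAlgebra
    letI : Algebra A R' := ((algebraMap R R').comp (algebraMap A R)).toAlgebra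
    haveI : IsScalarTower A R R' := IsScalarTower.of_algebraMap_eq fun _ => rfl
    refine ⟨R', inferInstance, inferInstance, inferInstance, inferInstance, ?_, ?_, ?_⟩
    · have : Flat (Spec.map (Spec.preimage e)) := by rw [Spec.map_preimage]; infer_instance
      rw [HasRingHomProperty.Spec_iff (P := @Flat)] at this
      exact this
    · obtain ⟨z', hz'⟩ := hV.range_fromSpec.ge hzV
      refine ⟨(z' : PrimeSpectrum R').asIdeal, inferInstance, ?_⟩
      show (PrimeSpectrum.comap (Spec.preimage e).hom z').asIdeal = t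
      have h1 : Spec.map (Spec.preimage e) z' = pt := by
        rw [Spec.map_preimage, Scheme.Hom.comp_apply, hz', hz]
      exact congrArg PrimeSpectrum.asIdeal h1
    · obtain ⟨v, hv⟩ : ∃ v : Spec R' ⟶ ∐ W, v ≫ f = hV.fromSpec ≫ pullback.snd s p :=
        ⟨pullback.lift (hV.fromSpec ≫ pullback.snd s p) (e ≫ k) (by
          rw [Category.assoc, ← pullback.condition, Category.assoc, Category.assoc]) ≫ eX.hom, by
          rw [Category.assoc, heX, pullback.lift_fst]⟩
      refine q_of_qs ((hW _).1 ⟨v, hv⟩) R' (𝟙 _) ?_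
      rw [Category.id_comp, Category.assoc, ← pullback.condition_assoc]
      show hV.fromSpec ≫ pullback.fst s p ≫ (k ≫ U.hom) ≫ π = _
      rw [Category.assoc, hk, ← Category.assoc]
      show e ≫ _ = _
      conv_lhs => rw [← Spec.map_preimage e]
      rw [← Spec.map_comp]
      rfl

end Desc

end PureFlatLib
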