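import Groth.Agent.PureFlatLib.Inj
import Groth.Agent.RichLib.FibreLociGeneral
import Groth.Prelude.Def_FlatCA
import Groth.Agent.DevissExLib.Cover
import Groth.Agent.FlatInDimLib.BC
import Mathlib

/-!
# The injectivity locus is constructible; purity makes it contain a neighbourhood
-/

set_option autoImplicit false
set_option linter.all false
set_option maxHeartbeats 1000000

universe u

open scoped TensorProduct
open Topology RichLib.FibreLoci

namespace PureFlatLib

section Generic

variable (A : Type u) [CommRing A] [IsDomain A] {B : Type u} [CommRing B] [Algebra A B] [Algebra.FiniteType A B]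
  {N : Type u} [AddCommGroup N] [Module B N] [Module A N] [IsScalarTower A B N]

variable (B) in
/-- An element which is nonzero in the generic fibre is nonzero in the fibres nearby. -/
theorem tmul_ne_zero_generic [Module.Finite B N] (x : N) (h : (1 : (⊥ : Ideal A).ResidueField) ⊗ₜ[A] x ≠ 0) :
    ∃ g : A, g ≠ 0 ∧ ∀ p : PrimeSpectrum A, g ∉ p.asIdeal → (1 : p.asIdeal.ResidueField) ⊗ₜ[A] x ≠ 0 := by
  obtain ⟨g, hg, hfree⟩ := FlatLib.gfree_of_finite (R := A) B N
  let R := Localization.Away g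
  let bas := Module.Free.chooseBasis R (R ⊗[A] N)
  have hv : (1 ⊗ₜ[A] x : R ⊗[A] N) ≠ 0 := by
    intro h0
    obtain ⟨⟨_, k, rfl⟩, hs⟩ := (IsLocalizedModule.eq_zero_iff (Submonoid.powers g)
      (TensorProduct.mk A R N 1)).mp h0
    refine h ?_
    have h1 : algebraMap A (⊥ : Ideal A).ResidueField (g ^ k) • ((1 : (⊥ : Ideal A).ResidueField) ⊗ₜ[A] x) = 0 := by
      rw [algebraMap_smul, ← TensorProduct.tmul_smul]
      erw [hs]
      rw [TensorProduct.tmul_zero]
    refine (smul_eq_zero.mp h1).resolve_left fun h2 => ?_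
    rw [Ideal.algebraMap_residueField_eq_zero, Submodule.mem_bot] at h2
    exact pow_ne_zero k hg h2
  obtain ⟨i, hi⟩ : ∃ i, bas.repr (1 ⊗ₜ[A] x) i ≠ 0 := by
    by_contra hall
    push Not at hall
    exact hv (bas.repr.injective (by ext i; simp [hall i]))
  obtain ⟨⟨a, s⟩, hs⟩ := IsLocalization.surj (Submonoid.powers g) (bas.repr (1 ⊗ₜ[A] x) i)
  have ha : a ≠ 0 := by
    rintro rfl
    rw [map_zero] at hs
    exact hi ((IsUnit.mul_left_eq_zero (IsLocalization.map_units R s)).mp hs)
  refine ⟨g * a, mul_ne_zero hg ha, fun p hp hz => hp ?_⟩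
  have hgp : g ∉ p.asIdeal := fun h' => hp (p.asIdeal.mul_mem_right a h')
  let ψ : N →ₗ[A] p.asIdeal.ResidueField := (evalAway A p hgp).toLinearMap ∘ₗ
    ((bas.coord i).restrictScalars A) ∘ₗ TensorProduct.mk A R N 1
  let Ψ := ψ.liftBaseChange p.asIdeal.ResidueField
  have h1 : Ψ (1 ⊗ₜ[A] x) = 0 := by rw [hz, map_zero]
  refine p.asIdeal.mul_mem_left g ?_
  rw [← Ideal.algebraMap_residueField_eq_zero, ← AlgHom.commutes (evalAway A p hgp), ← hs, map_mul]
  have h3 : evalAway A p hgp (bas.repr (1 ⊗ₜ[A] x) i) = 0 := by simpa [Ψ, ψ] using h1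
  rw [h3, zero_mul]

/-- The condition is constant near the generic point. -/
theorem injAt_generic [Module.Finite B N] {m : ℕ} (f : Fin m → B) :
    ∃ g : A, g ≠ 0 ∧ ∀ p : PrimeSpectrum A, g ∉ p.asIdeal →
      (InjAt A N f p.asIdeal ↔ InjAt A N f (⊥ : Ideal A)) := by
  classical
  let K := (⊥ : Ideal A).ResidueField
  haveI : IsLocalizedModule (nonZeroDivisors A) (TensorProduct.mk A K N 1) :=
    (isLocalizedModule_iff_isBaseChange (nonZeroDivisors A) K _).mpr (TensorProduct.isBaseChange A N K)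
  by_cases h : InjAt A N f (⊥ : Ideal A)
  · let θB : N →ₗ[B] (Fin m → N) := LinearMap.pi fun j => LinearMap.lsmul B N (f j)
    let θ : N →ₗ[A] (Fin m → N) := θB.restrictScalars A
    have hθ : θ = LinearMap.pi (mulF A N f) := rfl
    obtain ⟨g₁, hg₁, hfree₁⟩ := FlatLib.gfree_of_finite (R := A) B N
    obtain ⟨g₂, hg₂, hfree₂⟩ := FlatLib.gfree_of_finite (R := A) B ((Fin m → N) ⧸ LinearMap.range θB)
    let Q := (Fin m → N) ⧸ LinearMap.range θ
    let eQ : ((Fin m → N) ⧸ LinearMap.range θB) ≃ₗ[A] Q :=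
      (Submodule.Quotient.restrictScalarsEquiv A (LinearMap.range θB)).symm ≪≫ₗ
        Submodule.quotEquivOfEq _ _ (LinearMap.range_restrictScalars θB).symm
    refine ⟨g₁ * g₂, mul_ne_zero hg₁ hg₂, fun p hp => iff_of_true ?_ h⟩
    let R := Localization.Away (g₁ * g₂)
    have hu : IsUnit (algebraMap A R g₁) ∧ IsUnit (algebraMap A R g₂) := by
      rw [← IsUnit.mul_iff, ← map_mul]; exact IsLocalization.Away.algebraMap_isUnit _
    have hfN : Module.Free R (R ⊗[A] N) := FlatLib.free_tensor_of_isUnit R hu.1 hfree₁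
    haveI : Module.Free R (R ⊗[A] Q) := Module.Free.of_equiv'
      (FlatLib.free_tensor_of_isUnit R hu.2 hfree₂)
      (TensorProduct.AlgebraTensorModule.congr (LinearEquiv.refl R R) eQ)
    have hinj : Function.Injective (θ.lTensor R) := by
      refine (injective_iff_map_eq_zero _).2 fun y hy => ?_
      obtain ⟨⟨x, ⟨s, hsm⟩⟩, hxs⟩ := IsLocalizedModule.surj (Submonoid.powers (g₁ * g₂)) (TensorProduct.mk A R N 1) y
      have hxs' : s • y = (1 : R) ⊗ₜ[A] x := hxs
      have h0 : (1 : R) ⊗ₜ[A] θ x = 0 := by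
        rw [← LinearMap.lTensor_tmul, ← hxs', map_smul, hy, smul_zero]
      obtain ⟨⟨_, k, rfl⟩, hk⟩ := (IsLocalizedModule.eq_zero_iff (Submonoid.powers (g₁ * g₂))
        (TensorProduct.mk A R (Fin m → N) 1)).mp h0
      have h1 : θ ((g₁ * g₂) ^ k • x) = 0 := (map_smul θ _ _).trans hk
      have h2 : (1 : K) ⊗ₜ[A] ((g₁ * g₂) ^ k • x) = 0 := by
        apply (kf_iff_injective (φ := mulF A N f) K).1 h
        rw [← hθ, LinearMap.lTensor_tmul, h1, TensorProduct.tmul_zero, map_zero]
      obtain ⟨a, ha, hax⟩ := exists_torsion_of_tmul_eq_zero A h2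
      have hs0 : s ≠ 0 := by
        obtain ⟨l, rfl⟩ := hsm
        exact pow_ne_zero l (mul_ne_zero hg₁ hg₂)
      refine eq_zero_of_free_away A (mul_ne_zero hg₁ hg₂) hfN
        (a := a * (g₁ * g₂) ^ k * s) (mul_ne_zero (mul_ne_zero ha (pow_ne_zero k (mul_ne_zero hg₁ hg₂))) hs0) ?_
      rw [mul_smul, hxs', ← TensorProduct.tmul_smul, mul_smul, hax, TensorProduct.tmul_zero]
    show KF A (mulF A N f) p.asIdeal.ResidueField
    rw [kf_iff_injective, ← hθ]
    exact lTensor_residue_injective_of_away A θ hinj inferInstance p hp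
  · obtain ⟨z, hz, hz0⟩ : ∃ z : K ⊗[A] N, (∀ j, (mulF A N f j).lTensor K z = 0) ∧ z ≠ 0 := by
      unfold InjAt KF at h
      push Not at h
      exact h
    obtain ⟨⟨x, s⟩, hxs⟩ := IsLocalizedModule.surj (nonZeroDivisors A) (TensorProduct.mk A K N 1) z
    have hxs' : (s : A) • z = (1 : K) ⊗ₜ[A] x := hxs
    have hx : (1 : K) ⊗ₜ[A] x ≠ 0 := by
      rw [← hxs', ← algebraMap_smul K]
      refine smul_ne_zero (fun h0 => ?_) hz0
      rw [Ideal.algebraMap_residueField_eq_zero, Submodule.mem_bot] at h0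
      exact nonZeroDivisors.coe_ne_zero s h0
    have hj : ∀ j, ∃ a : A, a ≠ 0 ∧ a • mulF A N f j x = 0 := fun j => by
      refine exists_torsion_of_tmul_eq_zero A ?_
      rw [← LinearMap.lTensor_tmul, ← hxs', map_smul, hz j, smul_zero]
    choose a ha hax using hj
    obtain ⟨g, hg, hne⟩ := tmul_ne_zero_generic A B x hx
    refine ⟨g * ∏ j, a j, mul_ne_zero hg (Finset.prod_ne_zero_iff.2 fun j _ => ha j), fun p hp =>
      iff_of_false (fun hp' => ?_) h⟩
    have hgp : g ∉ p.asIdeal := fun h' => hp (p.asIdeal.mul_mem_right _ h')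
    refine hne p hgp (hp' _ fun j => ?_)
    have haj : a j ∉ p.asIdeal := fun h' => hp (p.asIdeal.mul_mem_left g (by
      obtain ⟨c, hc⟩ := Finset.dvd_prod_of_mem a (Finset.mem_univ j)
      rw [hc]
      exact p.asIdeal.mul_mem_right _ h'))
    rw [LinearMap.lTensor_tmul]
    have h1 : algebraMap A p.asIdeal.ResidueField (a j) •
        ((1 : p.asIdeal.ResidueField) ⊗ₜ[A] mulF A N f j x) = 0 := by
      rw [algebraMap_smul, ← TensorProduct.tmul_smul, hax, TensorProduct.tmul_zero]
    exact (smul_eq_zero.mp h1).resolve_left fun h0 => haj (Ideal.algebraMap_residueField_eq_zero.mp h0)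

end Generic

section Constr

/-- The locus. -/
def injLocus (R : Type u) [CommRing R] {B : Type u} [CommRing B] [Algebra R B] (N : Type u) [AddCommGroup N]
    [Module B N] [Module R N] [IsScalarTower R B N] {m : ℕ} (f : Fin m → B) : Set (PrimeSpectrum R) :=
  {t | InjAt R N f t.asIdeal}

theorem injLocus_baseChange {R₀ R B₀ B : Type u} [CommRing R₀] [CommRing R] [CommRing B₀] [CommRing B] [Algebra R₀ R]
    [Algebra R₀ B₀] [Algebra R B] [Algebra R₀ B] [Algebra B₀ B] [IsScalarTower R₀ R B] [IsScalarTower R₀ B₀ B]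
    [Algebra.IsPushout R₀ B₀ R B] {N₀ N : Type u} [AddCommGroup N₀] [Module B₀ N₀] [Module R₀ N₀]
    [IsScalarTower R₀ B₀ N₀] [AddCommGroup N] [Module B N] [Module B₀ N] [IsScalarTower B₀ B N] [Module R N]
    [IsScalarTower R B N] (g : N₀ →ₗ[B₀] N) (hg : IsBaseChange B g) {m : ℕ} (f₀ : Fin m → B₀) :
    injLocus R N (fun j => algebraMap B₀ B (f₀ j)) =
      PrimeSpectrum.comap (algebraMap R₀ R) ⁻¹' injLocus R₀ N₀ f₀ := by
  ext t
  haveI : t.asIdeal.LiesOver (PrimeSpectrum.comap (algebraMap R₀ R) t).asIdeal := ⟨rfl⟩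
  exact injAt_baseChange g hg f₀ _ _

attribute [local instance] Algebra.TensorProduct.rightAlgebra

theorem injLocus_stratum_aux {A A' B B' : Type u} [CommRing A] [CommRing A'] [IsDomain A'] [CommRing B] [CommRing B']
    [Algebra A A'] [Algebra A B] [Algebra A' B'] [Algebra A B'] [Algebra B B'] [IsScalarTower A A' B']
    [IsScalarTower A B B'] [Algebra.IsPushout A B A' B'] [Algebra.FiniteType A' B']
    {N N' : Type u} [AddCommGroup N] [Module B N] [Module A N] [IsScalarTower A B N]
    [AddCommGroup N'] [Module B' N'] [Module B N'] [IsScalarTower B B' N'] [Module A' N'] [IsScalarTower A' B' N']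
    [Module.Finite B' N'] (k : N →ₗ[B] N') (hk : IsBaseChange B' k) {m : ℕ} (f : Fin m → B)
    (hsurj : Function.Surjective (algebraMap A A')) (p : PrimeSpectrum A)
    (hp : RingHom.ker (algebraMap A A') = p.asIdeal) :
    ∃ g ∉ p.asIdeal, ∀ q : PrimeSpectrum A, p.asIdeal ≤ q.asIdeal → g ∉ q.asIdeal →
      (q ∈ injLocus A N f ↔ p ∈ injLocus A N f) := by
  obtain ⟨g, hg, hgen⟩ := injAt_generic A' (N := N') fun j => algebraMap B B' (f j)
  obtain ⟨g, rfl⟩ := hsurj g
  refine ⟨g, fun hgp => hg (RingHom.mem_ker.1 (hp.ge hgp)), fun q hpq hq => ?_⟩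
  have key : ∀ r : PrimeSpectrum A', PrimeSpectrum.comap (algebraMap A A') r ∈ injLocus A N f ↔
      r ∈ injLocus A' N' fun j => algebraMap B B' (f j) := fun r => by
    rw [injLocus_baseChange (R₀ := A) k hk f]; rfl
  have hp0 : PrimeSpectrum.comap (algebraMap A A') ⊥ = p := PrimeSpectrum.ext hp
  obtain ⟨q', rfl⟩ : q ∈ Set.range (PrimeSpectrum.comap (algebraMap A A')) := by
    rw [range_comap_of_surjective _ _ hsurj, hp]
    exact hpq
  conv_rhs => rw [← hp0]
  rw [key, key]
  exact hgen q' hq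

theorem injLocus_stratum {A : Type u} [CommRing A] {B : Type u} [CommRing B] [Algebra A B] [Algebra.FiniteType A B]
    {N : Type u} [AddCommGroup N] [Module B N] [Module A N] [IsScalarTower A B N] [Module.Finite B N] {m : ℕ}
    (f : Fin m → B) (A' : Type u) [CommRing A'] [IsDomain A'] [Algebra A A']
    (hsurj : Function.Surjective (algebraMap A A')) (p : PrimeSpectrum A)
    (hp : RingHom.ker (algebraMap A A') = p.asIdeal) :
    ∃ g ∉ p.asIdeal, ∀ q : PrimeSpectrum A, p.asIdeal ≤ q.asIdeal → g ∉ q.asIdeal →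
      (q ∈ injLocus A N f ↔ p ∈ injLocus A N f) := by
  haveI : Algebra.IsPushout A B A' (A' ⊗[A] B) := Algebra.IsPushout.symm inferInstance
  haveI : Algebra.FiniteType A' (A' ⊗[A] B) := Algebra.FiniteType.baseChange A'
  haveI : Module.Finite (A' ⊗[A] B) ((A' ⊗[A] B) ⊗[B] N) := Module.Finite.base_change B _ N
  exact injLocus_stratum_aux (TensorProduct.mk B (A' ⊗[A] B) N 1) (TensorProduct.isBaseChange B N (A' ⊗[A] B)) f
    hsurj p hp

theorem isConstructible_injLocus_noetherian (A : Type u) [CommRing A] [IsNoetherianRing A] {B : Type u} [CommRing B]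
    [Algebra A B] [Algebra.FiniteType A B] (N : Type u) [AddCommGroup N] [Module B N] [Module A N]
    [IsScalarTower A B N] [Module.Finite B N] {m : ℕ} (f : Fin m → B) : IsConstructible (injLocus A N f) := by
  refine isConstructible_of_stratum _ fun p => ?_
  exact injLocus_stratum f (A ⧸ p.asIdeal) Ideal.Quotient.mk_surjective p Ideal.mk_ker

theorem exists_module_model {B₁ B : Type u} [CommRing B₁] [CommRing B] [Algebra B₁ B] {N : Type u} [AddCommGroup N]
    [Module B N] [Module B₁ N] [IsScalarTower B₁ B N] {a b : ℕ} (π : (Fin a → B) →ₗ[B] N)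
    (hπ : Function.Surjective π) (v : Fin b → Fin a → B) (hv : LinearMap.ker π = Submodule.span B (Set.range v))
    (w : Fin b → Fin a → B₁) (hw : ∀ i j, algebraMap B₁ B (w i j) = v i j) :
    ∃ g : ((Fin a → B₁) ⧸ Submodule.span B₁ (Set.range w)) →ₗ[B₁] N, IsBaseChange B g := by
  let π₀ : (Fin a → B₁) →ₗ[B₁] N :=
    (π.restrictScalars B₁).comp (LinearMap.pi fun j => (Algebra.linearMap B₁ B).comp (LinearMap.proj j))
  have hπ₀ : ∀ x, π₀ x = π fun j => algebraMap B₁ B (x j) := fun x => rfl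
  have hπw : ∀ i, π₀ (w i) = 0 := fun i => by
    rw [hπ₀, funext (hw i)]
    exact LinearMap.mem_ker.1 (hv ▸ Submodule.subset_span ⟨i, rfl⟩)
  let W := Submodule.span B₁ (Set.range w)
  refine ⟨W.liftQ π₀ (Submodule.span_le.2 (Set.range_subset_iff.2 hπw)), IsBaseChange.of_lift_unique _ ?_⟩
  intro Q _ _ _ _ h
  let d : Fin a → Q := fun j => h (W.mkQ (Pi.single j 1))
  let l : (Fin a → B) →ₗ[B] Q := Fintype.linearCombination B d
  have hl : ∀ x : Fin a → B₁, l (fun j => algebraMap B₁ B (x j)) = h (W.mkQ x) := fun x => by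
    conv_rhs => rw [pi_eq_sum_univ' x, map_sum, map_sum]
    rw [Fintype.linearCombination_apply]
    refine Finset.sum_congr rfl fun j _ => ?_
    rw [map_smul, map_smul, algebraMap_smul]
  have hker : LinearMap.ker π ≤ LinearMap.ker l := by
    rw [hv, Submodule.span_le]
    rintro _ ⟨i, rfl⟩
    show l (v i) = 0
    rw [← funext (hw i), hl, show W.mkQ (w i) = 0 from (Submodule.Quotient.mk_eq_zero _).2
      (Submodule.subset_span ⟨i, rfl⟩), map_zero]
  letI : AddCommGroup Q := Module.addCommMonoidToAddCommGroup B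
  let L : ((Fin a → B) ⧸ LinearMap.ker π) →ₗ[B] Q := Submodule.liftQ _ l hker
  let l' : N →ₗ[B] Q := L.comp (π.quotKerEquivOfSurjective hπ).symm.toLinearMap
  have hl' : ∀ y, l' (π y) = l y := fun y => by
    show L ((π.quotKerEquivOfSurjective hπ).symm (π y)) = l y
    rw [show (π.quotKerEquivOfSurjective hπ).symm (π y) = Submodule.Quotient.mk y from
      (LinearEquiv.symm_apply_eq _).2 (LinearMap.quotKerEquivOfSurjective_apply_mk π hπ y).symm,
      show L (Submodule.Quotient.mk y) = l y from Submodule.liftQ_apply _ l y]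
  refine ⟨l', LinearMap.ext fun x => ?_, fun l'' hl'' => LinearMap.ext fun n => ?_⟩
  · obtain ⟨x, rfl⟩ := Submodule.Quotient.mk_surjective _ x
    show l' (π₀ x) = _
    rw [hπ₀, hl', hl]
    rfl
  · obtain ⟨y, rfl⟩ := hπ n
    rw [hl']
    suffices e : l''.comp π = l from LinearMap.congr_fun e y
    refine LinearMap.pi_ext' fun j => LinearMap.ext_ring ?_
    show l'' (π (Pi.single j 1)) = l (Pi.single j 1)
    have h1 : (Pi.single j 1 : Fin a → B) = fun k => algebraMap B₁ B ((Pi.single j 1 : Fin a → B₁) k) := funext fun k => by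
      rcases eq_or_ne k j with rfl | hk
      · rw [Pi.single_eq_same, Pi.single_eq_same, map_one]
      · rw [Pi.single_eq_of_ne hk, Pi.single_eq_of_ne hk, map_zero]
    rw [h1, hl]
    exact LinearMap.congr_fun hl'' (W.mkQ (Pi.single j 1))

theorem isConstructible_injLocus (A : Type u) [CommRing A] {B : Type u} [CommRing B] [Algebra A B]
    [Algebra.FinitePresentation A B] (N : Type u) [AddCommGroup N] [Module B N] [Module A N]
    [IsScalarTower A B N] [Module.FinitePresentation B N] {m : ℕ} (f : Fin m → B) :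
    IsConstructible (injLocus A N f) := by
  classical
  obtain ⟨a, π, hπ, hK⟩ : ∃ (a : ℕ) (π : (Fin a → B) →ₗ[B] N), Function.Surjective π ∧ (LinearMap.ker π).FG := by
    obtain ⟨a, π, hπ⟩ := Module.Finite.exists_fin' B N
    exact ⟨a, π, hπ, Module.FinitePresentation.fg_ker π hπ⟩
  obtain ⟨b, v, hv⟩ := Submodule.fg_iff_exists_fin_generating_family.1 hK
  obtain ⟨A₁, B₁, _, _, _, _, _, _, _, _, _, _, _, h⟩ := RichLib.FibreLoci.exists_model (A := A) (B := B)
    ((Finset.univ.image f) ∪ Finset.univ.image fun ij : Fin b × Fin a => v ij.1 ij.2)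
  choose f₁ hf₁ using fun j => h (f j) (Finset.mem_union_left _ (Finset.mem_image_of_mem f (Finset.mem_univ j)))
  choose w hw using fun (i : Fin b) (j : Fin a) => h (v i j)
    (Finset.mem_union_right _ (Finset.mem_image.2 ⟨(i, j), Finset.mem_univ _, rfl⟩))
  letI : Module B₁ N := Module.compHom N (algebraMap B₁ B)
  haveI : IsScalarTower B₁ B N := IsScalarTower.of_algebraMap_smul fun _ _ => rfl
  obtain ⟨g, hg⟩ := exists_module_model π hπ v hv.symm w hw
  haveI : Algebra.IsPushout A₁ B₁ A B := Algebra.IsPushout.symm inferInstance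
  rw [show f = fun j => algebraMap B₁ B (f₁ j) from funext fun j => (hf₁ j).symm, injLocus_baseChange (R₀ := A₁) g hg f₁]
  exact isConstructible_preimage_comap _ (isConstructible_injLocus_noetherian A₁ ((Fin a → B₁) ⧸ Submodule.span B₁ (Set.range w)) f₁)

/-- A constructible set containing all generalisations of a point contains a neighbourhood. -/
theorem exists_basicOpen_of_generalisations {A : Type u} [CommRing A] {E : Set (PrimeSpectrum A)}
    (hE : IsConstructible E) (p : PrimeSpectrum A) (h : ∀ t : PrimeSpectrum A, t.asIdeal ≤ p.asIdeal → t ∈ E) :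
    ∃ g : A, g ∉ p.asIdeal ∧ ∀ t : PrimeSpectrum A, g ∉ t.asIdeal → t ∈ E := by
  obtain ⟨S, _, φ, hφ⟩ := PrimeSpectrum.exists_range_eq_of_isConstructible hE.compl
  obtain ⟨g, hgk, hgp⟩ : ∃ g ∈ RingHom.ker φ, g ∉ p.asIdeal := by
    by_contra hno
    push Not at hno
    obtain ⟨Q, hQ, hQp⟩ := Ideal.exists_minimalPrimes_le (show RingHom.ker φ ≤ p.asIdeal from hno)
    haveI := hQ.1.1
    obtain ⟨Q', hQ', -, hQQ⟩ := Ideal.exists_comap_eq_of_mem_minimalPrimes φ (I := ⊥) Q
      (by rwa [← RingHom.ker_eq_comap_bot])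
    refine (hφ.le ⟨⟨Q', hQ'⟩, rfl⟩) (h _ ?_)
    exact (PrimeSpectrum.comap_asIdeal φ _).le.trans (hQQ.le.trans hQp)
  refine ⟨g, hgp, fun t ht => ?_⟩
  by_contra htE
  obtain ⟨s, rfl⟩ := hφ.ge htE
  exact ht (by show φ g ∈ s.asIdeal; rw [RingHom.mem_ker.1 hgk]; exact zero_mem _)

end Constr

section Pure

variable {A B : Type u} [CommRing A] [CommRing B] [Algebra A B] {N : Type u} [AddCommGroup N] [Module B N]
  [Module A N] [IsScalarTower A B N] {m : ℕ} (f : Fin m → B) (p : Ideal A) [p.IsPrime]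

/-- Purity: the condition holds at the generalisations of a point over which the family has no common zero. -/
theorem injAt_of_pure [Algebra.FiniteType A B] (hpure : FlatCA.IsPureAlong A B N p)
    (hf : ∀ (Q : Ideal B) [Q.IsPrime], Q.LiesOver p → ∃ j, f j ∉ Q) (t : Ideal A) [t.IsPrime] (ht : t ≤ p) :
    InjAt A N f t := by
  by_contra hno
  obtain ⟨P, hP, hfP⟩ := exists_ass_of_not_injAt f t hno
  haveI : P.IsPrime := IsAssociatedPrime.isPrime hP
  haveI := FlatInjLib.comap_incl_liesOver (S := B) t P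
  haveI : Algebra.IsPushout A B A B := FlatInDimLib.isPushout_self B
  have hid : IsBaseChange B (LinearMap.id : N →ₗ[B] N) :=
    IsBaseChange.of_equiv (TensorProduct.lid B N) fun _ => one_smul _ _
  have hn : FlatCA.IsEtaleNhd A A p p := DevissExLib.isEtaleNhd_refl p
  have := hpure A B N LinearMap.id t p (P.comap (FibAssLib.incl B t)) hn
  refine this ⟨inferInstance, hid, ht, ⟨(Ideal.comap_id p).symm⟩, inferInstance, ?_, fun P' _ hle hP' => ?_⟩
  · rw [FlatInjLib.fiberIdeal_comap t P]; exact hP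
  · obtain ⟨j, hj⟩ := hf P' hP'
    exact hj (hle (hfP j))

/-- Purity along the fibre over `p` gives the condition near `p`. -/
theorem exists_injAt_nhd [Algebra.FinitePresentation A B] [Module.FinitePresentation B N]
    (hpure : FlatCA.IsPureAlong A B N p)
    (hf : ∀ (Q : Ideal B) [Q.IsPrime], Q.LiesOver p → ∃ j, f j ∉ Q) :
    ∃ g : A, g ∉ p ∧ ∀ (t : Ideal A) [t.IsPrime], g ∉ t → InjAt A N f t := by
  obtain ⟨g, hg, H⟩ := exists_basicOpen_of_generalisations (isConstructible_injLocus A N f)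
    ⟨p, inferInstance⟩ fun t ht => injAt_of_pure f p hpure hf t.asIdeal ht
  exact ⟨g, hg, fun t _ ht => H ⟨t, inferInstance⟩ ht⟩

end Pure

end PureFlatLib
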