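import Groth.Agent.FlatInjLib.AssFlat
import Groth.Agent.DevissShrinkLib.Push
import Groth.Agent.RichLib.FibreLociGeneral
import Mathlib

/-!
# The locus where a family of elements has no common zero at the associated points of the fibres
-/

set_option autoImplicit false
set_option linter.all false
set_option maxHeartbeats 1000000

universe u

open scoped TensorProduct

namespace PureFlatLib

section KF

/-- No nonzero element of `K ⊗ N` is killed by all the maps. -/
def KF (R : Type u) [CommRing R] {N : Type u} [AddCommGroup N] [Module R N] {m : ℕ} (φ : Fin m → N →ₗ[R] N)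
    (K : Type u) [CommRing K] [Algebra R K] : Prop :=
  ∀ z : K ⊗[R] N, (∀ j, (φ j).lTensor K z = 0) → z = 0

variable {R : Type u} [CommRing R] {N : Type u} [AddCommGroup N] [Module R N] {m : ℕ} {φ : Fin m → N →ₗ[R] N}

theorem kf_of_equiv {S : Type u} [CommRing S] {M : Type u} [AddCommGroup M] [Module S M] {ψ : Fin m → M →ₗ[S] M}
    {K L : Type u} [CommRing K] [CommRing L] [Algebra R K] [Algebra S L] (e : K ⊗[R] N ≃+ L ⊗[S] M)
    (he : ∀ j z, e ((φ j).lTensor K z) = (ψ j).lTensor L (e z)) : KF R φ K ↔ KF S ψ L := by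
  constructor
  · intro h w hw
    obtain ⟨z, rfl⟩ := e.surjective w
    rw [h z fun j => e.injective (by rw [he, hw, map_zero]), map_zero]
  · intro h z hz
    exact e.injective (by rw [h (e z) fun j => by rw [← he, hz, map_zero], map_zero])

theorem kf_iff_injective (K : Type u) [CommRing K] [Algebra R K] :
    KF R φ K ↔ Function.Injective ((LinearMap.pi φ).lTensor K) := by
  have hc : ∀ (z : K ⊗[R] N) (j : Fin m), TensorProduct.piRight R R K (fun _ : Fin m => N) ((LinearMap.pi φ).lTensor K z) j =
      (φ j).lTensor K z := fun z j => by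
    induction z using TensorProduct.induction_on with
    | zero => simp
    | add a b ha hb => simp only [map_add, Pi.add_apply, ha, hb]
    | tmul a b => simp
  rw [injective_iff_map_eq_zero]
  refine forall_congr' fun z => ?_
  rw [← (TensorProduct.piRight R R K (fun _ : Fin m => N)).map_eq_zero_iff, funext_iff]
  simp only [hc, Pi.zero_apply]

theorem kf_fieldExt (k K : Type u) [Field k] [Field K] [Algebra k K] [Algebra R k] [Algebra R K]
    [IsScalarTower R k K] : KF R φ K ↔ KF R φ k := by
  rw [kf_iff_injective, kf_iff_injective]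
  let θ := LinearMap.pi φ
  let θ' : k ⊗[R] N →ₗ[k] k ⊗[R] (Fin m → N) := θ.baseChange k
  let eN := TensorProduct.AlgebraTensorModule.cancelBaseChange R k K K N
  let eM := TensorProduct.AlgebraTensorModule.cancelBaseChange R k K K (Fin m → N)
  have hc : ∀ z, eM (θ'.lTensor K z) = θ.lTensor K (eN z) := fun z => by
    induction z using TensorProduct.induction_on with
    | zero => simp
    | add a b ha hb => simp only [map_add, ha, hb]
    | tmul a b =>
      induction b using TensorProduct.induction_on with
      | zero => simp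
      | add c d hc hd => simp only [TensorProduct.tmul_add, map_add, hc, hd]
      | tmul c d => simp [eN, eM, θ']
  have h1 : Function.Injective (θ.lTensor K) ↔ Function.Injective (θ'.lTensor K) := by
    rw [show ⇑(θ.lTensor K) = eM ∘ θ'.lTensor K ∘ eN.symm from funext fun z => by
      simp only [Function.comp_apply, hc, LinearEquiv.apply_symm_apply]]
    rw [eM.injective.of_comp_iff]
    refine ⟨fun h a b hab => eN.symm.symm.injective.eq_iff.1 ?_, fun h => h.comp eN.symm.injective⟩
    exact h (by simp only [Function.comp_apply, LinearEquiv.symm_apply_apply, LinearEquiv.symm_symm, hab])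
  exact h1.trans (Module.FaithfullyFlat.lTensor_injective_iff_injective k K θ')

theorem kf_changeBase {R₀ N₀ : Type u} [CommRing R₀] [Algebra R₀ R] [AddCommGroup N₀] [Module R₀ N₀]
    [Module R₀ N] [IsScalarTower R₀ R N] {φ₀ : Fin m → N₀ →ₗ[R₀] N₀} (f : N₀ →ₗ[R₀] N) (hf : IsBaseChange R f)
    (hφ : ∀ j x, φ j (f x) = f (φ₀ j x)) (K : Type u) [CommRing K] [Algebra R K] [Algebra R₀ K]
    [IsScalarTower R₀ R K] : KF R φ K ↔ KF R₀ φ₀ K := by
  let e₁ := (TensorProduct.AlgebraTensorModule.cancelBaseChange R₀ R K K N₀).symm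
  let e₂ := TensorProduct.congr (LinearEquiv.refl R K) hf.equiv
  let e : K ⊗[R₀] N₀ ≃+ K ⊗[R] N := e₁.toAddEquiv.trans e₂.toAddEquiv
  have he : ∀ k x, e (k ⊗ₜ[R₀] x) = k ⊗ₜ[R] f x := fun k x => by
    show e₂ (e₁ (k ⊗ₜ[R₀] x)) = _
    rw [TensorProduct.AlgebraTensorModule.cancelBaseChange_symm_tmul, TensorProduct.congr_tmul, hf.equiv_tmul,
      one_smul]
    rfl
  refine (kf_of_equiv e fun j z => ?_).symm
  induction z using TensorProduct.induction_on with
  | zero => simp
  | add a b ha hb => simp only [map_add, ha, hb]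
  | tmul k x => rw [LinearMap.lTensor_tmul, he, he, LinearMap.lTensor_tmul, hφ]

end KF

/-- The multiplications by the elements of a family. -/
def mulF (R : Type u) [CommRing R] {B : Type u} [CommRing B] [Algebra R B] (N : Type u) [AddCommGroup N]
    [Module B N] [Module R N] [IsScalarTower R B N] {m : ℕ} (f : Fin m → B) : Fin m → N →ₗ[R] N :=
  fun j => (LinearMap.lsmul B N (f j)).restrictScalars R

/-- No associated point of the fibre over `t` is a common zero of the family. -/
def InjAt (R : Type u) [CommRing R] {B : Type u} [CommRing B] [Algebra R B] (N : Type u) [AddCommGroup N]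
    [Module B N] [Module R N] [IsScalarTower R B N] {m : ℕ} (f : Fin m → B) (t : Ideal R) [t.IsPrime] : Prop :=
  KF R (mulF R N f) t.ResidueField

section BC

variable {R₀ R B₀ B : Type u} [CommRing R₀] [CommRing R] [CommRing B₀] [CommRing B] [Algebra R₀ R] [Algebra R₀ B₀]
  [Algebra R B] [Algebra R₀ B] [Algebra B₀ B] [IsScalarTower R₀ R B] [IsScalarTower R₀ B₀ B]
  [Algebra.IsPushout R₀ B₀ R B]
  {N₀ N : Type u} [AddCommGroup N₀] [Module B₀ N₀] [Module R₀ N₀] [IsScalarTower R₀ B₀ N₀]
  [AddCommGroup N] [Module B N] [Module B₀ N] [IsScalarTower B₀ B N] [Module R N] [IsScalarTower R B N]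
  (g : N₀ →ₗ[B₀] N) (hg : IsBaseChange B g) {m : ℕ} (f₀ : Fin m → B₀)

include hg in
/-- The condition is insensitive to base change. -/
theorem injAt_baseChange (t : Ideal R) [t.IsPrime] (t₀ : Ideal R₀) [t₀.IsPrime] [t.LiesOver t₀] :
    InjAt R N (fun j => algebraMap B₀ B (f₀ j)) t ↔ InjAt R₀ N₀ f₀ t₀ := by
  letI : Module R₀ N := Module.compHom N (algebraMap R₀ R)
  haveI : IsScalarTower R₀ R N := IsScalarTower.of_algebraMap_smul fun _ _ => rfl
  haveI : IsScalarTower R₀ B₀ N := IsScalarTower.of_algebraMap_smul fun r x => by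
    show algebraMap R₀ B₀ r • x = algebraMap R₀ R r • x
    rw [← algebraMap_smul B (algebraMap R₀ B₀ r), ← algebraMap_smul B (algebraMap R₀ R r),
      ← IsScalarTower.algebraMap_apply, ← IsScalarTower.algebraMap_apply]
  haveI : Algebra.IsPushout R₀ R B₀ B := Algebra.IsPushout.symm inferInstance
  have hb := DevissShrinkLib.isBaseChange_restrict (P := R₀) (P' := R) g hg
  let k := t₀.ResidueField
  let K := t.ResidueField
  letI : Algebra k K := (Ideal.ResidueField.map t₀ t (algebraMap R₀ R) (Ideal.over_def t t₀)).toAlgebra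
  haveI : IsScalarTower R₀ k K := IsScalarTower.of_algebraMap_eq fun r => by
    show algebraMap R₀ K r = Ideal.ResidueField.map t₀ t (algebraMap R₀ R) _ (algebraMap R₀ k r)
    rw [Ideal.ResidueField.map_algebraMap, ← IsScalarTower.algebraMap_apply R₀ R K]
  refine (kf_changeBase (g.restrictScalars R₀) hb (fun j x => ?_) K).trans (kf_fieldExt k K)
  show algebraMap B₀ B (f₀ j) • g x = g (f₀ j • x)
  rw [map_smul, algebraMap_smul]

end BC

section Fibre

variable {R B : Type u} [CommRing R] [CommRing B] [Algebra R B] {N : Type u} [AddCommGroup N] [Module B N]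
  [Module R N] [IsScalarTower R B N] {m : ℕ} (f : Fin m → B) (t : Ideal R) [t.IsPrime]

attribute [local instance] Algebra.TensorProduct.rightAlgebra

variable (N) in
theorem exists_fibre_equiv : ∃ e : t.ResidueField ⊗[R] N ≃+ FlatCA.fiberMod t B N,
    ∀ (b : B) z, e (((LinearMap.lsmul B N b).restrictScalars R).lTensor t.ResidueField z) =
      FibAssLib.incl B t b • e z := by
  let F := t.Fiber B
  let g : N →ₗ[B] F ⊗[B] N := TensorProduct.mk B F N 1
  haveI : Algebra.IsPushout R t.ResidueField B F :=
    inferInstanceAs (Algebra.IsPushout R t.ResidueField B (t.ResidueField ⊗[R] B))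
  have hb := DevissShrinkLib.isBaseChange_restrict (P := R) (P' := t.ResidueField) g
    (TensorProduct.isBaseChange B N F)
  refine ⟨hb.equiv.toAddEquiv, fun b z => ?_⟩
  show hb.equiv _ = FibAssLib.incl B t b • hb.equiv z
  induction z using TensorProduct.induction_on with
  | zero => simp
  | add a c ha hc => simp only [map_add, smul_add, ha, hc]
  | tmul k x =>
    rw [LinearMap.lTensor_tmul, hb.equiv_tmul, hb.equiv_tmul]
    show k • g (b • x) = FibAssLib.incl B t b • k • g x
    rw [map_smul, smul_comm (FibAssLib.incl B t b) k]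
    congr 1

theorem injAt_iff_fibre : InjAt R N f t ↔
    ∀ z : FlatCA.fiberMod t B N, (∀ j, FibAssLib.incl B t (f j) • z = 0) → z = 0 := by
  obtain ⟨e, he⟩ := exists_fibre_equiv (R := R) (B := B) N t
  constructor
  · intro h z hz
    obtain ⟨w, rfl⟩ := e.surjective z
    rw [h w fun j => e.injective ((he (f j) w).trans ((hz j).trans (map_zero e).symm)), map_zero]
  · intro h w hw
    refine e.injective ((h (e w) fun j => ?_).trans (map_zero e).symm)
    rw [← he]
    exact (congrArg e (hw j)).trans (map_zero e)

/-- An associated point of the fibre is not a common zero. -/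
theorem exists_notMem_of_injAt [Algebra.FiniteType R B] (h : InjAt R N f t) {P : Ideal (t.Fiber B)}
    (hP : P ∈ associatedPrimes (t.Fiber B) (FlatCA.fiberMod t B N)) :
    ∃ j, f j ∉ P.comap (FibAssLib.incl B t) := by
  by_contra hno
  push Not at hno
  haveI : IsNoetherianRing (t.Fiber B) := Algebra.FiniteType.isNoetherianRing t.ResidueField _
  obtain ⟨hPp, x, hx⟩ := isAssociatedPrime_iff.1 hP
  have h0 : x = 0 := (injAt_iff_fibre f t).1 h x fun j => by
    have : FibAssLib.incl B t (f j) ∈ P := hno j
    rw [hx, Submodule.mem_colon_singleton, Submodule.mem_bot] at this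
    exact this
  refine hPp.ne_top ((Ideal.eq_top_iff_one _).2 ?_)
  rw [hx, Submodule.mem_colon_singleton, Submodule.mem_bot, h0, smul_zero]

/-- If the condition fails then an associated point of the fibre is a common zero. -/
theorem exists_ass_of_not_injAt [Algebra.FiniteType R B] (h : ¬ InjAt R N f t) :
    ∃ P : Ideal (t.Fiber B), P ∈ associatedPrimes (t.Fiber B) (FlatCA.fiberMod t B N) ∧
      ∀ j, f j ∈ P.comap (FibAssLib.incl B t) := by
  rw [injAt_iff_fibre] at h
  push Not at h
  obtain ⟨z, hz, hz0⟩ := h
  haveI : IsNoetherianRing (t.Fiber B) := Algebra.FiniteType.isNoetherianRing t.ResidueField _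
  obtain ⟨P, hP, hle⟩ := exists_le_isAssociatedPrime_of_isNoetherianRing (R := t.Fiber B) z hz0
  refine ⟨P, hP, fun j => hle ?_⟩
  rw [Submodule.mem_colon_singleton, Submodule.mem_bot]
  exact hz j

end Fibre

end PureFlatLib
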