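import Groth.Agent.PureFlatLib.FDim
import Groth.Agent.PureFlatLib.Inj
import Groth.Agent.DevissExLib.FibreEtale
import Groth.Agent.FlatInjLib.AssFlat
import Mathlib

/-!
# Flatness in dimensions `≥ n` along étale covers of the associated points
-/

set_option autoImplicit false
set_option linter.all false
set_option maxHeartbeats 1000000

universe u

open scoped TensorProduct

namespace PureFlatLib

open DevissExLib

section Trd

variable {R B : Type u} [CommRing R] [CommRing B] [Algebra R B] [Algebra.FiniteType R B]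

theorem trd_le_of_le (t : Ideal R) [t.IsPrime] {Q' Q : Ideal B} [Q'.IsPrime] [Q.IsPrime] [Q'.LiesOver t]
    [Q.LiesOver t] (hle : Q' ≤ Q) : trd t Q ≤ trd t Q' := by
  obtain ⟨y', hy'⟩ := (mem_range_comap_incl t (⟨Q', inferInstance⟩ : PrimeSpectrum B)).2 (Ideal.over_def Q' t).symm
  obtain ⟨y, hy⟩ := (mem_range_comap_incl t (⟨Q, inferInstance⟩ : PrimeSpectrum B)).2 (Ideal.over_def Q t).symm
  have h' : y'.asIdeal.comap (FibAssLib.incl B t) = Q' := congrArg PrimeSpectrum.asIdeal hy'
  have h : y.asIdeal.comap (FibAssLib.incl B t) = Q := congrArg PrimeSpectrum.asIdeal hy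
  obtain ⟨s, hs, hs'⟩ := exists_dim_eq_trd t y.asIdeal Q h.symm
  obtain ⟨s₂, hs₂, hs₂'⟩ := exists_dim_eq_trd t y'.asIdeal Q' h'.symm
  have hyy : y'.asIdeal ≤ y.asIdeal := by
    rw [← FlatInjLib.fiberIdeal_comap t y'.asIdeal, ← FlatInjLib.fiberIdeal_comap t y.asIdeal, h, h']
    exact Ideal.map_mono hle
  have h1 : ringKrullDim (t.Fiber B ⧸ y.asIdeal) ≤ ringKrullDim (t.Fiber B ⧸ y'.asIdeal) :=
    ringKrullDim_le_of_surjective (Ideal.Quotient.factor hyy) (Ideal.Quotient.factor_surjective hyy)
  rw [hs, hs₂] at h1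
  rw [hs', hs₂']
  exact_mod_cast h1

theorem trd_le_of_gen {a : ℕ} (φ : MvPolynomial (Fin a) R →ₐ[R] B) (hφ : Function.Surjective φ) (t : Ideal R)
    [t.IsPrime] (Q : Ideal B) [Q.IsPrime] [Q.LiesOver t] : trd t Q ≤ (a : Cardinal.{u}) := by
  obtain ⟨y, hy⟩ := (mem_range_comap_incl t (⟨Q, inferInstance⟩ : PrimeSpectrum B)).2 (Ideal.over_def Q t).symm
  obtain ⟨s, hs, hs'⟩ := exists_dim_eq_trd t y.asIdeal Q (congrArg PrimeSpectrum.asIdeal hy).symm
  let K := t.ResidueField
  let ψ : MvPolynomial (Fin a) K →ₐ[K] t.Fiber B :=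
    MvPolynomial.aeval fun i => (1 : K) ⊗ₜ[R] φ (MvPolynomial.X i)
  have hψ : Function.Surjective ψ := fun z => by
    induction z using TensorProduct.induction_on with
    | zero => exact ⟨0, map_zero _⟩
    | add u v hu hv =>
      obtain ⟨u', rfl⟩ := hu
      obtain ⟨v', rfl⟩ := hv
      exact ⟨u' + v', map_add _ _ _⟩
    | tmul c b =>
      obtain ⟨q, rfl⟩ := hφ b
      refine ⟨MvPolynomial.C c * MvPolynomial.map (algebraMap R K) q, ?_⟩
      have h1 : ψ (MvPolynomial.map (algebraMap R K) q) = (1 : K) ⊗ₜ[R] φ q := by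
        show MvPolynomial.aeval _ _ = _
        rw [MvPolynomial.aeval_map_algebraMap]
        show _ = ((Algebra.TensorProduct.includeRight : B →ₐ[R] t.Fiber B).comp φ) q
        rw [MvPolynomial.aeval_unique ((Algebra.TensorProduct.includeRight : B →ₐ[R] t.Fiber B).comp φ)]
        rfl
      rw [map_mul, h1, show ψ (MvPolynomial.C c) = algebraMap K (t.Fiber B) c from MvPolynomial.aeval_C _ _]
      show (c ⊗ₜ[R] (1 : B)) * ((1 : K) ⊗ₜ[R] φ q) = _
      rw [Algebra.TensorProduct.tmul_mul_tmul, mul_one, one_mul]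
  have h1 : ringKrullDim (t.Fiber B ⧸ y.asIdeal) ≤ ringKrullDim (MvPolynomial (Fin a) K) :=
    ringKrullDim_le_of_surjective ((Ideal.Quotient.mk y.asIdeal).comp ψ.toRingHom)
      (Ideal.Quotient.mk_surjective.comp hψ)
  rw [hs, MvPolynomial.ringKrullDim_of_isNoetherianRing, ringKrullDim_eq_zero_of_field, zero_add] at h1
  simp only [Nat.card_eq_fintype_card, Fintype.card_fin] at h1
  rw [hs']
  exact_mod_cast h1

end Trd

section Cover

variable {R B : Type u} [CommRing R] [CommRing B] [Algebra R B] [Algebra.FiniteType R B]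
  {N : Type u} [AddCommGroup N] [Module B N] [Module R N] [IsScalarTower R B N] [Module.Finite B N]
  {m : ℕ} (f : Fin m → B) {ι : Type*} (C : ι → Type u) [∀ i, CommRing (C i)] [∀ i, Algebra B (C i)]
  [∀ i, Algebra R (C i)] [∀ i, IsScalarTower R B (C i)] [∀ i, Algebra.Etale B (C i)]
  (M : ι → Type u) [∀ i, AddCommGroup (M i)] [∀ i, Module (C i) (M i)] [∀ i, Module B (M i)]
  [∀ i, IsScalarTower B (C i) (M i)] [∀ i, Module R (M i)] [∀ i, IsScalarTower R (C i) (M i)]
  (φ : ∀ i, N →ₗ[B] M i) (hφ : ∀ i, IsBaseChange (C i) (φ i)) {n : ℕ}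

include hφ in
/-- If the associated points of all fibres are covered, flatness in dimensions `≥ n` descends. -/
theorem flatInDimGE_of_cover (hinj : ∀ (t : Ideal R) [t.IsPrime], InjAt R N f t)
    (hcov : ∀ (q : Ideal B) [q.IsPrime] (j : Fin m), f j ∉ q →
      ∃ (i : ι) (q' : Ideal (C i)), q'.IsPrime ∧ q'.comap (algebraMap B (C i)) = q)
    (h : ∀ i, FlatCA.FlatInDimGE n R (C i) (M i)) : FlatCA.FlatInDimGE n R B N := by
  intro t Q _ _ _ hQ
  obtain ⟨P, hP, hPp, hle, hne⟩ : ∃ (P : Ideal (t.Fiber B)) (_ : P ∈ associatedPrimes (t.Fiber B) (FlatCA.fiberMod t B N))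
      (_ : P.IsPrime), P.comap (FibAssLib.incl B t) ≤ Q ∧ ¬ FlatCA.FlatAt R (P.comap (FibAssLib.incl B t)) N := by
    by_contra hno
    exact hQ (FlatInjLib.flatAt_of_ass t Q fun P hP _ hle => by_contra fun hne => hno ⟨P, hP, inferInstance, hle, hne⟩)
  let q := P.comap (FibAssLib.incl B t)
  haveI : q.IsPrime := Ideal.IsPrime.comap _
  haveI : q.LiesOver t := FlatInjLib.comap_incl_liesOver (S := B) t P
  obtain ⟨j, hj⟩ := exists_notMem_of_injAt f t (hinj t) hP
  obtain ⟨i, q', hq', hq⟩ := hcov q j hj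
  haveI : q'.LiesOver q := ⟨hq.symm⟩
  haveI : q'.LiesOver t := Ideal.LiesOver.trans q' q t
  refine lt_of_le_of_lt (trd_le_of_le t hle) ?_
  rw [← trd_etale (C := C i) t q q']
  exact h i t q' fun hfl => hne ((flatAt_etale_iff (φ i) (hφ i) q q').1 hfl)

end Cover

section Transfer

variable {A B C : Type u} [CommRing A] [CommRing B] [CommRing C] [Algebra A B] [Algebra B C] [Algebra A C]
  [IsScalarTower A B C]
  {N M : Type u} [AddCommGroup N] [Module B N] [AddCommGroup M] [Module C M] [Module B M] [IsScalarTower B C M]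
  (g : N →ₗ[B] M) (hg : IsBaseChange C g)
  {T BT CT NT MT : Type u} [CommRing T] [Algebra A T] [CommRing BT] [Algebra T BT] [Algebra A BT] [Algebra B BT]
  [IsScalarTower A T BT] [IsScalarTower A B BT] [Algebra.IsPushout A B T BT]
  [CommRing CT] [Algebra BT CT] [Algebra C CT] [Algebra B CT] [Algebra T CT] [Algebra A CT]
  [IsScalarTower B C CT] [IsScalarTower B BT CT] [IsScalarTower T BT CT] [IsScalarTower A T CT]
  [IsScalarTower A C CT] [Algebra.IsPushout B C BT CT]
  [AddCommGroup NT] [Module BT NT] [Module B NT] [IsScalarTower B BT NT] (gN : N →ₗ[B] NT) (hgN : IsBaseChange BT gN)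
  [AddCommGroup MT] [Module CT MT] [Module BT MT] [Module T MT] [IsScalarTower BT CT MT] [IsScalarTower T CT MT]
  (gM : NT →ₗ[BT] MT) (hgM : IsBaseChange CT gM) {n : ℕ}

include hg hgN hgM in
theorem fdim_etale_model : FDim A n T C M ↔ FlatCA.FlatInDimGE n T CT MT := by
  haveI : IsScalarTower A BT CT := IsScalarTower.of_algebraMap_eq fun a => by
    rw [IsScalarTower.algebraMap_apply A B BT, ← IsScalarTower.algebraMap_apply B BT CT,
      IsScalarTower.algebraMap_apply A C CT, IsScalarTower.algebraMap_apply A B C,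
      ← IsScalarTower.algebraMap_apply B C CT]
  haveI : Algebra.IsPushout A C T CT := (Algebra.IsPushout.comp_iff A B (T := C) T BT (T' := CT)).2 inferInstance
  letI : Module B MT := Module.compHom MT (algebraMap B CT)
  letI : Module C MT := Module.compHom MT (algebraMap C CT)
  haveI : IsScalarTower B CT MT := IsScalarTower.of_algebraMap_smul fun _ _ => rfl
  haveI : IsScalarTower C CT MT := IsScalarTower.of_algebraMap_smul fun _ _ => rfl
  haveI : IsScalarTower B C MT := IsScalarTower.of_algebraMap_smul fun b x => by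
    show algebraMap C CT (algebraMap B C b) • x = algebraMap B CT b • x
    rw [← IsScalarTower.algebraMap_apply]
  haveI : IsScalarTower B BT MT := IsScalarTower.of_algebraMap_smul fun b x => by
    show algebraMap B BT b • x = algebraMap B CT b • x
    rw [IsScalarTower.algebraMap_apply B BT CT, algebraMap_smul CT (algebraMap B BT b) x]
  let c : N →ₗ[B] MT := (gM.restrictScalars B).comp gN
  have hc : IsBaseChange CT c := hgN.comp hgM
  exact fdim_iff_model (hg.lift c) (IsBaseChange.of_comp hg (by rw [hg.lift_comp]; exact hc))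

theorem fdim_etale_aux [Module T NT] [IsScalarTower T BT NT] [Algebra.Etale BT CT]
    (hg : IsBaseChange C g) (hgN : IsBaseChange BT gN) (hgM : IsBaseChange CT gM)
    (h : FDim A n T B N) : FDim A n T C M :=
  (fdim_etale_model g hg gN hgN gM hgM).2 (flatInDimGE_etale gM hgM ((fdim_iff_model gN hgN).1 h))

/-- A prime of the base change over a prime which is in the image. -/
theorem exists_over_pushout (Q : Ideal BT) [Q.IsPrime] (q' : Ideal C) [q'.IsPrime]
    (h : q'.comap (algebraMap B C) = Q.comap (algebraMap B BT)) :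
    ∃ Q' : Ideal CT, Q'.IsPrime ∧ Q'.comap (algebraMap BT CT) = Q := by
  let q := Q.comap (algebraMap B BT)
  haveI : Q.LiesOver q := ⟨rfl⟩
  haveI : q'.LiesOver q := ⟨h.symm⟩
  haveI : Algebra.IsPushout B BT C CT := Algebra.IsPushout.symm inferInstance
  obtain ⟨Q', hQ', hQQ, -, -⟩ := exists_over (R := B) (B := C) (R' := BT) (B' := CT) q q' Q
  exact ⟨Q', hQ', hQQ.over.symm⟩

end Transfer

section Main

attribute [local instance] Algebra.TensorProduct.rightAlgebra

variable {A B : Type u} [CommRing A] [CommRing B] [Algebra A B] [Algebra.FiniteType A B]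
  {N : Type u} [AddCommGroup N] [Module B N] [Module A N] [IsScalarTower A B N] [Module.Finite B N]
  {C M : Type u} [CommRing C] [Algebra B C] [Algebra A C] [IsScalarTower A B C] [Algebra.Etale B C]
  [AddCommGroup M] [Module C M] [Module B M] [IsScalarTower B C M]

theorem fdim_etale_step {T BT NT : Type u} [CommRing T] [Algebra A T] [CommRing BT] [Algebra T BT] [Algebra A BT]
    [Algebra B BT] [IsScalarTower A T BT] [IsScalarTower A B BT] [Algebra.IsPushout A B T BT]
    [AddCommGroup NT] [Module BT NT] [Module B NT] [IsScalarTower B BT NT] [Module T NT] [IsScalarTower T BT NT]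
    (g : N →ₗ[B] M) (hg : IsBaseChange C g) (gN : N →ₗ[B] NT) (hgN : IsBaseChange BT gN) {n : ℕ}
    (h : FDim A n T B N) : FDim A n T C M := by
  let CT := BT ⊗[B] C
  haveI : Algebra.IsPushout B C BT CT := Algebra.IsPushout.symm inferInstance
  haveI : IsScalarTower A C CT := IsScalarTower.of_algebraMap_eq fun a => by
    rw [IsScalarTower.algebraMap_apply A B C, ← IsScalarTower.algebraMap_apply B C CT,
      IsScalarTower.algebraMap_apply B BT CT, ← IsScalarTower.algebraMap_apply A B BT,
      ← IsScalarTower.algebraMap_apply A BT CT]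
  haveI : Algebra.Etale BT CT := inferInstance
  exact fdim_etale_aux g gN (TensorProduct.mk BT CT NT 1) hg hgN (TensorProduct.isBaseChange BT NT CT) h

/-- Going up along an étale algebra. -/
theorem fdim_etale (g : N →ₗ[B] M) (hg : IsBaseChange C g) {n : ℕ} (T : Type u) [CommRing T] [Algebra A T]
    (h : FDim A n T B N) : FDim A n T C M := by
  haveI : Algebra.IsPushout A B T (T ⊗[A] B) := Algebra.IsPushout.symm inferInstance
  exact fdim_etale_step g hg (TensorProduct.mk B (T ⊗[A] B) N 1) (TensorProduct.isBaseChange B N (T ⊗[A] B)) h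

end Main

section Descend

attribute [local instance] Algebra.TensorProduct.rightAlgebra

variable {A B : Type u} [CommRing A] [CommRing B] [Algebra A B] [Algebra.FiniteType A B]
  {N : Type u} [AddCommGroup N] [Module B N] [Module A N] [IsScalarTower A B N] [Module.Finite B N]
  {m : ℕ} (f : Fin m → B) {ι : Type*} (C : ι → Type u) [∀ i, CommRing (C i)] [∀ i, Algebra B (C i)]
  [∀ i, Algebra A (C i)] [∀ i, IsScalarTower A B (C i)] [∀ i, Algebra.Etale B (C i)]
  (M : ι → Type u) [∀ i, AddCommGroup (M i)] [∀ i, Module (C i) (M i)] [∀ i, Module B (M i)]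
  [∀ i, IsScalarTower B (C i) (M i)]
  (φ : ∀ i, N →ₗ[B] M i) (hφ : ∀ i, IsBaseChange (C i) (φ i)) {n : ℕ}

include hφ in
theorem fdim_descend_step {T BT NT : Type u} [CommRing T] [Algebra A T] [CommRing BT] [Algebra T BT] [Algebra A BT]
    [Algebra B BT] [IsScalarTower A T BT] [IsScalarTower A B BT] [Algebra.IsPushout A B T BT]
    [AddCommGroup NT] [Module BT NT] [Module B NT] [IsScalarTower B BT NT] [Module T NT] [IsScalarTower T BT NT]
    (gN : N →ₗ[B] NT) (hgN : IsBaseChange BT gN)
    (hinj : ∀ (t : Ideal T) [t.IsPrime], InjAt A N f (t.under A))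
    (hcov : ∀ (q : Ideal B) [q.IsPrime] (j : Fin m), f j ∉ q →
      ∃ (i : ι) (q' : Ideal (C i)), q'.IsPrime ∧ q'.comap (algebraMap B (C i)) = q)
    (h : ∀ i, FDim A n T (C i) (M i)) : FDim A n T B N := by
  haveI : Algebra.FiniteType T BT := by
    haveI : Algebra.IsPushout A T B BT := Algebra.IsPushout.symm inferInstance
    exact Algebra.FiniteType.of_surjective ((Algebra.IsPushout.equiv A T B BT).toAlgHom)
      (Algebra.IsPushout.equiv A T B BT).surjective
  haveI : Module.Finite BT NT := Module.Finite.of_surjective hgN.equiv.toLinearMap hgN.equiv.surjective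
  let CT := fun i => BT ⊗[B] C i
  haveI : ∀ i, Algebra.IsPushout B (C i) BT (CT i) := fun i => Algebra.IsPushout.symm inferInstance
  haveI : ∀ i, IsScalarTower A (C i) (CT i) := fun i => IsScalarTower.of_algebraMap_eq fun a => by
    rw [IsScalarTower.algebraMap_apply A B (C i), ← IsScalarTower.algebraMap_apply B (C i) (CT i),
      IsScalarTower.algebraMap_apply B BT (CT i), ← IsScalarTower.algebraMap_apply A B BT,
      ← IsScalarTower.algebraMap_apply A BT (CT i)]
  refine (fdim_iff_model gN hgN).2 (flatInDimGE_of_cover (fun j => algebraMap B BT (f j)) CT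
    (fun i => CT i ⊗[BT] NT) (fun i => TensorProduct.mk BT (CT i) NT 1)
    (fun i => TensorProduct.isBaseChange BT NT (CT i)) (fun t _ => ?_) (fun Q _ j hj => ?_) fun i =>
      (fdim_etale_model (φ i) (hφ i) gN hgN (TensorProduct.mk BT (CT i) NT 1)
        (TensorProduct.isBaseChange BT NT (CT i))).1 (h i))
  · haveI : t.LiesOver (t.under A) := ⟨rfl⟩
    exact (injAt_baseChange gN hgN f t (t.under A)).2 (hinj t)
  · obtain ⟨i, q', hq', hq⟩ := hcov (Q.comap (algebraMap B BT)) j hj
    exact ⟨i, exists_over_pushout (C := C i) (CT := CT i) Q q' hq⟩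

include hφ in
/-- Descending along an étale cover of the associated points. -/
theorem fdim_descend (T : Type u) [CommRing T] [Algebra A T]
    (hinj : ∀ (t : Ideal T) [t.IsPrime], InjAt A N f (t.under A))
    (hcov : ∀ (q : Ideal B) [q.IsPrime] (j : Fin m), f j ∉ q →
      ∃ (i : ι) (q' : Ideal (C i)), q'.IsPrime ∧ q'.comap (algebraMap B (C i)) = q)
    (h : ∀ i, FDim A n T (C i) (M i)) : FDim A n T B N := by
  haveI : Algebra.IsPushout A B T (T ⊗[A] B) := Algebra.IsPushout.symm inferInstance
  exact fdim_descend_step f C M φ hφ (TensorProduct.mk B (T ⊗[A] B) N 1) (TensorProduct.isBaseChange B N (T ⊗[A] B))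
    hinj hcov h

/-- All base changes are flat in dimensions beyond the number of generators. -/
theorem fdim_of_gen {a : ℕ} (ψ : MvPolynomial (Fin a) A →ₐ[A] B) (hψ : Function.Surjective ψ) (ha : a < n)
    (T : Type u) [CommRing T] [Algebra A T] : FDim A n T B N := by
  intro t Q _ _ _ _
  have hP : Function.Surjective (MvPolynomial.aeval (R := T) fun i => (1 : T) ⊗ₜ[A] ψ (MvPolynomial.X i) :
      MvPolynomial (Fin a) T →ₐ[T] T ⊗[A] B) := fun z => by
    induction z using TensorProduct.induction_on with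
    | zero => exact ⟨0, map_zero _⟩
    | add u v hu hv =>
      obtain ⟨u', rfl⟩ := hu
      obtain ⟨v', rfl⟩ := hv
      exact ⟨u' + v', map_add _ _ _⟩
    | tmul c b =>
      obtain ⟨q, rfl⟩ := hψ b
      refine ⟨MvPolynomial.C c * MvPolynomial.map (algebraMap A T) q, ?_⟩
      rw [map_mul, MvPolynomial.aeval_C, MvPolynomial.aeval_map_algebraMap]
      rw [show (MvPolynomial.aeval fun i => (1 : T) ⊗ₜ[A] ψ (MvPolynomial.X i)) q =
        ((Algebra.TensorProduct.includeRight : B →ₐ[A] T ⊗[A] B).comp ψ) q by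
          rw [MvPolynomial.aeval_unique ((Algebra.TensorProduct.includeRight : B →ₐ[A] T ⊗[A] B).comp ψ)]; rfl]
      show (c ⊗ₜ[A] (1 : B)) * ((1 : T) ⊗ₜ[A] ψ q) = _
      rw [Algebra.TensorProduct.tmul_mul_tmul, mul_one, one_mul]
  exact lt_of_le_of_lt (trd_le_of_gen _ hP t Q) (Nat.cast_lt.2 ha)

end Descend

end PureFlatLib
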