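import Groth.Agent.PureFlatLib.FDim
import Groth.Agent.PureFlatLib.Transfer
import Groth.Agent.PureFlatLib.InjConstr
import Groth.Agent.PureFlatLib.Desc
import Groth.Agent.FlatInDimLib.Strata
import Groth.Agent.FlatInDimLib.Rep
import Groth.Agent.FlatInDimLib.Chain
import Groth.Agent.DevissExLib.DevissCover
import Groth.Agent.GeomPureLib.Impurity.Comp
import Mathlib

/-!
# Representability of flatness in dimensions `≥ n` near a point, étale locally
-/

set_option autoImplicit false
set_option linter.all false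
set_option maxHeartbeats 1000000

universe u

open scoped TensorProduct
open CategoryTheory CategoryTheory.Limits AlgebraicGeometry

namespace PureFlatLib

/-- Along a complete dévissage. -/
theorem rep_devissage {A C M : Type u} [CommRing A] [CommRing C] [Algebra A C] [Algebra.FinitePresentation A C]
    [AddCommGroup M] [Module C M] [Module A M] [IsScalarTower A C M] [Module.FinitePresentation C M]
    {s : Ideal A} [s.IsPrime] (D : FlatCA.CompleteDevissage A C M s) (d : ℕ)
    (hflat : FlatCA.FlatInDimGE (d + 1) A C M) :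
    ∃ (g : A) (P : ∀ (T : Type u) [CommRing T] [Algebra A T], Prop), g ∉ s ∧ Rep A P ∧
      ∀ (T : Type u) [CommRing T] [Algebra A T], IsUnit (algebraMap A T g) → (FDim A d T C M ↔ P T) := by
  have hdim : ∀ i, i < D.n → ∃ (e : ℕ) (g : A), g ∉ s ∧ FlatInDimLib.FibDim e g (D.B i) := fun i hi => by
    haveI := D.smooth i hi
    exact FlatInDimLib.exists_fibDim (D.geomIrred i hi) s
  rcases FlatInDimLib.exists_reduction D d hflat hdim with
    ⟨g, hg, H⟩ | ⟨i, hi, ⟨g₀, hg₀, hs⟩, hfp, g, hg, H⟩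
  · exact ⟨g, fun T _ _ => True, hg, Rep.top fun T _ _ => trivial,
      fun T _ _ hu => iff_of_true ((fdim_iff_fdb hu).2 (H T)) trivial⟩
  · haveI := hfp
    haveI := D.smooth i hi
    obtain ⟨c, J, J', hfg, hmon, hJ⟩ := FlatInDimLib.exists_strata hs (D.M i) (D.geomIrred i hi)
    refine ⟨g * g₀, fun T _ _ => ∀ (t : Ideal T) [t.IsPrime], ∃ j ≤ c,
      J' j ≤ RingHom.ker (algebraMap A (Localization.AtPrime t)) ∧ ¬ (J j).map (algebraMap A T) ≤ t,
      Ideal.IsPrime.mul_notMem inferInstance hg hg₀, FlatInDimLib.exists_rep c J J' hfg hmon,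
      fun T _ _ hu => ?_⟩
    have hu₀ : IsUnit (algebraMap A T g₀) := by
      rw [map_mul] at hu
      exact isUnit_of_mul_isUnit_right hu
    refine (fdim_iff_fdb hu).trans ((H d _ (dvd_mul_right g g₀) T).trans ?_)
    refine Iff.trans ((FlatInDimLib.flatInDimGE_iff_of_isUnit hu).symm.trans
      (FlatInDimLib.flatInDimGE_iff_of_isUnit hu₀)) ((hJ T).trans ?_)
    exact ⟨fun h t ht => h t fun hm => ht.ne_top (Ideal.eq_top_of_isUnit_mem t hm hu₀), fun h t ht _ => h t⟩

/-- A finite family covering a fibre inside an open. -/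
theorem exists_finite_family {A B : Type u} [CommRing A] [CommRing B] [Algebra A B] (p : Ideal A) [p.IsPrime]
    (U : Set (PrimeSpectrum B)) (hU : IsOpen U)
    (h : ∀ w : PrimeSpectrum B, w.asIdeal.comap (algebraMap A B) = p → w ∈ U) :
    ∃ (m : ℕ) (f : Fin m → B), (∀ (w : PrimeSpectrum B) (j : Fin m), f j ∉ w.asIdeal → w ∈ U) ∧
      ∀ w : PrimeSpectrum B, w.asIdeal.comap (algebraMap A B) = p → ∃ j, f j ∉ w.asIdeal := by
  classical
  let I := {b : B // (PrimeSpectrum.basicOpen b : Set (PrimeSpectrum B)) ⊆ U}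
  obtain ⟨s, hs⟩ := (DevissExLib.isCompact_fibre (S := B) p).elim_finite_subcover
    (fun b : I => (PrimeSpectrum.basicOpen b.1 : Set (PrimeSpectrum B)))
    (fun b => (PrimeSpectrum.basicOpen b.1).2) fun w hw => by
      obtain ⟨_, ⟨_, ⟨b, rfl⟩, rfl⟩, hwb, hbU⟩ :=
        PrimeSpectrum.isBasis_basic_opens.exists_subset_of_mem_open (h w hw) hU
      exact Set.mem_iUnion.2 ⟨⟨b, hbU⟩, hwb⟩
  refine ⟨s.card, fun j => ((s.equivFin.symm j).1).1, fun w j hj => (s.equivFin.symm j).1.2 hj, fun w hw => ?_⟩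
  obtain ⟨b, hb⟩ := Set.mem_iUnion.1 (hs hw)
  obtain ⟨hbs, hwb⟩ := Set.mem_iUnion.1 hb
  exact ⟨s.equivFin ⟨b, hbs⟩, by simpa using hwb⟩

/-- The claim on an étale neighbourhood. -/
theorem rep_near {A BA NA : Type u} [CommRing A] [CommRing BA] [Algebra A BA] [Algebra.FinitePresentation A BA]
    [AddCommGroup NA] [Module BA NA] [Module A NA] [IsScalarTower A BA NA] [Module.FinitePresentation BA NA]
    (p : Ideal A) [p.IsPrime] (hpure : FlatCA.IsPureAlong A BA NA p) (n : ℕ)
    (hflat : FDim A (n + 1) A BA NA) {k : ℕ} (C : Fin k → Type u) [∀ i, CommRing (C i)] [∀ i, Algebra BA (C i)]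
    [∀ i, Algebra A (C i)] [∀ i, IsScalarTower A BA (C i)]
    (Nc : Fin k → Type u) [∀ i, AddCommGroup (Nc i)] [∀ i, Module (C i) (Nc i)] [∀ i, Module BA (Nc i)]
    [∀ i, IsScalarTower BA (C i) (Nc i)] (g : ∀ i, NA →ₗ[BA] Nc i)
    (hC : ∀ i, Algebra.Etale BA (C i) ∧ IsBaseChange (C i) (g i) ∧ Nonempty (FlatCA.CompleteDevissage A (C i) (Nc i) p))
    (hcov : ∀ (Q : Ideal BA) [Q.IsPrime], Q.LiesOver p →
      ∃ (i : Fin k) (Q' : Ideal (C i)), Q'.IsPrime ∧ Q'.comap (algebraMap BA (C i)) = Q) :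
    ∃ (h : A) (P : ∀ (T : Type u) [CommRing T] [Algebra A T], Prop), h ∉ p ∧ Rep A P ∧
      ∀ (T : Type u) [CommRing T] [Algebra A T], IsUnit (algebraMap A T h) → (FDim A n T BA NA ↔ P T) := by
  classical
  haveI : ∀ i, Algebra.Etale BA (C i) := fun i => (hC i).1
  haveI : ∀ i, Algebra.FinitePresentation A (C i) := fun i => Algebra.FinitePresentation.trans A BA (C i)
  haveI : ∀ i, Module.FinitePresentation (C i) (Nc i) := fun i =>
    FinitePresentation.of_isBaseChange (g i) (hC i).2.1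
  letI : ∀ i, Module A (Nc i) := fun i => Module.compHom (Nc i) (algebraMap A (C i))
  haveI : ∀ i, IsScalarTower A (C i) (Nc i) := fun i => IsScalarTower.of_algebraMap_smul fun _ _ => rfl
  have hpiece : ∀ i, ∃ (e : A) (P : ∀ (T : Type u) [CommRing T] [Algebra A T], Prop), e ∉ p ∧ Rep A P ∧
      ∀ (T : Type u) [CommRing T] [Algebra A T], IsUnit (algebraMap A T e) → (FDim A n T (C i) (Nc i) ↔ P T) := by
    intro i
    obtain ⟨D⟩ := (hC i).2.2
    exact rep_devissage D n (fdim_self.1 (fdim_etale (g i) (hC i).2.1 A hflat))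
  choose e P he hP hPe using hpiece
  let U : Set (PrimeSpectrum BA) := ⋃ i, Set.range (PrimeSpectrum.comap (algebraMap BA (C i)))
  have hU : IsOpen U := isOpen_iUnion fun i =>
    (PrimeSpectrum.isOpenMap_comap_of_hasGoingDown_of_finitePresentation (R := BA) (S := C i)).isOpen_range
  obtain ⟨m, f, hfU, hf⟩ := exists_finite_family p U hU fun w hw => by
    haveI : w.asIdeal.LiesOver p := ⟨hw.symm⟩
    obtain ⟨i, Q', hQ', hQQ⟩ := hcov w.asIdeal inferInstance
    exact Set.mem_iUnion.2 ⟨i, ⟨Q', hQ'⟩, PrimeSpectrum.ext hQQ⟩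
  obtain ⟨g₀, hg₀, hinj⟩ := exists_injAt_nhd f p hpure fun Q _ hQ => hf ⟨Q, inferInstance⟩ hQ.over.symm
  refine ⟨g₀ * ∏ i, e i, fun T _ _ => ∀ i, P i T, Ideal.IsPrime.mul_notMem inferInstance hg₀
    (Finset.prod_induction e (· ∉ p) (fun a b ha hb => Ideal.IsPrime.mul_notMem inferInstance ha hb)
      (fun h1 => Ideal.IsPrime.ne_top inferInstance ((Ideal.eq_top_iff_one p).2 h1)) fun i _ => he i),
    Rep.inter_fin hP, fun T _ _ hu => ?_⟩
  rw [map_mul, IsUnit.mul_iff] at hu
  have hue : ∀ i, IsUnit (algebraMap A T (e i)) := fun i => by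
    obtain ⟨c, hc⟩ := Finset.dvd_prod_of_mem e (Finset.mem_univ i)
    rw [hc, map_mul, IsUnit.mul_iff] at hu
    exact hu.2.1
  constructor
  · exact fun h i => (hPe i T (hue i)).1 (fdim_etale (g i) (hC i).2.1 T h)
  · intro h
    refine fdim_descend f C Nc g (fun i => (hC i).2.1) T (fun t _ => hinj _ fun hm => ?_) (fun Q _ j hj => ?_)
      fun i => (hPe i T (hue i)).2 (h i)
    · exact Ideal.IsPrime.ne_top (I := t) inferInstance (Ideal.eq_top_of_isUnit_mem t hm hu.1)
    · obtain ⟨i, ⟨Q', hQ'⟩, hQQ⟩ := Set.mem_iUnion.1 (hfU ⟨Q, inferInstance⟩ j hj)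
      exact ⟨i, Q', hQ', congrArg PrimeSpectrum.asIdeal hQQ⟩

/-- Representability on an étale neighbourhood of a point. -/
theorem exists_local {R B N : Type u} [CommRing R] [CommRing B] [Algebra R B] [Algebra.FinitePresentation R B]
    [AddCommGroup N] [Module B N] [Module R N] [IsScalarTower R B N] [Module.FinitePresentation B N]
    (p : Ideal R) [p.IsPrime] (hpure : FlatCA.IsPureAlong R B N p) (n : ℕ) (hflat : FDim R (n + 1) R B N) :
    ∃ (R'' : Type u) (_ : CommRing R'') (_ : Algebra R R''), Algebra.Etale R R'' ∧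
      (∃ p'' : Ideal R'', p''.IsPrime ∧ p''.comap (algebraMap R R'') = p) ∧
      ∃ (Z : Scheme.{u}) (z : Z ⟶ Spec (CommRingCat.of R'')), Mono z ∧ LocallyOfFinitePresentation z ∧
        QuasiCompact z ∧ QuasiSeparated z ∧
        ∀ (T : Type u) [CommRing T] [Algebra R T] [Algebra R'' T] [IsScalarTower R R'' T], FDim R n T B N ↔
          ∃ l : Spec (CommRingCat.of T) ⟶ Z, l ≫ z = Spec.map (CommRingCat.ofHom (algebraMap R'' T)) := by
  obtain ⟨A, _, _, p', _, hn, H⟩ := DevissExLib.exists_devissage_cover (A := R) (B := B) N p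
  obtain ⟨het, hpp, -⟩ := hn
  haveI := het
  haveI := hpp
  let BA := A ⊗[R] B
  letI : Algebra B BA := Algebra.TensorProduct.rightAlgebra
  haveI : Algebra.IsPushout R B A BA := Algebra.IsPushout.symm inferInstance
  let fA : N →ₗ[B] BA ⊗[B] N := TensorProduct.mk B BA N 1
  have hfA : IsBaseChange BA fA := TensorProduct.isBaseChange B N BA
  obtain ⟨k, C, _, _, _, _, Nc, _, _, _, _, g, hC, hcov⟩ := H BA (BA ⊗[B] N) fA hfA
  haveI : Module.FinitePresentation BA (BA ⊗[B] N) := FinitePresentation.of_isBaseChange fA hfA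
  have hp1 : FlatCA.IsPureAlong A BA (BA ⊗[B] N) p' :=
    GeomPureLib.isPureAlong_baseChange_of_quasiFinite hfA hpure
  obtain ⟨h, P, hh, hP, hiff⟩ := rep_near p' hp1 n ((fdim_change (R := A) A fA hfA).1 (hflat.baseChange A)) C Nc g hC hcov
  let R'' := Localization.Away h
  haveI : Algebra.Etale R R'' := Algebra.Etale.comp R A R''
  have hrep : Rep R'' fun T _ _ => letI : Algebra A T := ((algebraMap R'' T).comp (algebraMap A R'')).toAlgebra; P T := by
    refine hP.baseChange fun T _ _ _ _ => ?_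
    have e : ((algebraMap R'' T).comp (algebraMap A R'')).toAlgebra = ‹Algebra A T› :=
      Algebra.algebra_ext _ _ fun a => (IsScalarTower.algebraMap_apply A R'' T a).symm
    show P T ↔ (letI : Algebra A T := ((algebraMap R'' T).comp (algebraMap A R'')).toAlgebra; P T)
    rw [e]
  obtain ⟨Z, z, h1, h2, h3, h4, hZ⟩ := hrep
  refine ⟨R'', inferInstance, inferInstance, inferInstance, ?_, Z, z, h1, h2, h3, h4, fun T _ _ _ _ => ?_⟩
  · obtain ⟨x, hx⟩ := (PrimeSpectrum.localization_away_comap_range R'' h).ge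
      (show (⟨p', inferInstance⟩ : PrimeSpectrum A) ∈ (PrimeSpectrum.basicOpen h : Set (PrimeSpectrum A)) from hh)
    refine ⟨x.asIdeal, inferInstance, ?_⟩
    rw [IsScalarTower.algebraMap_eq R A R'', ← Ideal.comap_comap]
    exact (congrArg (fun y : PrimeSpectrum A => y.asIdeal.comap (algebraMap R A)) hx).trans (Ideal.over_def p' p).symm
  · letI : Algebra A T := ((algebraMap R'' T).comp (algebraMap A R'')).toAlgebra
    haveI : IsScalarTower A R'' T := IsScalarTower.of_algebraMap_eq fun _ => rfl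
    haveI : IsScalarTower R A T := IsScalarTower.of_algebraMap_eq fun r => by
      show algebraMap R T r = algebraMap R'' T (algebraMap A R'' (algebraMap R A r))
      rw [← IsScalarTower.algebraMap_apply R A R'', ← IsScalarTower.algebraMap_apply R R'' T]
    rw [fdim_change (R := A) T fA hfA, hiff T ?_]
    · exact hZ T
    · rw [IsScalarTower.algebraMap_apply A R'' T]
      exact (IsLocalization.Away.algebraMap_isUnit h).map _

end PureFlatLib
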