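import Groth.Agent.PureFlatLib.StageModel
import Groth.Agent.PureFlatLib.Local
import Groth.Agent.DevissExLib.Cover
import Groth.Agent.SmallH9.FlatBase
import Groth.Agent.S1219
import Groth.Agent.S1226
import Groth.Agent.S1255
import Groth.Agent.S6928
import Mathlib

/-!
# Descent of purity along a fibre to a stage of a directed colimit
-/

set_option autoImplicit false
set_option linter.all false
set_option maxHeartbeats 1000000
set_option backward.isDefEq.respectTransparency false
set_option backward.isDefEq.respectTransparency.types false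

universe u

open scoped TensorProduct

namespace PureFlatLib

attribute [local instance] Algebra.TensorProduct.rightAlgebra

section Nhd

variable {R R' A T : Type u} [CommRing R] [CommRing R'] [CommRing A] [CommRing T] [Algebra R R'] [Algebra R A]
  [Algebra R' T] [Algebra A T] [Algebra R T] [IsScalarTower R R' T] [IsScalarTower R A T] [Algebra.IsPushout R A R' T]
  (p₁ : Ideal R) [p₁.IsPrime] (p₁' : Ideal R') [p₁'.IsPrime] (p : Ideal A) [p.IsPrime] [p.LiesOver p₁]

theorem nhd_hom_ext (hn : FlatCA.IsEtaleNhd R R' p₁ p₁') {K : Type u} [Field K] (P : Ideal T) [P.IsPrime]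
    (hPA : P.comap (algebraMap A T) = p) (hPR : P.comap (algebraMap R' T) = p₁') (j : p.ResidueField →+* K)
    (φ : T →+* K) (hφA : ∀ a, φ (algebraMap A T a) = j (algebraMap A p.ResidueField a))
    (hφP : P ≤ RingHom.ker φ) :
    ∀ x : R', ∀ (hp : p₁'.LiesOver p₁) (c : p₁.ResidueField),
      Ideal.ResidueField.mapₐ p₁ p₁' (Algebra.ofId R R') hp.over c = algebraMap R' p₁'.ResidueField x →
      φ (algebraMap R' T x) = j (Ideal.ResidueField.map p₁ p (algebraMap R A) (Ideal.over_def p p₁) c) := by
  intro x hp c hc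
  obtain ⟨r, s, rfl⟩ := residue_eq_div c
  rw [map_div₀] at hc ⊢
  by_cases hs : s ∈ p₁
  · have h0 : algebraMap R p₁.ResidueField s = 0 := Ideal.algebraMap_residueField_eq_zero.2 hs
    rw [h0, map_zero, div_zero] at hc ⊢
    rw [map_zero]
    have hx : x ∈ p₁' := Ideal.algebraMap_residueField_eq_zero.1 hc.symm
    exact hφP (show algebraMap R' T x ∈ P from hPR.ge hx)
  have hkey : algebraMap R' T (x * algebraMap R R' s - algebraMap R R' r) ∈ P := by
    refine hPR.ge (show x * algebraMap R R' s - algebraMap R R' r ∈ p₁' from ?_)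
    rw [← Ideal.algebraMap_residueField_eq_zero, map_sub, map_mul, ← hc]
    simp only [AlgHom.commutes, ← IsScalarTower.algebraMap_apply]
    have hne : algebraMap R p₁'.ResidueField s ≠ 0 := by
      rw [IsScalarTower.algebraMap_apply R R' p₁'.ResidueField, Ne, Ideal.algebraMap_residueField_eq_zero]
      exact fun h => hs (hp.over.ge h)
    rw [div_mul_cancel₀ _ hne, sub_self]
  have h1 := hφP hkey
  rw [RingHom.mem_ker, map_sub, map_sub, map_mul, map_mul, sub_eq_zero, ← IsScalarTower.algebraMap_apply R R' T,
    ← IsScalarTower.algebraMap_apply R R' T, IsScalarTower.algebraMap_apply R A T,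
    IsScalarTower.algebraMap_apply R A T, hφA, hφA] at h1
  rw [map_div₀, Ideal.ResidueField.map_algebraMap, Ideal.ResidueField.map_algebraMap]
  refine (eq_div_iff ?_).2 h1
  rw [Ne, map_eq_zero, Ideal.algebraMap_residueField_eq_zero]
  exact fun h => hs ((Ideal.over_def p p₁).ge h)

/-- The point of the base change of an étale neighbourhood is unique. -/
theorem nhd_unique (hn : FlatCA.IsEtaleNhd R R' p₁ p₁') (P P' : Ideal T) [P.IsPrime] [P'.IsPrime]
    (hPA : P.comap (algebraMap A T) = p) (hPR : P.comap (algebraMap R' T) = p₁')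
    (hPA' : P'.comap (algebraMap A T) = p) (hPR' : P'.comap (algebraMap R' T) = p₁') : P = P' := by
  obtain ⟨het, hp, hbij⟩ := hn
  haveI := het
  have main : ∀ (P : Ideal T) [P.IsPrime] (hPA : P.comap (algebraMap A T) = p)
      (hPR : P.comap (algebraMap R' T) = p₁') (z : T), ∀ (c : R' → p₁.ResidueField),
      (∀ x, Ideal.ResidueField.mapₐ p₁ p₁' (Algebra.ofId R R') hp.over (c x) = algebraMap R' p₁'.ResidueField x) →
      ∀ (w : R' ⊗[R] A), (haveI : Algebra.IsPushout R R' A T := Algebra.IsPushout.symm inferInstance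
        Algebra.IsPushout.equiv R R' A T w = z) →
      ∀ (lin : R' ⊗[R] A →+ p.ResidueField), (∀ x a, lin (x ⊗ₜ a) =
        Ideal.ResidueField.map p₁ p (algebraMap R A) (Ideal.over_def p p₁) (c x) * algebraMap A p.ResidueField a) →
      (z ∈ P ↔ lin w = 0) := by
    intro P _ hPA hPR z c hc w hw lin hlin
    let j : p.ResidueField →+* P.ResidueField := Ideal.ResidueField.map p P (algebraMap A T) hPA.symm
    have hj : j (lin w) = algebraMap T P.ResidueField z := by
      rw [← hw]
      clear hw
      induction w using TensorProduct.induction_on with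
      | zero => simp
      | add a b ha hb => simp only [map_add, ha, hb]
      | tmul x a =>
        haveI : Algebra.IsPushout R R' A T := Algebra.IsPushout.symm inferInstance
        rw [hlin, map_mul, Algebra.IsPushout.equiv_tmul, map_mul, Ideal.ResidueField.map_algebraMap]
        congr 1
        exact (nhd_hom_ext p₁ p₁' p ⟨het, hp, hbij⟩ P hPA hPR j
          (algebraMap T P.ResidueField) (fun a => (Ideal.ResidueField.map_algebraMap _ _ _ _ a).symm)
          (fun y hy => Ideal.algebraMap_residueField_eq_zero.2 hy) x hp (c x) (hc x)).symm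
    rw [← Ideal.algebraMap_residueField_eq_zero (I := P), ← hj, map_eq_zero]
  choose c hc using fun x => hbij.2 (algebraMap R' p₁'.ResidueField x)
  letI : Algebra R p.ResidueField := inferInstance
  let mp : R' →+* p.ResidueField := (Ideal.ResidueField.map p₁ p (algebraMap R A) (Ideal.over_def p p₁)).comp
    ((RingEquiv.ofBijective (Ideal.ResidueField.mapₐ p₁ p₁' (Algebra.ofId R R') hp.over).toRingHom hbij).symm.toRingHom.comp
      (algebraMap R' p₁'.ResidueField))
  have hmp : ∀ x, mp x = Ideal.ResidueField.map p₁ p (algebraMap R A) (Ideal.over_def p p₁) (c x) := fun x => by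
    show Ideal.ResidueField.map p₁ p _ _ _ = _
    congr 1
    refine hbij.1 ?_
    rw [hc]
    exact (RingEquiv.ofBijective (Ideal.ResidueField.mapₐ p₁ p₁' (Algebra.ofId R R') hp.over).toRingHom hbij).apply_symm_apply _
  let mpₐ : R' →ₐ[R] p.ResidueField := { mp with commutes' := fun r => (by
    show mp (algebraMap R R' r) = _
    rw [hmp, show c (algebraMap R R' r) = algebraMap R p₁.ResidueField r from hbij.1 (by
      rw [hc, AlgHom.commutes, ← IsScalarTower.algebraMap_apply]), Ideal.ResidueField.map_algebraMap,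
      ← IsScalarTower.algebraMap_apply]) }
  let lin : R' ⊗[R] A →ₐ[R] p.ResidueField :=
    Algebra.TensorProduct.lift mpₐ (IsScalarTower.toAlgHom R A p.ResidueField) fun _ _ => Commute.all _ _
  have hlin : ∀ x a, lin.toRingHom.toAddMonoidHom (x ⊗ₜ a) =
      Ideal.ResidueField.map p₁ p (algebraMap R A) (Ideal.over_def p p₁) (c x) * algebraMap A p.ResidueField a :=
    fun x a => by
      show lin (x ⊗ₜ a) = _
      rw [Algebra.TensorProduct.lift_tmul]
      show mp x * _ = _
      rw [hmp]
      rfl
  ext z
  haveI : Algebra.IsPushout R R' A T := Algebra.IsPushout.symm inferInstance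
  obtain ⟨w, hw⟩ := (Algebra.IsPushout.equiv R R' A T).surjective z
  rw [main P hPA hPR z c hc w hw _ hlin, main P' hPA' hPR' z c hc w hw _ hlin]

/-- The base change of an étale neighbourhood. -/
theorem exists_nhd_baseChange (hn : FlatCA.IsEtaleNhd R R' p₁ p₁') :
    ∃ (P : Ideal T) (_ : P.IsPrime), FlatCA.IsEtaleNhd A T p P ∧ P.comap (algebraMap R' T) = p₁' := by
  obtain ⟨het, hp, hbij⟩ := hn
  haveI := het
  haveI := hp
  haveI : Algebra.IsPushout R R' A T := Algebra.IsPushout.symm inferInstance
  obtain ⟨y, _, hy', hy, hsurj⟩ := DevissExLib.exists_prime_tensor p₁ p₁' p hbij.2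
  let e := Algebra.IsPushout.equiv R R' A T
  let P : Ideal T := y.comap e.symm.toRingEquiv.toRingHom
  haveI : P.IsPrime := Ideal.IsPrime.comap _
  have he : ∀ a, e.symm (algebraMap A T a) = 1 ⊗ₜ a := fun a => by
    apply e.injective
    rw [AlgEquiv.apply_symm_apply, Algebra.IsPushout.equiv_tmul, map_one, one_mul]
  haveI hPp : P.LiesOver p := ⟨Ideal.ext fun a => by
    show a ∈ p ↔ e.symm (algebraMap A T a) ∈ y
    rw [he]
    exact ⟨fun h => hy.le h, fun h => hy.ge h⟩⟩
  haveI : Algebra.Etale A T := by
    haveI : Algebra.IsPushout R A R' T := Algebra.IsPushout.symm inferInstance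
    exact Algebra.Etale.of_equiv (Algebra.IsPushout.equiv R A R' T)
  refine ⟨P, inferInstance, ⟨inferInstance, hPp, DevissExLib.bijective_mapₐ_of_surjective hPp fun z => ?_⟩, ?_⟩
  · obtain ⟨a, b, rfl⟩ := residue_eq_div z
    let θ : P.ResidueField →+* y.ResidueField := Ideal.ResidueField.map P y e.symm.toRingEquiv.toRingHom rfl
    have hlift : ∀ x : T, ∃ c, Ideal.ResidueField.mapₐ p P (Algebra.ofId A T) hPp.over c = algebraMap T P.ResidueField x := by
      intro x
      obtain ⟨c, hc⟩ := hsurj (algebraMap _ y.ResidueField (e.symm x))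
      refine ⟨c, θ.injective ?_⟩
      rw [Ideal.ResidueField.map_algebraMap]
      refine (RingHom.congr_fun (Ideal.ResidueField.ringHom_ext (I := p)
        (f := θ.comp (Ideal.ResidueField.mapₐ p P (Algebra.ofId A T) hPp.over).toRingHom)
        (g := Ideal.ResidueField.map p y (Algebra.TensorProduct.includeRight : A →ₐ[R] R' ⊗[R] A).toRingHom hy)
        (RingHom.ext fun r => ?_)) c).trans hc
      simp only [RingHom.comp_apply, AlgHom.toRingHom_eq_coe, RingHom.coe_coe, AlgHom.commutes]
      rw [IsScalarTower.algebraMap_apply A T P.ResidueField, Ideal.ResidueField.map_algebraMap]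
      erw [Ideal.ResidueField.map_algebraMap]
      exact congrArg _ (he r)
    obtain ⟨c, hc⟩ := hlift a
    obtain ⟨d, hd⟩ := hlift b
    exact ⟨c / d, by rw [map_div₀, hc, hd]⟩
  · ext x
    show e.symm (algebraMap R' T x) ∈ y ↔ _
    rw [AlgEquiv.commutes]
    exact (SetLike.ext_iff.1 hy'.over x).symm

end Nhd

section Criterion

variable {R R' A T : Type u} [CommRing R] [CommRing R'] [CommRing A] [CommRing T] [Algebra R R'] [Algebra R A]
  [Algebra R' T] [Algebra A T] [Algebra R T] [IsScalarTower R R' T] [IsScalarTower R A T] [poT : Algebra.IsPushout R A R' T]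
  {B₁ : Type u} [CommRing B₁] [Algebra R B₁] [Algebra.FinitePresentation R B₁]
  {BA : Type u} [CommRing BA] [Algebra R' BA] [Algebra B₁ BA] [Algebra R BA] [IsScalarTower R R' BA]
  [IsScalarTower R B₁ BA] [poA : Algebra.IsPushout R B₁ R' BA]
  {N₁ : Type u} [AddCommGroup N₁] [Module B₁ N₁] [Module.FinitePresentation B₁ N₁]
  {NA : Type u} [AddCommGroup NA] [Module BA NA] [Module B₁ NA] [IsScalarTower B₁ BA NA] [Module R' NA]
  [IsScalarTower R' BA NA]
  (fA : N₁ →ₗ[B₁] NA) (hfA : IsBaseChange BA fA) {m : ℕ} (f : Fin m → BA)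
  {B : Type u} [CommRing B] [Algebra A B] [Algebra B₁ B] [Algebra R B] [IsScalarTower R A B] [IsScalarTower R B₁ B]
  [poB : Algebra.IsPushout R B₁ A B]
  {N : Type u} [AddCommGroup N] [Module B N] [Module B₁ N] [IsScalarTower B₁ B N] [Module A N] [IsScalarTower A B N]
  (f₁ : N₁ →ₗ[B₁] N) (hf₁ : IsBaseChange B f₁)

include hfA hf₁ poT poA poB

theorem exists_model_over_nhd :
    ∃ (BT : Type u) (_ : CommRing BT) (_ : Algebra T BT) (_ : Algebra B BT) (_ : Algebra BA BT) (_ : Algebra A BT)
      (_ : Algebra R' BT) (_ : Algebra B₁ BT) (_ : IsScalarTower A T BT) (_ : IsScalarTower A B BT)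
      (_ : IsScalarTower R' T BT) (_ : IsScalarTower R' BA BT) (_ : IsScalarTower B₁ B BT) (_ : IsScalarTower B₁ BA BT)
      (_ : Algebra.IsPushout A B T BT) (_ : Algebra.IsPushout R' BA T BT) (_ : Algebra.IsPushout B₁ B BA BT)
      (NT : Type u) (_ : AddCommGroup NT) (_ : Module BT NT) (_ : Module B NT) (_ : IsScalarTower B BT NT)
      (_ : Module T NT) (_ : IsScalarTower T BT NT) (_ : Module BA NT) (_ : IsScalarTower BA BT NT)
      (k : N →ₗ[B] NT) (h : NA →ₗ[BA] NT), IsBaseChange BT k ∧ IsBaseChange BT h := by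
  let BT := T ⊗[A] B
  haveI : Algebra.IsPushout A B T BT := Algebra.IsPushout.symm inferInstance
  letI : Algebra B₁ BT := ((algebraMap B BT).comp (algebraMap B₁ B)).toAlgebra
  haveI : IsScalarTower B₁ B BT := IsScalarTower.of_algebraMap_eq fun _ => rfl
  haveI : IsScalarTower R T BT := inferInstance
  haveI : IsScalarTower R A BT := IsScalarTower.of_algebraMap_eq fun r => by
    rw [IsScalarTower.algebraMap_apply R T BT, IsScalarTower.algebraMap_apply R A T,
      ← IsScalarTower.algebraMap_apply A T BT]
  haveI : IsScalarTower R B₁ BT := IsScalarTower.of_algebraMap_eq fun r => by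
    rw [IsScalarTower.algebraMap_apply B₁ B BT, ← IsScalarTower.algebraMap_apply R B₁ B,
      IsScalarTower.algebraMap_apply R A B, ← IsScalarTower.algebraMap_apply A B BT,
      ← IsScalarTower.algebraMap_apply R A BT]
  haveI : IsScalarTower R B BT := IsScalarTower.of_algebraMap_eq fun r => by
    rw [IsScalarTower.algebraMap_apply R B₁ BT, IsScalarTower.algebraMap_apply B₁ B BT,
      ← IsScalarTower.algebraMap_apply R B₁ B]
  haveI : IsScalarTower R' T BT := inferInstance
  haveI : IsScalarTower R R' BT := IsScalarTower.of_algebraMap_eq fun r => by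
    rw [IsScalarTower.algebraMap_apply R' T BT, ← IsScalarTower.algebraMap_apply R R' T,
      ← IsScalarTower.algebraMap_apply R T BT]
  haveI : Algebra.IsPushout R R' B₁ BA := Algebra.IsPushout.symm inferInstance
  let π : R' ⊗[R] B₁ →ₐ[R] BT := Algebra.TensorProduct.lift (IsScalarTower.toAlgHom R R' BT)
    (IsScalarTower.toAlgHom R B₁ BT) fun _ _ => Commute.all _ _
  let ε := Algebra.IsPushout.equiv R R' B₁ BA
  letI : Algebra BA BT := (π.toRingHom.comp ε.symm.toRingEquiv.toRingHom).toAlgebra
  haveI : IsScalarTower R' BA BT := IsScalarTower.of_algebraMap_eq (R := R') (S := BA) (A := BT) fun x => by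
    show _ = π (ε.symm (algebraMap R' BA x))
    rw [AlgEquiv.commutes]
    show _ = π (x ⊗ₜ 1)
    rw [Algebra.TensorProduct.lift_tmul, map_one, mul_one]
    rfl
  haveI : IsScalarTower B₁ BA BT := IsScalarTower.of_algebraMap_eq (R := B₁) (S := BA) (A := BT) fun x => by
    show _ = π (ε.symm (algebraMap B₁ BA x))
    rw [show ε.symm (algebraMap B₁ BA x) = 1 ⊗ₜ x from (AlgEquiv.symm_apply_eq _).2
      (by rw [Algebra.IsPushout.equiv_tmul, map_one, one_mul]), Algebra.TensorProduct.lift_tmul, map_one, one_mul]
    rfl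
  haveI : IsScalarTower R BA BT := IsScalarTower.of_algebraMap_eq fun r => by
    rw [IsScalarTower.algebraMap_apply R B₁ BT, IsScalarTower.algebraMap_apply B₁ BA BT,
      ← IsScalarTower.algebraMap_apply R B₁ BA]
  haveI : Algebra.IsPushout R A B₁ B := Algebra.IsPushout.symm inferInstance
  haveI : Algebra.IsPushout A T B BT := Algebra.IsPushout.symm inferInstance
  haveI : Algebra.IsPushout R T B₁ BT := (Algebra.IsPushout.comp_iff R A (T := T) B₁ B (T' := BT)).2 inferInstance
  haveI : Algebra.IsPushout R' T BA BT := (Algebra.IsPushout.comp_iff R R' (T := T) B₁ BA (T' := BT)).1 inferInstance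
  haveI hA : Algebra.IsPushout R' BA T BT := Algebra.IsPushout.symm inferInstance
  haveI hB : Algebra.IsPushout B₁ B BA BT := by
    haveI : Algebra.IsPushout A B T BT := Algebra.IsPushout.symm inferInstance
    haveI : Algebra.IsPushout R B₁ A B := inferInstance
    haveI : Algebra.IsPushout R B T BT ∨ True := Or.inr trivial
    haveI : Algebra.IsPushout R R' A T := Algebra.IsPushout.symm inferInstance
    haveI : Algebra.IsPushout R R' B BT := (Algebra.IsPushout.comp_iff R A (T := B) R' T (T' := BT)).2 inferInstance |>.symm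
    haveI : Algebra.IsPushout R B R' BT := Algebra.IsPushout.symm inferInstance
    exact (Algebra.IsPushout.comp_iff R B₁ (T := B) R' BA (T' := BT)).1 inferInstance
  let NT := BT ⊗[B] N
  let k : N →ₗ[B] NT := TensorProduct.mk B BT N 1
  have hk : IsBaseChange BT k := TensorProduct.isBaseChange B N BT
  letI : Module B₁ NT := Module.compHom NT (algebraMap B₁ B)
  haveI : IsScalarTower B₁ B NT := IsScalarTower.of_algebraMap_smul fun _ _ => rfl
  haveI : IsScalarTower B₁ BT NT := IsScalarTower.of_algebraMap_smul fun b x => by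
    show algebraMap B₁ BT b • x = algebraMap B₁ B b • x
    rw [IsScalarTower.algebraMap_apply B₁ B BT, algebraMap_smul]
  letI : Module BA NT := Module.compHom NT (algebraMap BA BT)
  haveI : IsScalarTower BA BT NT := IsScalarTower.of_algebraMap_smul fun _ _ => rfl
  haveI : IsScalarTower B₁ BA NT := IsScalarTower.of_algebraMap_smul fun b x => by
    show algebraMap BA BT (algebraMap B₁ BA b) • x = b • x
    rw [← IsScalarTower.algebraMap_apply, algebraMap_smul]
  let c : N₁ →ₗ[B₁] NT := (k.restrictScalars B₁).comp f₁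
  have hc : IsBaseChange BT c := hf₁.comp hk
  exact ⟨BT, inferInstance, inferInstance, inferInstance, inferInstance, inferInstance, inferInstance, inferInstance,
    inferInstance, inferInstance, inferInstance, inferInstance, inferInstance, inferInstance, inferInstance, hA, hB,
    NT, inferInstance, inferInstance, inferInstance, inferInstance, inferInstance, inferInstance, inferInstance,
    inferInstance, k, hfA.lift c, hk, IsBaseChange.of_comp hfA (by rw [hfA.lift_comp]; exact hc)⟩

/-- Purity gives the covering condition at the generalisations of the point of the neighbourhood. -/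
theorem injAt_of_pure_nhd (p₁' : Ideal R') (p : Ideal A) [p.IsPrime] (P : Ideal T) [P.IsPrime]
    (hn : FlatCA.IsEtaleNhd A T p P) (hP : P.comap (algebraMap R' T) = p₁')
    (hcov : ∀ (Q : Ideal BA) [Q.IsPrime], Q.comap (algebraMap R' BA) = p₁' → ∃ j, f j ∉ Q)
    (hpure : FlatCA.IsPureAlong A B N p) (t : Ideal T) [t.IsPrime] (ht : t ≤ P) :
    (⟨t.comap (algebraMap R' T), Ideal.IsPrime.comap _⟩ : PrimeSpectrum R') ∈ injLocus R' NA f := by
  obtain ⟨BT, _, _, _, _, _, _, _, _, _, _, _, _, _, _, _, _, NT, _, _, _, _, _, _, _, _, k, h, hk, hh⟩ :=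
    exists_model_over_nhd (R := R) (R' := R') (T := T) (A := A) fA hfA f₁ hf₁
  obtain ⟨het, hPp, -⟩ := hn
  haveI := het
  haveI := hPp
  haveI : Algebra.FinitePresentation A B :=
    Algebra.FinitePresentation.equiv (Algebra.IsPushout.equiv R A B₁ B (h := Algebra.IsPushout.symm inferInstance))
  haveI : Module.Finite B N := Module.Finite.of_surjective hf₁.equiv.toLinearMap hf₁.equiv.surjective
  haveI : Algebra.FiniteType T BT := Algebra.FiniteType.equiv (inferInstance : Algebra.FiniteType T (T ⊗[A] B))
    (Algebra.IsPushout.equiv A T B BT (h := Algebra.IsPushout.symm inferInstance))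
  have hpT : FlatCA.IsPureAlong T BT NT P := Groth.Agent.S1226.result N p T BT NT k hk P hpure
  refine (injAt_baseChange (R := T) h hh f t _).1 (injAt_of_pure (fun j => algebraMap BA BT (f j)) P hpT
    (fun Q _ hQ => hcov (Q.comap (algebraMap BA BT)) ?_) t ht)
  · rw [Ideal.comap_comap, ← IsScalarTower.algebraMap_eq, IsScalarTower.algebraMap_eq R' T BT, ← Ideal.comap_comap,
      ← Ideal.under_def T Q, ← hQ.over, hP]

variable {S' : Type u} [CommRing S'] [Algebra B₁ S'] [Algebra BA S'] [Algebra R' S'] [Algebra R S']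
  [IsScalarTower B₁ BA S'] [IsScalarTower R' BA S'] [IsScalarTower R R' S'] [IsScalarTower R B₁ S'] [Algebra.Etale B₁ S']
  [Algebra.Etale R R']

/-- The covering condition gives purity, for a module flat along the fibre. -/
theorem isPureAlong_of_injAt (p₁ : Ideal R) [p₁.IsPrime] (p₁' : Ideal R') [p₁'.IsPrime]
    (hn₁ : FlatCA.IsEtaleNhd R R' p₁ p₁') (p : Ideal A) [p.IsPrime] [p.LiesOver p₁] (P : Ideal T) [P.IsPrime]
    (hn : FlatCA.IsEtaleNhd A T p P) (hP : P.comap (algebraMap R' T) = p₁')
    (hproj : Module.Projective R' (RestrictScalars R' S' (S' ⊗[B₁] N₁)))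
    (hS : ∀ (q : Ideal B₁) [q.IsPrime], q.LiesOver p₁ →
      ∃ q' : Ideal S', q'.IsPrime ∧ q'.comap (algebraMap B₁ S') = q ∧ q'.comap (algebraMap R' S') = p₁')
    (hfU : ∀ (Q : Ideal BA) [Q.IsPrime] (j : Fin m), f j ∉ Q →
      ∃ q' : Ideal S', q'.IsPrime ∧ q'.comap (algebraMap BA S') = Q)
    (hflat : ∀ (q : Ideal B) [q.IsPrime], q.LiesOver p → FlatCA.FlatAt A q N)
    (hinj : ∀ (t : Ideal T) [t.IsPrime], t ≤ P →
      (⟨t.comap (algebraMap R' T), Ideal.IsPrime.comap _⟩ : PrimeSpectrum R') ∈ injLocus R' NA f) :
    FlatCA.IsPureAlong A B N p := by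
  obtain ⟨BT, _, _, _, _, _, _, _, _, _, _, _, _, _, _, _, _, NT, _, _, _, _, _, _, _, _, k, h, hk, hh⟩ :=
    exists_model_over_nhd (R := R) (R' := R') (T := T) (A := A) fA hfA f₁ hf₁
  have hn' := hn
  obtain ⟨het, hPp, -⟩ := hn'
  haveI := het
  haveI := hPp
  haveI : Algebra.FinitePresentation A B :=
    Algebra.FinitePresentation.equiv (Algebra.IsPushout.equiv R A B₁ B (h := Algebra.IsPushout.symm inferInstance))
  haveI : Module.FinitePresentation B N := FinitePresentation.of_isBaseChange f₁ hf₁
  haveI : Algebra.FiniteType T BT := Algebra.FiniteType.equiv (inferInstance : Algebra.FiniteType T (T ⊗[A] B))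
    (Algebra.IsPushout.equiv A T B BT (h := Algebra.IsPushout.symm inferInstance))
  haveI : Algebra.Etale B₁ BA := Algebra.Etale.of_equiv
    (Algebra.IsPushout.equiv R B₁ R' BA)
  haveI : Algebra.Etale BA S' := Algebra.Etale.of_restrictScalars B₁ BA S'
  haveI : Algebra.Etale B BT := Algebra.Etale.of_equiv (Algebra.IsPushout.equiv A B T BT)
  haveI : Algebra.FinitePresentation R S' := Algebra.FinitePresentation.trans R B₁ S'
  haveI : Algebra.FinitePresentation R' S' :=
    Algebra.FinitePresentation.of_restrict_scalars_finitePresentation R R' S'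
  let C := BT ⊗[BA] S'
  haveI hpo : Algebra.IsPushout BA BT S' C := inferInstanceAs (Algebra.IsPushout BA BT S' (BT ⊗[BA] S'))
  haveI : IsScalarTower B BT C := inferInstance
  haveI : Algebra.Etale B C := Algebra.Etale.comp B BT C
  haveI : IsScalarTower T BT C := inferInstance
  haveI : IsScalarTower A BT C := inferInstance
  haveI : IsScalarTower A B C := IsScalarTower.of_algebraMap_eq fun a => by
    rw [IsScalarTower.algebraMap_apply B BT C, ← IsScalarTower.algebraMap_apply A B BT,
      ← IsScalarTower.algebraMap_apply A BT C]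
  haveI : IsScalarTower A T C := IsScalarTower.of_algebraMap_eq fun a => by
    rw [IsScalarTower.algebraMap_apply T BT C, ← IsScalarTower.algebraMap_apply A T BT,
      ← IsScalarTower.algebraMap_apply A BT C]
  haveI : IsScalarTower R' BT C := inferInstance
  haveI : IsScalarTower R' T C := IsScalarTower.of_algebraMap_eq fun a => by
    rw [IsScalarTower.algebraMap_apply T BT C, ← IsScalarTower.algebraMap_apply R' T BT,
      ← IsScalarTower.algebraMap_apply R' BT C]
  haveI : IsScalarTower R' S' C := IsScalarTower.of_algebraMap_eq fun a => by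
    rw [IsScalarTower.algebraMap_apply R' BA S', ← IsScalarTower.algebraMap_apply BA S' C,
      IsScalarTower.algebraMap_apply BA BT C, ← IsScalarTower.algebraMap_apply R' BA BT,
      ← IsScalarTower.algebraMap_apply R' BT C]
  haveI : IsScalarTower R' BA C := IsScalarTower.of_algebraMap_eq fun a => by
    rw [IsScalarTower.algebraMap_apply BA BT C, ← IsScalarTower.algebraMap_apply R' BA BT,
      ← IsScalarTower.algebraMap_apply R' BT C]
  haveI : Algebra.IsPushout BA S' BT C := Algebra.IsPushout.symm hpo
  haveI hpS : Algebra.IsPushout R' S' T C :=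
    (Algebra.IsPushout.comp_iff R' BA (T := S') T BT (T' := C)).2 inferInstance
  haveI : Algebra.FinitePresentation T C := Algebra.FinitePresentation.equiv
    (Algebra.IsPushout.equiv R' T S' C (h := Algebra.IsPushout.symm hpS))
  let NC := C ⊗[BT] NT
  let c : NT →ₗ[BT] NC := TensorProduct.mk BT C NT 1
  have hc : IsBaseChange C c := TensorProduct.isBaseChange BT NT C
  haveI : IsScalarTower B BT NC := inferInstance
  haveI : IsScalarTower B C NC := inferInstance
  let fC : N →ₗ[B] NC := (c.restrictScalars B).comp k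
  have hfC : IsBaseChange C fC := hk.comp hc
  haveI : Module.FinitePresentation BT NT := FinitePresentation.of_isBaseChange k hk
  haveI : Module.FinitePresentation C NC := FinitePresentation.of_isBaseChange fC hfC
  haveI : IsScalarTower T C NC := inferInstance
  -- projectivity of the piece
  haveI : Module.Projective T NC := by
    let M' := S' ⊗[B₁] N₁
    haveI : SMulCommClass B₁ R' S' := ⟨fun s c z => by rw [Algebra.smul_def c, Algebra.smul_def c, mul_smul_comm]⟩
    haveI : Module.Projective R' M' := by
      haveI := hproj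
      let E : RestrictScalars R' S' M' ≃ₗ[R'] M' :=
        { RestrictScalars.addEquiv R' S' M' with
          map_smul' := fun c z => by
            show RestrictScalars.addEquiv R' S' M' (c • z) = c • RestrictScalars.addEquiv R' S' M' z
            rw [RestrictScalars.addEquiv_map_smul, algebraMap_smul] }
      exact Module.Projective.of_equiv E
    haveI : IsScalarTower R' S' M' := TensorProduct.isScalarTower_left
    haveI : IsScalarTower B₁ BA C := inferInstance
    haveI : IsScalarTower B₁ S' C := IsScalarTower.of_algebraMap_eq fun b => by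
      rw [IsScalarTower.algebraMap_apply B₁ BA C, IsScalarTower.algebraMap_apply BA S' C,
        ← IsScalarTower.algebraMap_apply B₁ BA S']
    haveI : IsScalarTower B₁ BT C := IsScalarTower.of_algebraMap_eq fun b => by
      rw [IsScalarTower.algebraMap_apply B₁ BA C, IsScalarTower.algebraMap_apply BA BT C,
        ← IsScalarTower.algebraMap_apply B₁ BA BT]
    haveI : IsScalarTower B₁ C NC := inferInstance
    haveI : IsScalarTower BA C NC := inferInstance
    haveI : IsScalarTower BA BT NC := inferInstance
    haveI : IsScalarTower B₁ BA NC := inferInstance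
    letI : Module S' NC := Module.compHom NC (algebraMap S' C)
    haveI : IsScalarTower S' C NC := IsScalarTower.of_algebraMap_smul fun _ _ => rfl
    haveI : IsScalarTower B₁ S' NC := IsScalarTower.of_algebraMap_smul fun b x => by
      show algebraMap S' C (algebraMap B₁ S' b) • x = b • x
      rw [← IsScalarTower.algebraMap_apply, algebraMap_smul]
    let a : N₁ →ₗ[B₁] NC := ((c.restrictScalars BA).comp h |>.restrictScalars B₁).comp fA
    have ha : IsBaseChange C a := hfA.comp (hh.comp hc)
    let b : M' →ₗ[S'] NC := (TensorProduct.isBaseChange B₁ N₁ S').lift a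
    have hb : IsBaseChange C b := IsBaseChange.of_comp (TensorProduct.isBaseChange B₁ N₁ S')
      (by rw [IsBaseChange.lift_comp]; exact ha)
    haveI : IsScalarTower R' T NC := inferInstance
    haveI : IsScalarTower R' S' NC := IsScalarTower.of_algebraMap_smul fun r x => by
      show algebraMap S' C (algebraMap R' S' r) • x = r • x
      rw [← IsScalarTower.algebraMap_apply, algebraMap_smul]
    haveI : Algebra.IsPushout R' T S' C := Algebra.IsPushout.symm hpS
    have hT : IsBaseChange T (b.restrictScalars R') := DevissShrinkLib.isBaseChange_restrict (P := R') (P' := T) b hb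
    exact Module.Projective.of_equiv hT.equiv
  have hpC : FlatCA.IsPureAlong T C NC P := (Groth.Agent.S1219.result NC).1 inferInstance P
  refine (Groth.Agent.S1255.result N p hflat T P hn C NC fC hfC hpC (fun q _ hq _ => ?_) BT NT k hk).2 ?_
  · haveI := hq
    let q₁ := q.comap (algebraMap B₁ B)
    haveI : q.LiesOver q₁ := ⟨rfl⟩
    have hq₁ : q₁.LiesOver p₁ := ⟨by
      show p₁ = (q.comap (algebraMap B₁ B)).comap (algebraMap R B₁)
      rw [Ideal.comap_comap, ← IsScalarTower.algebraMap_eq, IsScalarTower.algebraMap_eq R A B, ← Ideal.comap_comap,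
        ← Ideal.under_def A q, ← hq.over, ← Ideal.under_def, ← Ideal.over_def p p₁]⟩
    obtain ⟨q', hq', hq'1, hq'p⟩ := hS q₁ hq₁
    haveI := hq'
    haveI : q'.LiesOver q₁ := ⟨hq'1.symm⟩
    haveI : IsScalarTower B₁ BA C := inferInstance
    haveI : IsScalarTower B₁ S' C := IsScalarTower.of_algebraMap_eq fun b => by
      rw [IsScalarTower.algebraMap_apply B₁ BA C, IsScalarTower.algebraMap_apply BA S' C,
        ← IsScalarTower.algebraMap_apply B₁ BA S']
    haveI : IsScalarTower B₁ B C := IsScalarTower.of_algebraMap_eq fun b => by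
      rw [IsScalarTower.algebraMap_apply B₁ BA C, IsScalarTower.algebraMap_apply BA BT C,
        ← IsScalarTower.algebraMap_apply B₁ BA BT, IsScalarTower.algebraMap_apply B₁ B BT,
        ← IsScalarTower.algebraMap_apply B BT C]
    haveI : Algebra.IsPushout B₁ B BA BT := inferInstance
    haveI : Algebra.IsPushout B₁ BA B BT := Algebra.IsPushout.symm inferInstance
    haveI : Algebra.IsPushout B₁ S' B C := (Algebra.IsPushout.comp_iff B₁ BA (T := S') B BT (T' := C)).2 inferInstance
    haveI : Algebra.IsPushout B₁ B S' C := Algebra.IsPushout.symm inferInstance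
    obtain ⟨Q', hQ', hQq, hQS, -⟩ := exists_over (R := B₁) (B := S') (R' := B) (B' := C) q₁ q' q
    refine ⟨Q', hQ', hQq.over.symm, ?_⟩
    haveI := hQ'
    refine nhd_unique p₁ p₁' p hn₁ _ _ ?_ ?_ hPp.over.symm hP
    · rw [Ideal.comap_comap, ← IsScalarTower.algebraMap_eq, IsScalarTower.algebraMap_eq A B C, ← Ideal.comap_comap,
        ← Ideal.under_def B Q', ← hQq.over, ← Ideal.under_def, ← hq.over]
    · rw [Ideal.comap_comap, ← IsScalarTower.algebraMap_eq, IsScalarTower.algebraMap_eq R' S' C, ← Ideal.comap_comap,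
        ← Ideal.under_def S' Q', ← hQS.over, hq'p]
  · intro t ht htP Q hQ hQt hass
    haveI := hQt
    obtain ⟨y, hy⟩ := (DevissExLib.mem_range_comap_incl t (⟨Q, inferInstance⟩ : PrimeSpectrum BT)).2
      (Ideal.over_def Q t).symm
    have hyQ : y.asIdeal.comap (FibAssLib.incl BT t) = Q := congrArg PrimeSpectrum.asIdeal hy
    have hfid : FlatCA.fiberIdeal t Q = y.asIdeal := by
      rw [← hyQ]; exact FlatInjLib.fiberIdeal_comap t y.asIdeal
    rw [hfid] at hass
    haveI : t.LiesOver (t.comap (algebraMap R' T)) := ⟨rfl⟩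
    obtain ⟨j, hj⟩ := exists_notMem_of_injAt (R := T) (N := NT) (f := fun j => algebraMap BA BT (f j)) (t := t)
      ((injAt_baseChange (R := T) h hh f t (t.comap (algebraMap R' T))).2 (hinj t htP)) hass
    rw [hyQ] at hj
    obtain ⟨q', hq', hq'Q⟩ := hfU (Q.comap (algebraMap BA BT)) j hj
    exact exists_over_pushout (C := S') (CT := C) Q q' hq'Q

end Criterion

end PureFlatLib
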