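import Groth.Agent.FlatInDimLib.BC
import Groth.Agent.FlatDimLib.Trdeg
import Groth.Agent.FlatInjLib.EtaleTransfer
import Groth.Agent.SmallH9.FlatBase
import Mathlib

/-!
# Flatness in dimensions at least `n` under base change and flat descent
-/

set_option autoImplicit false
set_option linter.all false
set_option maxHeartbeats 2000000

universe u

open scoped TensorProduct

namespace PureFlatLib

open DevissExLib

theorem residue_eq_div {B : Type u} [CommRing B] {Q : Ideal B} [Q.IsPrime] (e : Q.ResidueField) :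
    ∃ a b : B, e = algebraMap B Q.ResidueField a / algebraMap B Q.ResidueField b := by
  obtain ⟨x, y, -, rfl⟩ := IsFractionRing.div_surjective (B ⧸ Q) e
  obtain ⟨a, rfl⟩ := Ideal.Quotient.mk_surjective x
  obtain ⟨b, rfl⟩ := Ideal.Quotient.mk_surjective y
  exact ⟨a, b, rfl⟩

section Residue

variable {R B R' B' : Type u} [CommRing R] [CommRing B] [CommRing R'] [CommRing B'] [Algebra R B] [Algebra R R']
  [Algebra B B'] [Algebra R' B'] [Algebra R B'] [IsScalarTower R B B'] [IsScalarTower R R' B']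
  [Algebra.IsPushout R R' B B']

/-- The residue field of a prime of a base change is not more transcendental. -/
theorem trd_le_baseChange (t : Ideal R) [t.IsPrime] (Q : Ideal B) [Q.IsPrime] [Q.LiesOver t] (t' : Ideal R')
    [t'.IsPrime] [t'.LiesOver t] (Q' : Ideal B') [Q'.IsPrime] [Q'.LiesOver t'] [Q'.LiesOver Q] :
    trd t' Q' ≤ trd t Q := by
  let k := t.ResidueField
  let K := Q.ResidueField
  let L := t'.ResidueField
  let E := Q'.ResidueField
  let fK := Ideal.ResidueField.map t Q (algebraMap R B) (Ideal.over_def Q t)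
  let fL := Ideal.ResidueField.map t t' (algebraMap R R') (Ideal.over_def t' t)
  let gK := Ideal.ResidueField.map Q Q' (algebraMap B B') (Ideal.over_def Q' Q)
  let gL := Ideal.ResidueField.map t' Q' (algebraMap R' B') (Ideal.over_def Q' t')
  letI : Algebra k K := fK.toAlgebra
  letI : Algebra k L := fL.toAlgebra
  letI : Algebra k E := (gL.comp fL).toAlgebra
  letI : Algebra L E := gL.toAlgebra
  haveI : IsScalarTower k L E := IsScalarTower.of_algebraMap_eq fun _ => rfl
  let jK : K →ₐ[k] E := { toRingHom := gK, commutes' := fun c => (by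
    show (gK.comp fK) c = (gL.comp fL) c
    congr 1
    refine Ideal.ResidueField.ringHom_ext (RingHom.ext fun r => ?_)
    simp only [RingHom.comp_apply, fK, fL, gK, gL, Ideal.ResidueField.map_algebraMap]
    rw [← IsScalarTower.algebraMap_apply R B B', ← IsScalarTower.algebraMap_apply R R' B']) }
  let C := L ⊗[k] K
  letI : Algebra K C := Algebra.TensorProduct.rightAlgebra
  haveI : IsScalarTower k K C := IsScalarTower.of_algebraMap_eq fun a =>
    ((Algebra.TensorProduct.includeRight : K →ₐ[k] C).commutes a).symm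
  haveI : Algebra.IsPushout k L K C := inferInstanceAs (Algebra.IsPushout k L K (L ⊗[k] K))
  let ψ : C →ₐ[L] E := Algebra.TensorProduct.lift (Algebra.ofId L E) jK fun _ _ => Commute.all _ _
  letI : Algebra C E := ψ.toRingHom.toAlgebra
  haveI : IsScalarTower L C E := IsScalarTower.of_algebraMap_eq fun x => (ψ.commutes x).symm
  refine FlatDimLib.trdeg_le_of_pushout (C := C) fun e => ?_
  have hC : ∀ x : B', ∃ c : C, algebraMap B' E x = ψ c := fun x => by
    obtain ⟨z, rfl⟩ := (Algebra.IsPushout.equiv R R' B B').surjective x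
    induction z using TensorProduct.induction_on with
    | zero => exact ⟨0, by simp⟩
    | add a b ha hb =>
      obtain ⟨c₁, h₁⟩ := ha
      obtain ⟨c₂, h₂⟩ := hb
      exact ⟨c₁ + c₂, by simp only [map_add, h₁, h₂]⟩
    | tmul a b =>
      refine ⟨algebraMap R' L a ⊗ₜ algebraMap B K b, ?_⟩
      rw [Algebra.IsPushout.equiv_tmul, map_mul]
      show _ = ψ _
      rw [Algebra.TensorProduct.lift_tmul]
      show _ = gL (algebraMap R' L a) * gK (algebraMap B K b)
      rw [Ideal.ResidueField.map_algebraMap, Ideal.ResidueField.map_algebraMap]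
  obtain ⟨a, b, rfl⟩ := residue_eq_div e
  obtain ⟨c, hc⟩ := hC a
  obtain ⟨c', hc'⟩ := hC b
  exact ⟨c, c', by rw [hc, hc']; rfl⟩

/-- Over every pair of primes with the same image there is a prime of the base change which is as transcendental. -/
theorem exists_over (t : Ideal R) [t.IsPrime] (Q : Ideal B) [Q.IsPrime] [Q.LiesOver t] (t' : Ideal R')
    [t'.IsPrime] [t'.LiesOver t] :
    ∃ (Q' : Ideal B') (_ : Q'.IsPrime) (_ : Q'.LiesOver t'), Q'.LiesOver Q ∧ trd t Q ≤ trd t' Q' := by
  let k := t.ResidueField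
  let K := Q.ResidueField
  let L := t'.ResidueField
  let fK := Ideal.ResidueField.map t Q (algebraMap R B) (Ideal.over_def Q t)
  let fL := Ideal.ResidueField.map t t' (algebraMap R R') (Ideal.over_def t' t)
  letI : Algebra k K := fK.toAlgebra
  letI : Algebra k L := fL.toAlgebra
  let C := L ⊗[k] K
  letI : Algebra K C := Algebra.TensorProduct.rightAlgebra
  haveI : IsScalarTower k K C := IsScalarTower.of_algebraMap_eq fun a =>
    ((Algebra.TensorProduct.includeRight : K →ₐ[k] C).commutes a).symm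
  haveI : Algebra.IsPushout k L K C := inferInstanceAs (Algebra.IsPushout k L K (L ⊗[k] K))
  haveI : Nontrivial C := inferInstanceAs (Nontrivial (L ⊗[k] K))
  obtain ⟨m, hm⟩ := (inferInstance : Nonempty (PrimeSpectrum C))
  obtain ⟨𝔭, h𝔭, -⟩ := Ideal.exists_minimalPrimes_le (bot_le : (⊥ : Ideal C) ≤ m)
  haveI := h𝔭.1.1
  let E := 𝔭.ResidueField
  let iL : L →+* E := (algebraMap C E).comp (algebraMap L C)
  let iK : K →+* E := (algebraMap C E).comp (algebraMap K C)
  have hk : iL.comp fL = iK.comp fK := RingHom.ext fun c => by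
    show algebraMap C E (algebraMap L C (algebraMap k L c)) = algebraMap C E (algebraMap K C (algebraMap k K c))
    rw [← IsScalarTower.algebraMap_apply k L C, ← IsScalarTower.algebraMap_apply k K C]
  have hR : ∀ r : R, algebraMap R E r = iL (algebraMap R L r) := fun r => by
    show _ = algebraMap C E (algebraMap L C (algebraMap R L r))
    rw [← IsScalarTower.algebraMap_apply R L C, ← IsScalarTower.algebraMap_apply R C E]
  let aL : R' →ₐ[R] E := { toRingHom := iL.comp (algebraMap R' L), commutes' := fun r => (by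
    show iL (algebraMap R' L (algebraMap R R' r)) = algebraMap R E r
    rw [hR, ← IsScalarTower.algebraMap_apply R R' L]) }
  let aK : B →ₐ[R] E := { toRingHom := iK.comp (algebraMap B K), commutes' := fun r => (by
    show iK (algebraMap B K (algebraMap R B r)) = algebraMap R E r
    rw [hR, show algebraMap R L r = fL (algebraMap R k r) from
      ((Ideal.ResidueField.map_algebraMap _ _ _ _ r).trans (IsScalarTower.algebraMap_apply R R' L r).symm).symm,
      ← RingHom.comp_apply iL, hk]
    exact congrArg iK (Ideal.ResidueField.map_algebraMap _ _ _ _ r).symm) }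
  let ℓ : R' ⊗[R] B →ₐ[R] E := Algebra.TensorProduct.lift aL aK fun _ _ => Commute.all _ _
  let Ψ : B' →ₐ[R] E := ℓ.comp
    ((Algebra.IsPushout.equiv R R' B B').symm.restrictScalars R).toAlgHom
  have hΨL : ∀ r, Ψ (algebraMap R' B' r) = iL (algebraMap R' L r) := fun r => by
    show ℓ ((Algebra.IsPushout.equiv R R' B B').symm (algebraMap R' B' r)) = _
    rw [AlgEquiv.commutes, Algebra.TensorProduct.algebraMap_apply, show ∀ a b, ℓ (a ⊗ₜ b) = aL a * aK b from fun a b => Algebra.TensorProduct.lift_tmul _ _ _ a b, map_one, mul_one]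
    rfl
  have hΨK : ∀ b, Ψ (algebraMap B B' b) = iK (algebraMap B K b) := fun b => by
    show ℓ ((Algebra.IsPushout.equiv R R' B B').symm (algebraMap B B' b)) = _
    have h1 : (Algebra.IsPushout.equiv R R' B B').symm (algebraMap B B' b) = 1 ⊗ₜ b := by
      apply (Algebra.IsPushout.equiv R R' B B').injective
      rw [AlgEquiv.apply_symm_apply, Algebra.IsPushout.equiv_tmul, map_one, one_mul]
    rw [h1, show ∀ a b, ℓ (a ⊗ₜ b) = aL a * aK b from fun a b => Algebra.TensorProduct.lift_tmul _ _ _ a b, map_one, one_mul]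
    rfl
  let Q' : Ideal B' := RingHom.ker Ψ.toRingHom
  haveI : Q'.IsPrime := RingHom.ker_isPrime _
  haveI hQt : Q'.LiesOver t' := ⟨Ideal.ext fun r => by
    show r ∈ t' ↔ Ψ (algebraMap R' B' r) = 0
    rw [hΨL, map_eq_zero, Ideal.algebraMap_residueField_eq_zero]⟩
  haveI hQQ : Q'.LiesOver Q := ⟨Ideal.ext fun b => by
    show b ∈ Q ↔ Ψ (algebraMap B B' b) = 0
    rw [hΨK, map_eq_zero, Ideal.algebraMap_residueField_eq_zero]⟩
  refine ⟨Q', inferInstance, hQt, hQQ, ?_⟩
  let φ : Q'.ResidueField →+* E := Ideal.ResidueField.lift Q' Ψ.toRingHom le_rfl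
    fun x hx => (Ne.isUnit hx)
  have hφ : ∀ x, φ (algebraMap B' _ x) = Ψ x := fun x => Ideal.ResidueField.lift_algebraMap _ _ _ _ x
  let gL := Ideal.ResidueField.map t' Q' (algebraMap R' B') (Ideal.over_def Q' t')
  letI : Algebra L Q'.ResidueField := gL.toAlgebra
  have hcomm : φ.comp gL = iL := Ideal.ResidueField.ringHom_ext (RingHom.ext fun r => by
    simp only [RingHom.comp_apply, gL, Ideal.ResidueField.map_algebraMap, hφ, hΨL]
    rfl)
  let φL : Q'.ResidueField →ₐ[L] E := { toRingHom := φ, commutes' := fun c => RingHom.congr_fun hcomm c }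
  have hmem : ∀ c : C, algebraMap C E c ∈ φ.fieldRange := fun c => by
    induction c using TensorProduct.induction_on with
    | zero => simp only [map_zero]; exact zero_mem _
    | add a b ha hb => simp only [map_add]; exact add_mem ha hb
    | tmul a b =>
      rw [show a ⊗ₜ[k] b = algebraMap L C a * algebraMap K C b by
        show _ = (a ⊗ₜ[k] (1 : K)) * ((1 : L) ⊗ₜ[k] b)
        rw [Algebra.TensorProduct.tmul_mul_tmul, mul_one, one_mul], map_mul]
      refine mul_mem ?_ ?_
      · exact ⟨gL a, RingHom.congr_fun hcomm a⟩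
      · obtain ⟨x, y, rfl⟩ := residue_eq_div (Q := Q) b
        show iK _ ∈ _
        rw [map_div₀, ← hΨK, ← hΨK, ← hφ, ← hφ, ← map_div₀]
        exact ⟨_, rfl⟩
  have hsurj : Function.Surjective φL := fun e => by
    obtain ⟨x, y, rfl⟩ := residue_eq_div (Q := 𝔭) e
    obtain ⟨u, hu⟩ := hmem x
    obtain ⟨v, hv⟩ := hmem y
    exact ⟨u / v, by show φ (u / v) = _; rw [map_div₀, hu, hv]⟩
  have he : Algebra.trdeg L Q'.ResidueField = Algebra.trdeg L E :=
    (AlgEquiv.ofBijective φL ⟨φL.toRingHom.injective, hsurj⟩).trdeg_eq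
  show Algebra.trdeg k K ≤ Algebra.trdeg L Q'.ResidueField
  rw [he]
  exact FlatDimLib.le_trdeg_of_minimal (C := C) (by
    rw [show RingHom.ker (algebraMap C E) = 𝔭 from Ideal.ker_algebraMap_residueField 𝔭]
    exact h𝔭)

end Residue

section Flat

variable {R B R' B' : Type u} [CommRing R] [CommRing B] [CommRing R'] [CommRing B'] [Algebra R B] [Algebra R R']
  [Algebra B B'] [Algebra R' B'] [Algebra R B'] [IsScalarTower R B B'] [IsScalarTower R R' B']
  [Algebra.IsPushout R B R' B']
  {N N' : Type u} [AddCommGroup N] [Module B N] [Module R N] [IsScalarTower R B N]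
  [AddCommGroup N'] [Module B' N'] [Module B N'] [IsScalarTower B B' N'] [Module R' N'] [IsScalarTower R' B' N']
  (f : N →ₗ[B] N') (hf : IsBaseChange B' f) {n : ℕ}

include hf in
theorem flatInDimGE_baseChange (h : FlatCA.FlatInDimGE n R B N) : FlatCA.FlatInDimGE n R' B' N' := by
  intro t' Q' _ _ _ hQ'
  let t := t'.under R
  let Q := Q'.under B
  haveI : Q'.LiesOver Q := ⟨rfl⟩
  haveI : t'.LiesOver t := ⟨rfl⟩
  haveI : Q.LiesOver t := ⟨by
    show t'.comap (algebraMap R R') = (Q'.comap (algebraMap B B')).comap (algebraMap R B)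
    rw [Ideal.over_def Q' t', Ideal.comap_comap, Ideal.comap_comap, ← IsScalarTower.algebraMap_eq,
      ← IsScalarTower.algebraMap_eq]⟩
  haveI : Algebra.IsPushout R R' B B' := Algebra.IsPushout.symm inferInstance
  refine lt_of_le_of_lt (trd_le_baseChange t Q t' Q') (h t Q fun hQ => hQ' ?_)
  exact Groth.Agent.SmallH9.flatAt_baseChange f hf Q Q' rfl hQ

include hf in
/-- Descent at one prime of the base. -/
theorem trd_lt_of_flat [Module.Flat R R'] (h : FlatCA.FlatInDimGE n R' B' N') (t : Ideal R) [t.IsPrime]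
    (t' : Ideal R') [t'.IsPrime] [t'.LiesOver t] (Q : Ideal B) [Q.IsPrime] [Q.LiesOver t]
    (hQ : ¬ FlatCA.FlatAt R Q N) : trd t Q < (n : Cardinal.{u}) := by
  haveI : Algebra.IsPushout R R' B B' := Algebra.IsPushout.symm inferInstance
  obtain ⟨Q', _, _, hQQ, hle⟩ := exists_over (B' := B') t Q t'
  haveI := hQQ
  refine lt_of_le_of_lt hle (h t' Q' fun hfl => hQ ?_)
  haveI : Module.Flat B B' := Module.Flat.isBaseChange R B R' B' (Algebra.IsPushout.out (R := R) (S := B) (R' := R'))
  letI : Module R N' := Module.compHom N' (algebraMap R R')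
  haveI : IsScalarTower R R' N' := IsScalarTower.of_algebraMap_smul fun _ _ => rfl
  haveI : IsScalarTower R B' N' := IsScalarTower.of_algebraMap_smul fun r x => by
    show algebraMap R B' r • x = algebraMap R R' r • x
    rw [IsScalarTower.algebraMap_apply R R' B', algebraMap_smul]
  refine (FlatInjLib.flatAt_iff_of_isBaseChange f hf Q Q').1 ?_
  haveI : Module.Flat R' (LocalizedModule Q'.primeCompl N') := hfl
  exact Module.Flat.trans R R' (LocalizedModule Q'.primeCompl N')

end Flat

section Def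

attribute [local instance] Algebra.TensorProduct.rightAlgebra

/-- The base change to `R` is flat in dimensions `≥ n`. -/
def FDim (A : Type u) [CommRing A] (n : ℕ) (R : Type u) [CommRing R] [Algebra A R] (B : Type u) [CommRing B] [Algebra A B]
    (N : Type u) [AddCommGroup N] [Module B N] : Prop :=
  FlatCA.FlatInDimGE n R (R ⊗[A] B) ((R ⊗[A] B) ⊗[B] N)

variable {A : Type u} [CommRing A] {n : ℕ} {R : Type u} [CommRing R] [Algebra A R] {B : Type u} [CommRing B] [Algebra A B]
  {N : Type u} [AddCommGroup N] [Module B N]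

theorem fdim_iff_fdb {g : A} (hg : IsUnit (algebraMap A R g)) :
    FDim A n R B N ↔ FlatInDimLib.FDb n g R B N :=
  FlatInDimLib.flatInDimGE_iff_of_isUnit hg

theorem fdim_iff_model {B' N' : Type u} [CommRing B'] [Algebra R B'] [Algebra A B'] [Algebra B B']
    [IsScalarTower A R B'] [IsScalarTower A B B'] [Algebra.IsPushout A B R B'] [AddCommGroup N'] [Module B' N']
    [Module B N'] [IsScalarTower B B' N'] [Module R N'] [IsScalarTower R B' N'] (f : N →ₗ[B] N')
    (hf : IsBaseChange B' f) : FDim A n R B N ↔ FlatCA.FlatInDimGE n R B' N' := by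
  have hu : IsUnit (algebraMap A R 1) := by rw [map_one]; exact isUnit_one
  exact (fdim_iff_fdb hu).trans ((FlatInDimLib.fdb_iff_model f hf).trans
    (FlatInDimLib.flatInDimGE_iff_of_isUnit hu).symm)

theorem fdim_self {M : Type u} [AddCommGroup M] [Module B M] [Module A M] [IsScalarTower A B M] :
    FDim A n A B M ↔ FlatCA.FlatInDimGE n A B M :=
  fdim_iff_model (LinearMap.id : M →ₗ[B] M) (IsBaseChange.of_equiv (TensorProduct.lid B M) fun _ => one_smul _ _)

theorem FDim.mono {m : ℕ} (hnm : n ≤ m) (h : FDim A n R B N) : FDim A m R B N :=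
  fun t Q _ _ _ hQ => lt_of_lt_of_le (h t Q hQ) (Nat.cast_le.2 hnm)

theorem fdim_change_aux (R' : Type u) [CommRing R'] [Algebra A R'] [Algebra R R'] [IsScalarTower A R R']
    {B₁ N₁ : Type u} [CommRing B₁] [Algebra R B₁] [Algebra A B₁] [Algebra B B₁] [IsScalarTower A R B₁]
    [IsScalarTower A B B₁] [Algebra.IsPushout A B R B₁] [AddCommGroup N₁] [Module B₁ N₁] [Module B N₁]
    [IsScalarTower B B₁ N₁] (f : N →ₗ[B] N₁) (hf : IsBaseChange B₁ f)
    {B₂ N₂ : Type u} [CommRing B₂] [Algebra R' B₂] [Algebra R B₂] [Algebra A B₂] [Algebra B₁ B₂] [IsScalarTower R R' B₂]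
    [IsScalarTower R B₁ B₂] [IsScalarTower A R B₂] [Algebra.IsPushout R B₁ R' B₂] [AddCommGroup N₂] [Module B₂ N₂]
    [Module B₁ N₂] [IsScalarTower B₁ B₂ N₂] [Module R' N₂] [IsScalarTower R' B₂ N₂] (g : N₁ →ₗ[B₁] N₂)
    (hg : IsBaseChange B₂ g) : FDim A n R' B N ↔ FlatCA.FlatInDimGE n R' B₂ N₂ := by
  letI : Algebra B B₂ := ((algebraMap B₁ B₂).comp (algebraMap B B₁)).toAlgebra
  haveI : IsScalarTower B B₁ B₂ := IsScalarTower.of_algebraMap_eq fun _ => rfl
  haveI : IsScalarTower A B₁ B₂ := IsScalarTower.of_algebraMap_eq fun a => by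
    rw [IsScalarTower.algebraMap_apply A R B₁, ← IsScalarTower.algebraMap_apply R B₁ B₂,
      IsScalarTower.algebraMap_apply A R B₂]
  haveI : IsScalarTower A B B₂ := IsScalarTower.of_algebraMap_eq fun a => by
    rw [IsScalarTower.algebraMap_apply B B₁ B₂, ← IsScalarTower.algebraMap_apply A B B₁,
      ← IsScalarTower.algebraMap_apply A B₁ B₂]
  letI : Module B N₂ := Module.compHom N₂ (algebraMap B B₁)
  haveI : IsScalarTower B B₁ N₂ := IsScalarTower.of_algebraMap_smul fun _ _ => rfl
  haveI : IsScalarTower B B₂ N₂ := IsScalarTower.of_algebraMap_smul fun b x => by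
    show algebraMap B B₂ b • x = algebraMap B B₁ b • x
    rw [IsScalarTower.algebraMap_apply B B₁ B₂, algebraMap_smul]
  haveI : IsScalarTower A R' B₂ := IsScalarTower.of_algebraMap_eq fun a => by
    rw [IsScalarTower.algebraMap_apply A R R', ← IsScalarTower.algebraMap_apply R R' B₂,
      IsScalarTower.algebraMap_apply A R B₂]
  haveI : Algebra.IsPushout A R B B₁ := Algebra.IsPushout.symm inferInstance
  haveI : Algebra.IsPushout R R' B₁ B₂ := Algebra.IsPushout.symm inferInstance
  haveI : Algebra.IsPushout A R' B B₂ := (Algebra.IsPushout.comp_iff A R (T := R') B B₁ (T' := B₂)).2 inferInstance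
  haveI : Algebra.IsPushout A B R' B₂ := Algebra.IsPushout.symm inferInstance
  exact fdim_iff_model ((g.restrictScalars B).comp f) (hf.comp hg)

/-- Changing the base. -/
theorem fdim_change (R' : Type u) [CommRing R'] [Algebra A R'] [Algebra R R'] [IsScalarTower A R R']
    {B₁ N₁ : Type u} [CommRing B₁] [Algebra R B₁] [Algebra A B₁] [Algebra B B₁] [IsScalarTower A R B₁]
    [IsScalarTower A B B₁] [Algebra.IsPushout A B R B₁] [AddCommGroup N₁] [Module B₁ N₁] [Module B N₁]
    [IsScalarTower B B₁ N₁] (f : N →ₗ[B] N₁) (hf : IsBaseChange B₁ f) :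
    FDim A n R' B N ↔ FDim R n R' B₁ N₁ := by
  haveI : Algebra.IsPushout R B₁ R' (R' ⊗[R] B₁) := Algebra.IsPushout.symm inferInstance
  exact fdim_change_aux (R := R) R' f hf (TensorProduct.mk B₁ (R' ⊗[R] B₁) N₁ 1) (TensorProduct.isBaseChange B₁ N₁ (R' ⊗[R] B₁))

theorem fdim_baseChange_aux (R' : Type u) [CommRing R'] [Algebra A R'] [Algebra R R'] [IsScalarTower A R R']
    {B₁ N₁ : Type u} [CommRing B₁] [Algebra R B₁] [Algebra A B₁] [Algebra B B₁] [IsScalarTower A R B₁]
    [IsScalarTower A B B₁] [Algebra.IsPushout A B R B₁] [AddCommGroup N₁] [Module B₁ N₁] [Module B N₁]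
    [IsScalarTower B B₁ N₁] (f : N →ₗ[B] N₁) (hf : IsBaseChange B₁ f)
    [Module R N₁] [IsScalarTower R B₁ N₁] (h : FlatCA.FlatInDimGE n R B₁ N₁) : FDim A n R' B N :=
  haveI : Algebra.IsPushout R B₁ R' (R' ⊗[R] B₁) := Algebra.IsPushout.symm inferInstance
  (fdim_change (R := R) R' f hf).2 (flatInDimGE_baseChange (TensorProduct.mk B₁ (R' ⊗[R] B₁) N₁ 1)
    (TensorProduct.isBaseChange B₁ N₁ (R' ⊗[R] B₁)) h)

theorem fdim_descent_aux (R' : Type u) [CommRing R'] [Algebra A R'] [Algebra R R'] [IsScalarTower A R R']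
    {B₁ N₁ : Type u} [CommRing B₁] [Algebra R B₁] [Algebra A B₁] [Algebra B B₁] [IsScalarTower A R B₁]
    [IsScalarTower A B B₁] [Algebra.IsPushout A B R B₁] [AddCommGroup N₁] [Module B₁ N₁] [Module B N₁]
    [IsScalarTower B B₁ N₁] (f : N →ₗ[B] N₁) (hf : IsBaseChange B₁ f)
    [Module R N₁] [IsScalarTower R B₁ N₁] [Module.Flat R R'] (h : FDim A n R' B N) (t : Ideal R) [t.IsPrime]
    (t' : Ideal R') [t'.IsPrime] [t'.LiesOver t] (Q : Ideal B₁) [Q.IsPrime] [Q.LiesOver t]
    (hQ : ¬ FlatCA.FlatAt R Q N₁) : trd t Q < (n : Cardinal.{u}) :=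
  haveI : Algebra.IsPushout R B₁ R' (R' ⊗[R] B₁) := Algebra.IsPushout.symm inferInstance
  trd_lt_of_flat (TensorProduct.mk B₁ (R' ⊗[R] B₁) N₁ 1) (TensorProduct.isBaseChange B₁ N₁ (R' ⊗[R] B₁))
    ((fdim_change (R := R) R' f hf).1 h) t t' Q hQ

theorem FDim.baseChange (R' : Type u) [CommRing R'] [Algebra A R'] [Algebra R R'] [IsScalarTower A R R']
    (h : FDim A n R B N) : FDim A n R' B N := by
  haveI : Algebra.IsPushout A B R (R ⊗[A] B) := Algebra.IsPushout.symm inferInstance
  exact fdim_baseChange_aux (R := R) R' (TensorProduct.mk B (R ⊗[A] B) N 1) (TensorProduct.isBaseChange B N (R ⊗[A] B)) h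

/-- Pointwise flat descent. -/
theorem fdim_of_cover (h : ∀ (t : Ideal R) [t.IsPrime], ∃ (R' : Type u) (_ : CommRing R') (_ : Algebra A R')
      (_ : Algebra R R') (_ : IsScalarTower A R R'),
      Module.Flat R R' ∧ (∃ t' : Ideal R', t'.IsPrime ∧ t'.comap (algebraMap R R') = t) ∧ FDim A n R' B N) :
    FDim A n R B N := by
  intro t Q _ _ _ hQ
  obtain ⟨R', _, _, _, _, hfl, ⟨t', _, ht'⟩, h'⟩ := h t
  haveI := hfl
  haveI : t'.LiesOver t := ⟨ht'.symm⟩
  haveI : Algebra.IsPushout A B R (R ⊗[A] B) := Algebra.IsPushout.symm inferInstance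
  exact fdim_descent_aux (R := R) R' (TensorProduct.mk B (R ⊗[A] B) N 1) (TensorProduct.isBaseChange B N (R ⊗[A] B))
    h' t t' Q hQ

end Def

section Etale

variable {R B C : Type u} [CommRing R] [CommRing B] [CommRing C] [Algebra R B] [Algebra B C] [Algebra R C]
  [IsScalarTower R B C] [Algebra.Etale B C]
  {N M : Type u} [AddCommGroup N] [Module B N] [Module R N] [IsScalarTower R B N]
  [AddCommGroup M] [Module C M] [Module B M] [IsScalarTower B C M] [Module R M] [IsScalarTower R C M]
  (f : N →ₗ[B] M) (hf : IsBaseChange C f)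

include hf in
theorem flatAt_etale_iff (q : Ideal B) [q.IsPrime] (q' : Ideal C) [q'.IsPrime] [q'.LiesOver q] :
    FlatCA.FlatAt R q' M ↔ FlatCA.FlatAt R q N := by
  haveI : IsScalarTower R B M := IsScalarTower.of_algebraMap_smul fun r x => by
    rw [← algebraMap_smul C (algebraMap R B r) x, ← IsScalarTower.algebraMap_apply, algebraMap_smul]
  exact FlatInjLib.flatAt_iff_of_isBaseChange f hf q q'

theorem trd_etale (t : Ideal R) [t.IsPrime] (q : Ideal B) [q.IsPrime] [q.LiesOver t] (q' : Ideal C) [q'.IsPrime]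
    [q'.LiesOver q] [q'.LiesOver t] : trd t q' = trd t q := by
  haveI : Algebra.QuasiFinite B C := inferInstance
  exact trd_eq_of_algebraic t q q' (isAlgebraic_residue q q')

include hf in
theorem flatInDimGE_etale {n : ℕ} (h : FlatCA.FlatInDimGE n R B N) : FlatCA.FlatInDimGE n R C M := by
  intro t q' _ _ _ hq'
  let q := q'.under B
  haveI : q'.LiesOver q := ⟨rfl⟩
  haveI : q.LiesOver t := Ideal.LiesOver.tower_bot q' q t
  show trd t q' < _
  rw [trd_etale t q q']
  exact h t q fun hfl => hq' ((flatAt_etale_iff f hf q q').2 hfl)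

end Etale

end PureFlatLib
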