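import Groth.Agent.PureFlatLib.Local
import Mathlib

/-!
# Charts with glueing data, and flatness in dimensions `≥ n` near a point

A finite atlas of a proper scheme over an affine base is recorded by the ring `B` of the disjoint union of the
charts, the ring `BB` of the relation, and the valuative criterion.
-/

set_option autoImplicit false
set_option linter.all false
set_option maxHeartbeats 1000000

universe u

open scoped TensorProduct

namespace PureFlatLib

open DevissExLib

/-- `NN` is a base change of `N` along `s`. -/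
def IsBC {B BB : Type u} [CommRing B] [CommRing BB] (s : B →+* BB) (N NN : Type u) [AddCommGroup N] [Module B N]
    [AddCommGroup NN] [Module BB NN] : Prop :=
  letI := s.toAlgebra
  letI := Module.compHom NN s
  haveI : IsScalarTower B BB NN := IsScalarTower.of_algebraMap_smul fun _ _ => rfl
  ∃ g : N →ₗ[B] NN, IsBaseChange BB g

theorem IsBC.congr_inst {B BB N NN : Type u} [CommRing B] [CommRing BB] [AddCommGroup N] [Module B N] [AddCommGroup NN]
    [Module BB NN] (a a' : Algebra B BB) (m m' : Module B NN)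
    (ht : letI := a; letI := m; IsScalarTower B BB NN) (ht' : letI := a'; letI := m'; IsScalarTower B BB NN)
    (ha : a = a') (hm : m = m') :
    (letI := a; letI := m; haveI := ht; ∃ g : N →ₗ[B] NN, IsBaseChange BB g) ↔
      (letI := a'; letI := m'; haveI := ht'; ∃ g : N →ₗ[B] NN, IsBaseChange BB g) := by
  subst ha hm
  exact Iff.rfl

theorem isBC_iff {B BB : Type u} [CommRing B] [CommRing BB] [Algebra B BB] {N NN : Type u} [AddCommGroup N]
    [Module B N] [AddCommGroup NN] [Module BB NN] [Module B NN] [IsScalarTower B BB NN] {s : B →+* BB}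
    (hs : s = algebraMap B BB) : IsBC s N NN ↔ ∃ g : N →ₗ[B] NN, IsBaseChange BB g := by
  subst hs
  exact IsBC.congr_inst _ _ _ _ _ _ (Algebra.algebra_ext _ _ fun _ => rfl)
    (Module.ext' _ _ fun b x => algebraMap_smul BB b x)

theorem IsBC.exists_map {B BB : Type u} [CommRing B] [CommRing BB] [Algebra B BB] {N NN : Type u} [AddCommGroup N]
    [Module B N] [AddCommGroup NN] [Module BB NN] [Module B NN] [IsScalarTower B BB NN] {s : B →+* BB}
    (hs : s = algebraMap B BB) (h : IsBC s N NN) : ∃ g : N →ₗ[B] NN, IsBaseChange BB g := (isBC_iff hs).1 h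

theorem IsBC.of_map {B BB : Type u} [CommRing B] [CommRing BB] [Algebra B BB] {N NN : Type u} [AddCommGroup N]
    [Module B N] [AddCommGroup NN] [Module BB NN] [Module B NN] [IsScalarTower B BB NN] {s : B →+* BB}
    (hs : s = algebraMap B BB) (g : N →ₗ[B] NN) (hg : IsBaseChange BB g) : IsBC s N NN := (isBC_iff hs).2 ⟨g, hg⟩

/-- The relation of an atlas, with the valuative criterion. -/
structure Glue (A B N : Type u) [CommRing A] [CommRing B] [Algebra A B] [AddCommGroup N] [Module B N] where
  BB : Type u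
  [ringBB : CommRing BB]
  [algBB : Algebra A BB]
  s : B →ₐ[A] BB
  t : B →ₐ[A] BB
  hs : s.toRingHom.Etale
  ht : t.toRingHom.Etale
  NN : Type u
  [grpNN : AddCommGroup NN]
  [modNN : Module BB NN]
  hsN : IsBC s.toRingHom N NN
  htN : IsBC t.toRingHom N NN
  lift : ∀ (K : Type u) [Field K] [Algebra A K] (V : ValuationSubring K), (∀ a : A, algebraMap A K a ∈ V) →
    ∀ φ : B →ₐ[A] K, ∃ ψ : BB →ₐ[A] K, (∀ b, ψ (t b) = φ b) ∧ ∀ b, ψ (s b) ∈ V

attribute [instance] Glue.ringBB Glue.algBB Glue.grpNN Glue.modNN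

section BaseChange

variable {A B N : Type u} [CommRing A] [CommRing B] [Algebra A B] [AddCommGroup N] [Module B N]
  {A' B' N' : Type u} [CommRing A'] [CommRing B'] [Algebra A A'] [Algebra A' B'] [Algebra A B'] [Algebra B B']
  [IsScalarTower A A' B'] [IsScalarTower A B B'] [AddCommGroup N'] [Module B' N'] [Module B N']
  [IsScalarTower B B' N'] (f : N →ₗ[B] N') (hf : IsBaseChange B' f)
  {BB BB' : Type u} [CommRing BB] [CommRing BB'] [Algebra A BB] [Algebra A' BB'] [Algebra A BB'] [Algebra BB BB']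
  [IsScalarTower A A' BB'] [IsScalarTower A BB BB'] [Algebra.IsPushout A B A' B'] [Algebra.IsPushout A BB A' BB']
  (s : B →ₐ[A] BB) (s' : B' →ₐ[A'] BB') (hss : ∀ b, s' (algebraMap B B' b) = algebraMap BB BB' (s b))

include hss in
theorem etale_baseChange (hs : s.toRingHom.Etale) : s'.toRingHom.Etale := by
  algebraize [s.toRingHom, s'.toRingHom]
  letI : Algebra B BB' := ((algebraMap BB BB').comp s.toRingHom).toAlgebra
  haveI : IsScalarTower B BB BB' := IsScalarTower.of_algebraMap_eq fun _ => rfl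
  haveI : IsScalarTower B B' BB' := IsScalarTower.of_algebraMap_eq fun b => (hss b).symm
  haveI : IsScalarTower A B BB := IsScalarTower.of_algebraMap_eq fun a => (s.commutes a).symm
  haveI : IsScalarTower A B' BB' := IsScalarTower.of_algebraMap_eq fun a => by
    rw [IsScalarTower.algebraMap_apply A A' BB', IsScalarTower.algebraMap_apply A A' B']
    exact (s'.commutes _).symm
  haveI : IsScalarTower A' B' BB' := IsScalarTower.of_algebraMap_eq fun a => (s'.commutes a).symm
  haveI : Algebra.IsPushout B BB B' BB' := (Algebra.IsPushout.comp_iff A B (T := BB) A' B' (T' := BB')).1 inferInstance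
  haveI : Algebra.IsPushout B B' BB BB' := Algebra.IsPushout.symm inferInstance
  exact RingHom.etale_algebraMap.2 (Algebra.Etale.of_equiv (Algebra.IsPushout.equiv B B' BB BB'))

include hf hss in
theorem isBC_baseChange {NN NN' : Type u} [AddCommGroup NN] [Module BB NN] [AddCommGroup NN'] [Module BB' NN']
    [Module BB NN'] [IsScalarTower BB BB' NN'] (k : NN →ₗ[BB] NN') (hk : IsBaseChange BB' k)
    (h : IsBC s.toRingHom N NN) : IsBC s'.toRingHom N' NN' := by
  letI : Algebra B BB := s.toRingHom.toAlgebra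
  letI : Algebra B' BB' := s'.toRingHom.toAlgebra
  letI : Algebra B BB' := ((algebraMap BB BB').comp s.toRingHom).toAlgebra
  haveI : IsScalarTower B BB BB' := IsScalarTower.of_algebraMap_eq fun _ => rfl
  haveI : IsScalarTower B B' BB' := IsScalarTower.of_algebraMap_eq fun b => (hss b).symm
  letI : Module B NN := Module.compHom NN s.toRingHom
  haveI : IsScalarTower B BB NN := IsScalarTower.of_algebraMap_smul fun _ _ => rfl
  letI : Module B NN' := Module.compHom NN' (algebraMap B BB')
  haveI : IsScalarTower B BB' NN' := IsScalarTower.of_algebraMap_smul fun _ _ => rfl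
  haveI : IsScalarTower B BB NN' := IsScalarTower.of_algebraMap_smul fun b x => by
    show algebraMap B BB b • x = algebraMap B BB' b • x
    rw [IsScalarTower.algebraMap_apply B BB BB', algebraMap_smul BB' (algebraMap B BB b) x]
  letI : Module B' NN' := Module.compHom NN' s'.toRingHom
  haveI : IsScalarTower B' BB' NN' := IsScalarTower.of_algebraMap_smul fun _ _ => rfl
  haveI : IsScalarTower B B' NN' := IsScalarTower.of_algebraMap_smul fun b x => by
    show s' (algebraMap B B' b) • x = algebraMap B BB' b • x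
    rw [hss]
    rfl
  obtain ⟨g, hg⟩ := h.exists_map (RingHom.algebraMap_toAlgebra _).symm
  let c : N →ₗ[B] NN' := (k.restrictScalars B).comp g
  have hc : IsBaseChange BB' c := hg.comp hk
  exact IsBC.of_map (RingHom.algebraMap_toAlgebra _).symm (hf.lift c)
    (IsBaseChange.of_comp hf (by rw [hf.lift_comp]; exact hc))

end BaseChange

attribute [local instance] Algebra.TensorProduct.rightAlgebra

/-- Glueing data base change. -/
theorem Glue.baseChange {A B N : Type u} [CommRing A] [CommRing B] [Algebra A B] [AddCommGroup N] [Module B N]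
    (G : Glue A B N) {A' B' N' : Type u} [CommRing A'] [CommRing B'] [Algebra A A'] [Algebra A' B'] [Algebra A B']
    [Algebra B B'] [IsScalarTower A A' B'] [IsScalarTower A B B'] [Algebra.IsPushout A B A' B'] [AddCommGroup N']
    [Module B' N'] [Module B N'] [IsScalarTower B B' N'] (f : N →ₗ[B] N') (hf : IsBaseChange B' f) :
    Nonempty (Glue A' B' N') := by
  haveI : Algebra.IsPushout A A' B B' := Algebra.IsPushout.symm inferInstance
  let BB' := A' ⊗[A] G.BB
  haveI : Algebra.IsPushout A G.BB A' BB' := Algebra.IsPushout.symm inferInstance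
  let bc : ∀ σ : B →ₐ[A] G.BB, B' →ₐ[A'] BB' := fun σ =>
    (Algebra.TensorProduct.map (AlgHom.id A' A') σ).comp (Algebra.IsPushout.equiv A A' B B').symm.toAlgHom
  have hbc : ∀ σ b, bc σ (algebraMap B B' b) = algebraMap G.BB BB' (σ b) := fun σ b => by
    have h1 : (Algebra.IsPushout.equiv A A' B B').symm (algebraMap B B' b) = 1 ⊗ₜ b := by
      apply (Algebra.IsPushout.equiv A A' B B').injective
      rw [AlgEquiv.apply_symm_apply, Algebra.IsPushout.equiv_tmul, map_one, one_mul]
    show Algebra.TensorProduct.map _ σ ((Algebra.IsPushout.equiv A A' B B').symm (algebraMap B B' b)) = _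
    rw [h1, Algebra.TensorProduct.map_tmul, map_one]
    rfl
  have hgen : ∀ (x : B') {P : B' → Prop}, P 0 → (∀ x y, P x → P y → P (x + y)) →
      (∀ (a : A') (b : B), P (algebraMap A' B' a * algebraMap B B' b)) → P x := fun x {P} h0 hadd hmul => by
    obtain ⟨z, rfl⟩ := (Algebra.IsPushout.equiv A A' B B').surjective x
    induction z using TensorProduct.induction_on with
    | zero => rw [map_zero]; exact h0
    | add u v hu hv => rw [map_add]; exact hadd _ _ hu hv
    | tmul a b => rw [Algebra.IsPushout.equiv_tmul]; exact hmul a b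
  refine ⟨⟨BB', bc G.s, bc G.t, etale_baseChange G.s _ (hbc _) G.hs, etale_baseChange G.t _ (hbc _) G.ht,
    BB' ⊗[G.BB] G.NN,
    isBC_baseChange f hf G.s _ (hbc _) (TensorProduct.mk G.BB BB' G.NN 1) (TensorProduct.isBaseChange _ _ _) G.hsN,
    isBC_baseChange f hf G.t _ (hbc _) (TensorProduct.mk G.BB BB' G.NN 1) (TensorProduct.isBaseChange _ _ _) G.htN,
    fun K _ _ V hV φ => ?_⟩⟩
  letI : Algebra A K := ((algebraMap A' K).comp (algebraMap A A')).toAlgebra
  haveI : IsScalarTower A A' K := IsScalarTower.of_algebraMap_eq fun _ => rfl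
  let φ₀ : B →ₐ[A] K := (φ.restrictScalars A).comp (IsScalarTower.toAlgHom A B B')
  obtain ⟨ψ, hψt, hψs⟩ := G.lift K V (fun a => hV _) φ₀
  let ψ' : BB' →ₐ[A'] K := Algebra.TensorProduct.lift (Algebra.ofId A' K) ψ fun _ _ => Commute.all _ _
  have hψ' : ∀ x, ψ' (algebraMap G.BB BB' x) = ψ x := fun x => by
    show ψ' (1 ⊗ₜ x) = _
    rw [Algebra.TensorProduct.lift_tmul, map_one, one_mul]
  refine ⟨ψ', fun x => ?_, fun x => ?_⟩
  · refine hgen x (P := fun x => ψ' (bc G.t x) = φ x) (by simp only [map_zero])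
      (fun x y hx hy => by simp only [map_add, hx, hy]) fun a b => ?_
    rw [map_mul, map_mul, map_mul, AlgHom.commutes, AlgHom.commutes, AlgHom.commutes, hbc, hψ', hψt]
    rfl
  · refine hgen x (P := fun x => ψ' (bc G.s x) ∈ V) (by simp only [map_zero]; exact V.zero_mem)
      (fun x y hx hy => by simp only [map_add]; exact V.add_mem _ _ hx hy) fun a b => ?_
    rw [map_mul, map_mul, AlgHom.commutes, AlgHom.commutes, hbc, hψ']
    exact V.mul_mem _ _ (hV a) (hψs b)

section Piece

variable {A B C BB N Nc NN : Type u} [CommRing A] [CommRing B] [CommRing C] [CommRing BB] [Algebra A B]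
  [Algebra B C] [Algebra A C] [IsScalarTower A B C] [Algebra B BB] [Algebra A BB] [IsScalarTower A B BB]
  [Algebra.FiniteType A C] [AddCommGroup N] [Module B N] [AddCommGroup Nc] [Module C Nc] [Module B Nc]
  [IsScalarTower B C Nc] [Module.Finite C Nc]
  [AddCommGroup NN] [Module BB NN] [Module B NN] [IsScalarTower B BB NN]

theorem exists_piece_aux {CC MM : Type u} [CommRing CC] [Algebra C CC] [Algebra BB CC] [Algebra B CC] [Algebra A CC]
    [IsScalarTower B C CC] [IsScalarTower B BB CC] [IsScalarTower A C CC] [Algebra.Etale C CC]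
    [AddCommGroup MM] [Module CC MM] [Module BB MM] [IsScalarTower BB CC MM] (k : NN →ₗ[BB] MM) (hk : IsBaseChange CC k)
    (g : N →ₗ[B] Nc) (hg : IsBaseChange C g) (gs : N →ₗ[B] NN) (hgs : IsBaseChange BB gs) {n : ℕ}
    (T : Type u) [CommRing T] [Algebra A T] (h : FDim A n T C Nc) : FDim A n T CC MM := by
  letI : Module A Nc := Module.compHom Nc (algebraMap A C)
  haveI : IsScalarTower A C Nc := IsScalarTower.of_algebraMap_smul fun _ _ => rfl
  letI : Module B MM := Module.compHom MM (algebraMap B CC)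
  letI : Module C MM := Module.compHom MM (algebraMap C CC)
  haveI : IsScalarTower B CC MM := IsScalarTower.of_algebraMap_smul fun _ _ => rfl
  haveI : IsScalarTower C CC MM := IsScalarTower.of_algebraMap_smul fun _ _ => rfl
  haveI : IsScalarTower B C MM := IsScalarTower.of_algebraMap_smul fun b x => by
    show algebraMap C CC (algebraMap B C b) • x = algebraMap B CC b • x
    rw [← IsScalarTower.algebraMap_apply]
  haveI : IsScalarTower B BB MM := IsScalarTower.of_algebraMap_smul fun b x => by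
    show algebraMap B BB b • x = algebraMap B CC b • x
    rw [IsScalarTower.algebraMap_apply B BB CC, algebraMap_smul CC (algebraMap B BB b) x]
  let c : N →ₗ[B] MM := (k.restrictScalars B).comp gs
  have hc : IsBaseChange CC c := hgs.comp hk
  exact fdim_etale (hg.lift c) (IsBaseChange.of_comp hg (by rw [hg.lift_comp]; exact hc)) T h

/-- A piece over one chart, restricted along the relation. -/
theorem exists_piece [Algebra.Etale B C] [Algebra.Etale B BB] (g : N →ₗ[B] Nc) (hg : IsBaseChange C g)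
    (gs : N →ₗ[B] NN) (hgs : IsBaseChange BB gs) :
    ∃ (CC : Type u) (_ : CommRing CC) (_ : Algebra BB CC) (_ : Algebra.Etale BB CC) (_ : Algebra A CC)
      (_ : IsScalarTower A BB CC) (MM : Type u) (_ : AddCommGroup MM) (_ : Module CC MM) (_ : Module BB MM)
      (_ : IsScalarTower BB CC MM) (k : NN →ₗ[BB] MM), IsBaseChange CC k ∧
      (∀ (n : ℕ) (T : Type u) [CommRing T] [Algebra A T], FDim A n T C Nc → FDim A n T CC MM) ∧
      ∀ (Q : Ideal BB) [Q.IsPrime] (q' : Ideal C), q'.IsPrime → q'.comap (algebraMap B C) = Q.comap (algebraMap B BB) →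
        ∃ Q' : Ideal CC, Q'.IsPrime ∧ Q'.comap (algebraMap BB CC) = Q := by
  let CC := BB ⊗[B] C
  haveI : Algebra.IsPushout B BB C CC := inferInstance
  haveI : Algebra.Etale C CC := Algebra.Etale.of_equiv
    (Algebra.IsPushout.equiv B C BB CC (h := Algebra.IsPushout.symm inferInstance))
  haveI : IsScalarTower A C CC := IsScalarTower.of_algebraMap_eq fun a => by
    rw [IsScalarTower.algebraMap_apply A B C, ← IsScalarTower.algebraMap_apply B C CC,
      IsScalarTower.algebraMap_apply B BB CC, ← IsScalarTower.algebraMap_apply A B BB,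
      ← IsScalarTower.algebraMap_apply A BB CC]
  refine ⟨CC, inferInstance, inferInstance, inferInstance, inferInstance, inferInstance, CC ⊗[BB] NN, inferInstance,
    inferInstance, inferInstance, inferInstance, TensorProduct.mk BB CC NN 1, TensorProduct.isBaseChange BB NN CC,
    fun n T _ _ h => exists_piece_aux (TensorProduct.mk BB CC NN 1) (TensorProduct.isBaseChange BB NN CC) g hg gs hgs T h,
    fun Q _ q' hq' h => ?_⟩
  haveI : Q.LiesOver (Q.comap (algebraMap B BB)) := ⟨rfl⟩
  haveI := hq'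
  haveI : q'.LiesOver (Q.comap (algebraMap B BB)) := ⟨h.symm⟩
  obtain ⟨Q', hQ', hQQ, -, -⟩ := exists_over (R := B) (B := C) (R' := BB) (B' := CC) (Q.comap (algebraMap B BB)) q' Q
  exact ⟨Q', hQ', hQQ.over.symm⟩

end Piece

section Cover

variable {A B : Type u} [CommRing A] [CommRing B] [Algebra A B] [Algebra.FiniteType A B]
  {N : Type u} [AddCommGroup N] [Module B N]
  {ι : Type*} (C : ι → Type u) [∀ i, CommRing (C i)] [∀ i, Algebra B (C i)]
  [∀ i, Algebra A (C i)] [∀ i, IsScalarTower A B (C i)] [∀ i, Algebra.Etale B (C i)]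
  (M : ι → Type u) [∀ i, AddCommGroup (M i)] [∀ i, Module (C i) (M i)] [∀ i, Module B (M i)]
  [∀ i, IsScalarTower B (C i) (M i)]
  (φ : ∀ i, N →ₗ[B] M i) (hφ : ∀ i, IsBaseChange (C i) (φ i)) {n : ℕ}

include hφ in
theorem fdim_descend_full_step {T BT NT : Type u} [CommRing T] [Algebra A T] [CommRing BT] [Algebra T BT]
    [Algebra A BT] [Algebra B BT] [IsScalarTower A T BT] [IsScalarTower A B BT] [Algebra.IsPushout A B T BT]
    [AddCommGroup NT] [Module BT NT] [Module B NT] [IsScalarTower B BT NT] [Module T NT] [IsScalarTower T BT NT]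
    (gN : N →ₗ[B] NT) (hgN : IsBaseChange BT gN)
    (hcov : ∀ (Q : Ideal BT) [Q.IsPrime], ∃ (i : ι) (q' : Ideal (C i)),
      q'.IsPrime ∧ q'.comap (algebraMap B (C i)) = Q.comap (algebraMap B BT))
    (h : ∀ i, FDim A n T (C i) (M i)) : FDim A n T B N := by
  let CT := fun i => BT ⊗[B] C i
  haveI : ∀ i, Algebra.IsPushout B (C i) BT (CT i) := fun i => Algebra.IsPushout.symm inferInstance
  haveI : ∀ i, IsScalarTower A (C i) (CT i) := fun i => IsScalarTower.of_algebraMap_eq fun a => by
    rw [IsScalarTower.algebraMap_apply A B (C i), ← IsScalarTower.algebraMap_apply B (C i) (CT i),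
      IsScalarTower.algebraMap_apply B BT (CT i), ← IsScalarTower.algebraMap_apply A B BT,
      ← IsScalarTower.algebraMap_apply A BT (CT i)]
  refine (fdim_iff_model gN hgN).2 fun t Q _ _ _ hQ => ?_
  obtain ⟨i, q', hq', hq⟩ := hcov Q
  obtain ⟨Q', hQ', hQQ⟩ := exists_over_pushout (C := C i) (CT := CT i) Q q' hq
  haveI := hQ'
  haveI : Q'.LiesOver Q := ⟨hQQ.symm⟩
  haveI : Q'.LiesOver t := Ideal.LiesOver.trans Q' Q t
  show trd t Q < _
  rw [← trd_etale (C := CT i) t Q Q']
  exact (fdim_etale_model (φ i) (hφ i) gN hgN (TensorProduct.mk BT (CT i) NT 1)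
    (TensorProduct.isBaseChange BT NT (CT i))).1 (h i) t Q' fun hfl => hQ
      ((flatAt_etale_iff (TensorProduct.mk BT (CT i) NT 1) (TensorProduct.isBaseChange BT NT (CT i)) Q Q').1 hfl)

include hφ in
/-- Descending along an étale family covering all points over the base. -/
theorem fdim_descend_full [Module A N] [IsScalarTower A B N] (T : Type u) [CommRing T] [Algebra A T] {h₀ : A}
    (hu : IsUnit (algebraMap A T h₀))
    (hcov : ∀ (q : Ideal B) [q.IsPrime], h₀ ∉ q.comap (algebraMap A B) →
      ∃ (i : ι) (q' : Ideal (C i)), q'.IsPrime ∧ q'.comap (algebraMap B (C i)) = q)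
    (h : ∀ i, FDim A n T (C i) (M i)) : FDim A n T B N := by
  haveI : Algebra.IsPushout A B T (T ⊗[A] B) := Algebra.IsPushout.symm inferInstance
  refine fdim_descend_full_step C M φ hφ (TensorProduct.mk B (T ⊗[A] B) N 1)
    (TensorProduct.isBaseChange B N (T ⊗[A] B)) (fun Q _ => ?_) h
  refine hcov (Q.comap (algebraMap B (T ⊗[A] B))) fun hm => ?_
  refine Ideal.IsPrime.ne_top (I := Q) inferInstance (Ideal.eq_top_of_isUnit_mem Q hm ?_)
  rw [← IsScalarTower.algebraMap_apply A B, IsScalarTower.algebraMap_apply A T]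
  exact hu.map _

end Cover

/-- A valuation ring of `K` with prescribed centre. -/
theorem exists_valuationSubring {A K : Type u} [CommRing A] [Field K] [Algebra A K] (p : Ideal A) [p.IsPrime]
    (hle : RingHom.ker (algebraMap A K) ≤ p) :
    ∃ V : ValuationSubring K, (∀ a, algebraMap A K a ∈ V) ∧ ∀ a, algebraMap A K a ∈ V.nonunits ↔ a ∈ p := by
  let Ap := Localization.AtPrime p
  have hu : ∀ y : p.primeCompl, IsUnit (algebraMap A K y) := fun y =>
    isUnit_iff_ne_zero.2 fun h0 => y.2 (hle h0)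
  let l : Ap →+* K := IsLocalization.lift hu
  have hl : ∀ a, l (algebraMap A Ap a) = algebraMap A K a := fun a => IsLocalization.lift_eq hu a
  let I : Ideal l.range := (IsLocalRing.maximalIdeal Ap).map l.rangeRestrict
  have hI : I ≠ ⊤ := by
    intro htop
    obtain ⟨x, hx, hx1⟩ := (Ideal.mem_map_iff_of_surjective l.rangeRestrict l.rangeRestrict_surjective).1
      ((Ideal.eq_top_iff_one _).1 htop)
    have hne : l.rangeRestrict (1 - x) = 0 := by rw [map_sub, map_one, hx1, sub_self]
    have h1 : IsUnit (1 - x) := by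
      by_contra hn
      have := (IsLocalRing.maximalIdeal Ap).add_mem ((IsLocalRing.mem_maximalIdeal _).2 hn) hx
      rw [sub_add_cancel] at this
      exact (IsLocalRing.maximalIdeal.isMaximal Ap).ne_top ((Ideal.eq_top_iff_one _).2 this)
    have h2 := h1.map l
    rw [show l (1 - x) = 0 from congrArg Subtype.val hne] at h2
    exact not_isUnit_zero h2
  obtain ⟨V, hVle, hVI⟩ := Ideal.image_subset_nonunits_valuationSubring I hI
  refine ⟨V, fun a => hVle ⟨algebraMap A Ap a, hl a⟩, fun a => ⟨fun h => ?_, fun h => ?_⟩⟩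
  · by_contra hap
    obtain ⟨w, hw⟩ := (IsLocalization.map_units Ap (⟨a, hap⟩ : p.primeCompl)).exists_right_inv
    have hwV : l w ∈ V := hVle ⟨w, rfl⟩
    have haV : algebraMap A K a ∈ V := hVle ⟨algebraMap A Ap a, hl a⟩
    have h3 : (⟨algebraMap A K a, haV⟩ : V) ∈ IsLocalRing.maximalIdeal V :=
      ValuationSubring.coe_mem_nonunits_iff.1 h
    refine (IsLocalRing.mem_maximalIdeal _).1 h3 (IsUnit.of_mul_eq_one (⟨l w, hwV⟩ : V) (Subtype.ext ?_))
    show algebraMap A K a * l w = 1
    rw [← hl, ← map_mul, hw, map_one]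
  · refine hVI ⟨l.rangeRestrict (algebraMap A Ap a), Ideal.mem_map_of_mem _ ?_, hl a⟩
    exact (IsLocalization.AtPrime.to_map_mem_maximal_iff Ap p a).2 h

theorem exists_nhd_of_cover {A B : Type u} [CommRing A] [CommRing B] [Algebra A B] [Algebra.FinitePresentation A B]
    (p : Ideal A) [p.IsPrime] (W : Set (PrimeSpectrum B)) (hW : Topology.IsConstructible W)
    (h : ∀ Q : PrimeSpectrum B, Q.asIdeal.comap (algebraMap A B) ≤ p → Q ∈ W) :
    ∃ h₀ : A, h₀ ∉ p ∧ ∀ Q : PrimeSpectrum B, h₀ ∉ Q.asIdeal.comap (algebraMap A B) → Q ∈ W := by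
  obtain ⟨g, hg, hgE⟩ := exists_basicOpen_of_generalisations
    (PrimeSpectrum.isConstructible_comap_image (RingHom.finitePresentation_algebraMap.2 inferInstance) hW.compl).compl
    ⟨p, inferInstance⟩ fun t ht => by
      rintro ⟨Q, hQ, rfl⟩
      exact hQ (h Q ht)
  refine ⟨g, hg, fun Q hQ => by_contra fun hn => hgE (PrimeSpectrum.comap (algebraMap A B) Q) hQ ⟨Q, hn, rfl⟩⟩

/-- The claim on an étale neighbourhood, with glueing data in place of purity. -/
theorem rep_near_glue {A BA NA : Type u} [CommRing A] [CommRing BA] [Algebra A BA] [Algebra.FinitePresentation A BA]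
    [AddCommGroup NA] [Module BA NA] [Module A NA] [IsScalarTower A BA NA] [Module.FinitePresentation BA NA]
    (p : Ideal A) [p.IsPrime] (G : Glue A BA NA) (n : ℕ)
    (hflat : FDim A (n + 1) A BA NA) {k : ℕ} (C : Fin k → Type u) [∀ i, CommRing (C i)] [∀ i, Algebra BA (C i)]
    [∀ i, Algebra A (C i)] [∀ i, IsScalarTower A BA (C i)]
    (Nc : Fin k → Type u) [∀ i, AddCommGroup (Nc i)] [∀ i, Module (C i) (Nc i)] [∀ i, Module BA (Nc i)]
    [∀ i, IsScalarTower BA (C i) (Nc i)] (g : ∀ i, NA →ₗ[BA] Nc i)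
    (hC : ∀ i, Algebra.Etale BA (C i) ∧ IsBaseChange (C i) (g i) ∧ Nonempty (FlatCA.CompleteDevissage A (C i) (Nc i) p))
    (hcov : ∀ (Q : Ideal BA) [Q.IsPrime], Q.LiesOver p →
      ∃ (i : Fin k) (Q' : Ideal (C i)), Q'.IsPrime ∧ Q'.comap (algebraMap BA (C i)) = Q) :
    ∃ (h : A) (P : ∀ (T : Type u) [CommRing T] [Algebra A T], Prop), h ∉ p ∧ Rep A P ∧
      ∀ (T : Type u) [CommRing T] [Algebra A T], IsUnit (algebraMap A T h) → (FDim A n T BA NA ↔ P T) := by
  classical
  haveI : ∀ i, Algebra.Etale BA (C i) := fun i => (hC i).1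
  haveI : ∀ i, Algebra.FinitePresentation A (C i) := fun i => Algebra.FinitePresentation.trans A BA (C i)
  haveI : ∀ i, Module.FinitePresentation (C i) (Nc i) := fun i =>
    FinitePresentation.of_isBaseChange (g i) (hC i).2.1
  letI : ∀ i, Module A (Nc i) := fun i => Module.compHom (Nc i) (algebraMap A (C i))
  haveI : ∀ i, IsScalarTower A (C i) (Nc i) := fun i => IsScalarTower.of_algebraMap_smul fun _ _ => rfl
  have hpiece : ∀ i, ∃ (e : A) (P : ∀ (T : Type u) [CommRing T] [Algebra A T], Prop), e ∉ p ∧ Rep A P ∧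
      ∀ (T : Type u) [CommRing T] [Algebra A T], IsUnit (algebraMap A T e) → (FDim A n T (C i) (Nc i) ↔ P T) := by
    intro i
    obtain ⟨D⟩ := (hC i).2.2
    exact rep_devissage D n (fdim_self.1 (fdim_etale (g i) (hC i).2.1 A hflat))
  choose e P he hP hPe using hpiece
  -- the pieces along the relation
  have hrel : ∀ i, ∃ (CC : Type u) (_ : CommRing CC) (_ : Algebra G.BB CC) (_ : Algebra.Etale G.BB CC) (_ : Algebra A CC)
      (_ : IsScalarTower A G.BB CC) (MM : Type u) (_ : AddCommGroup MM) (_ : Module CC MM) (_ : Module G.BB MM)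
      (_ : IsScalarTower G.BB CC MM) (k : G.NN →ₗ[G.BB] MM), IsBaseChange CC k ∧
      (∀ (n : ℕ) (T : Type u) [CommRing T] [Algebra A T], FDim A n T (C i) (Nc i) → FDim A n T CC MM) ∧
      ∀ (Q : Ideal G.BB) [Q.IsPrime] (q' : Ideal (C i)), q'.IsPrime →
        q'.comap (algebraMap BA (C i)) = Q.comap G.s.toRingHom →
        ∃ Q' : Ideal CC, Q'.IsPrime ∧ Q'.comap (algebraMap G.BB CC) = Q := by
    intro i
    letI : Algebra BA G.BB := G.s.toRingHom.toAlgebra
    haveI : IsScalarTower A BA G.BB := IsScalarTower.of_algebraMap_eq fun a => (G.s.commutes a).symm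
    haveI : Algebra.Etale BA G.BB := RingHom.etale_algebraMap.1 G.hs
    letI : Module BA G.NN := Module.compHom G.NN G.s.toRingHom
    haveI : IsScalarTower BA G.BB G.NN := IsScalarTower.of_algebraMap_smul fun _ _ => rfl
    obtain ⟨gs, hgs⟩ := G.hsN.exists_map (RingHom.algebraMap_toAlgebra _).symm
    exact exists_piece (g i) (hC i).2.1 gs hgs
  choose CC _ _ _ _ _ MM _ _ _ _ kk hkk hFD hlift using hrel
  letI aBB : Algebra BA G.BB := G.t.toRingHom.toAlgebra
  haveI : IsScalarTower A BA G.BB := IsScalarTower.of_algebraMap_eq fun a => (G.t.commutes a).symm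
  haveI : Algebra.Etale BA G.BB := RingHom.etale_algebraMap.1 G.ht
  letI : Module BA G.NN := Module.compHom G.NN G.t.toRingHom
  haveI : IsScalarTower BA G.BB G.NN := IsScalarTower.of_algebraMap_smul fun _ _ => rfl
  obtain ⟨gt, hgt⟩ := G.htN.exists_map (RingHom.algebraMap_toAlgebra _).symm
  letI : ∀ i, Algebra BA (CC i) := fun i => ((algebraMap G.BB (CC i)).comp (algebraMap BA G.BB)).toAlgebra
  haveI : ∀ i, IsScalarTower BA G.BB (CC i) := fun i => IsScalarTower.of_algebraMap_eq fun _ => rfl
  haveI : ∀ i, IsScalarTower A BA (CC i) := fun i => IsScalarTower.of_algebraMap_eq fun a => by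
    rw [IsScalarTower.algebraMap_apply A G.BB (CC i), IsScalarTower.algebraMap_apply A BA G.BB,
      ← IsScalarTower.algebraMap_apply BA G.BB (CC i)]
  haveI : ∀ i, Algebra.Etale BA (CC i) := fun i => Algebra.Etale.comp BA G.BB (CC i)
  letI : ∀ i, Module BA (MM i) := fun i => Module.compHom (MM i) (algebraMap BA (CC i))
  haveI : ∀ i, IsScalarTower BA (CC i) (MM i) := fun i => IsScalarTower.of_algebraMap_smul fun _ _ => rfl
  haveI : ∀ i, IsScalarTower BA G.BB (MM i) := fun i => IsScalarTower.of_algebraMap_smul fun b x => by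
    show algebraMap BA G.BB b • x = algebraMap BA (CC i) b • x
    rw [IsScalarTower.algebraMap_apply BA G.BB (CC i), algebraMap_smul (CC i) (algebraMap BA G.BB b) x]
  let φ : ∀ i, NA →ₗ[BA] MM i := fun i => ((kk i).restrictScalars BA).comp gt
  have hφ : ∀ i, IsBaseChange (CC i) (φ i) := fun i => hgt.comp (hkk i)
  let U : Set (PrimeSpectrum BA) := ⋃ i, Set.range (PrimeSpectrum.comap (algebraMap BA (C i)))
  have hU : IsOpen U := isOpen_iUnion fun i =>
    (PrimeSpectrum.isOpenMap_comap_of_hasGoingDown_of_finitePresentation (R := BA) (S := C i)).isOpen_range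
  let W : Set (PrimeSpectrum BA) := ⋃ i, Set.range (PrimeSpectrum.comap (algebraMap BA (CC i)))
  have hW : Topology.IsConstructible W := Topology.IsConstructible.iUnion fun i =>
    PrimeSpectrum.isConstructible_range_comap (RingHom.finitePresentation_algebraMap.2 inferInstance)
  obtain ⟨h₀, hh₀, hh₀W⟩ := exists_nhd_of_cover p W hW fun Q hQ => by
    let K := Q.asIdeal.ResidueField
    obtain ⟨V, hV, hVp⟩ := exists_valuationSubring (K := K) p (fun a ha => hQ (by
      rw [RingHom.mem_ker, IsScalarTower.algebraMap_apply A BA K, Ideal.algebraMap_residueField_eq_zero] at ha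
      exact ha))
    obtain ⟨ψ, hψt, hψs⟩ := G.lift K V hV (IsScalarTower.toAlgHom A BA K)
    let χ : BA →+* V := (ψ.comp G.s).toRingHom.codRestrict V.toSubring hψs
    let Q₀ := (IsLocalRing.maximalIdeal V).comap χ
    haveI : Q₀.IsPrime := Ideal.IsPrime.comap _
    have hQ₀ : Q₀.LiesOver p := ⟨Ideal.ext fun a => by
      show a ∈ p ↔ χ (algebraMap A BA a) ∈ IsLocalRing.maximalIdeal V
      rw [← ValuationSubring.coe_mem_nonunits_iff, ← hVp]
      show _ ↔ ψ (G.s (algebraMap A BA a)) ∈ V.nonunits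
      rw [AlgHom.commutes, AlgHom.commutes]⟩
    obtain ⟨i₀, q₀, hq₀, hq₀Q⟩ := hcov Q₀ hQ₀
    let P' : Ideal G.BB := RingHom.ker ψ.toRingHom
    haveI : P'.IsPrime := RingHom.ker_isPrime _
    let Qm : PrimeSpectrum BA := ⟨P'.comap G.s.toRingHom, Ideal.IsPrime.comap _⟩
    have hle : Qm.asIdeal ≤ Q₀ := fun b hb => by
      have h0 : χ b = 0 := Subtype.ext (show ψ (G.s b) = 0 from hb)
      show χ b ∈ IsLocalRing.maximalIdeal V
      rw [h0]
      exact zero_mem _
    have hQmU : Qm ∈ U := ((PrimeSpectrum.le_iff_specializes Qm ⟨Q₀, inferInstance⟩).1 hle).mem_open hU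
      (Set.mem_iUnion.2 ⟨i₀, ⟨q₀, hq₀⟩, PrimeSpectrum.ext hq₀Q⟩)
    obtain ⟨i, ⟨q', hq'⟩, hqq⟩ := Set.mem_iUnion.1 hQmU
    obtain ⟨Q', hQ', hQP⟩ := hlift i P' q' hq' (congrArg PrimeSpectrum.asIdeal hqq)
    refine Set.mem_iUnion.2 ⟨i, ⟨Q', hQ'⟩, PrimeSpectrum.ext ?_⟩
    show Q'.comap (algebraMap BA (CC i)) = Q.asIdeal
    rw [IsScalarTower.algebraMap_eq BA G.BB (CC i), ← Ideal.comap_comap, hQP]
    ext b
    show ψ (G.t b) = 0 ↔ _
    rw [hψt]
    exact Ideal.algebraMap_residueField_eq_zero
  refine ⟨h₀ * ∏ i, e i, fun T _ _ => ∀ i, P i T, Ideal.IsPrime.mul_notMem inferInstance hh₀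
    (Finset.prod_induction e (· ∉ p) (fun a b ha hb => Ideal.IsPrime.mul_notMem inferInstance ha hb)
      (fun h1 => Ideal.IsPrime.ne_top inferInstance ((Ideal.eq_top_iff_one p).2 h1)) fun i _ => he i),
    Rep.inter_fin hP, fun T _ _ hu => ?_⟩
  rw [map_mul, IsUnit.mul_iff] at hu
  have hue : ∀ i, IsUnit (algebraMap A T (e i)) := fun i => by
    obtain ⟨c, hc⟩ := Finset.dvd_prod_of_mem e (Finset.mem_univ i)
    rw [hc, map_mul, IsUnit.mul_iff] at hu
    exact hu.2.1
  constructor
  · exact fun h i => (hPe i T (hue i)).1 (fdim_etale (g i) (hC i).2.1 T h)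
  · intro h
    refine fdim_descend_full CC MM φ hφ T hu.1 (fun Q _ hQ => ?_) fun i =>
      hFD i n T ((hPe i T (hue i)).2 (h i))
    obtain ⟨i, ⟨Q', hQ'⟩, hQQ⟩ := Set.mem_iUnion.1 (hh₀W ⟨Q, inferInstance⟩ hQ)
    exact ⟨i, Q', hQ', congrArg PrimeSpectrum.asIdeal hQQ⟩

end PureFlatLib
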