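import Groth.Agent.PureFlatLib.Local
import Mathlib

/-!
# Representability of flatness in dimensions `≥ n` of a pure module
-/

set_option autoImplicit false
set_option linter.all false
set_option maxHeartbeats 1000000
set_option backward.isDefEq.respectTransparency false
set_option backward.isDefEq.respectTransparency.types false

universe u

open scoped TensorProduct
open CategoryTheory CategoryTheory.Limits AlgebraicGeometry

namespace PureFlatLib

attribute [local instance] Algebra.TensorProduct.rightAlgebra

/-- The step over an affine open of the representing object of dimension `n + 1`. -/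
theorem exists_local_of_affine {A B N : Type u} [CommRing A] [CommRing B] [Algebra A B] [Algebra.FinitePresentation A B]
    [AddCommGroup N] [Module B N] [Module A N] [IsScalarTower A B N] [Module.FinitePresentation B N]
    (hpure : FlatCA.IsPure A B N) (n : ℕ) (R : Type u) [CommRing R] [Algebra A R] [Algebra.FiniteType A R]
    [Algebra.QuasiFinite A R] (hflat : FDim A (n + 1) R B N) (p : Ideal R) [p.IsPrime] :
    ∃ (R'' : Type u) (_ : CommRing R'') (_ : Algebra R R''), Algebra.Etale R R'' ∧
      (∃ p'' : Ideal R'', p''.IsPrime ∧ p''.comap (algebraMap R R'') = p) ∧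
      ∃ (Z : Scheme.{u}) (z : Z ⟶ Spec (CommRingCat.of R'')), Mono z ∧ LocallyOfFinitePresentation z ∧
        QuasiCompact z ∧ QuasiSeparated z ∧
        ∀ (T : Type u) [CommRing T] [Algebra A T] [Algebra R T] [IsScalarTower A R T] [Algebra R'' T]
          [IsScalarTower R R'' T], FDim A n T B N ↔
          ∃ l : Spec (CommRingCat.of T) ⟶ Z, l ≫ z = Spec.map (CommRingCat.ofHom (algebraMap R'' T)) := by
  let BR := R ⊗[A] B
  haveI : Algebra.IsPushout A B R BR := Algebra.IsPushout.symm inferInstance
  haveI : Algebra.FinitePresentation R BR := inferInstance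
  let f : N →ₗ[B] BR ⊗[B] N := TensorProduct.mk B BR N 1
  have hf : IsBaseChange BR f := TensorProduct.isBaseChange B N BR
  haveI : Module.FinitePresentation BR (BR ⊗[B] N) := FinitePresentation.of_isBaseChange f hf
  let p₀ := p.under A
  haveI : p.LiesOver p₀ := ⟨rfl⟩
  have hp : FlatCA.IsPureAlong R BR (BR ⊗[B] N) p :=
    GeomPureLib.isPureAlong_baseChange_of_quasiFinite hf (hpure p₀)
  obtain ⟨R'', _, _, het, hp'', Z, z, h1, h2, h3, h4, hZ⟩ := exists_local p hp n ((fdim_change (R := R) R f hf).1 hflat)
  exact ⟨R'', inferInstance, inferInstance, het, hp'', Z, z, h1, h2, h3, h4, fun T _ _ _ _ _ _ =>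
    (fdim_change (R := R) T f hf).trans (hZ T)⟩

theorem rep_step {A B N : Type u} [CommRing A] [CommRing B] [Algebra A B] [Algebra.FinitePresentation A B]
    [AddCommGroup N] [Module B N] [Module A N] [IsScalarTower A B N] [Module.FinitePresentation B N]
    (hpure : FlatCA.IsPure A B N) (n : ℕ) (h : Rep A fun T _ _ => FDim A (n + 1) T B N) :
    Rep A fun T _ _ => FDim A n T B N := by
  classical
  obtain ⟨S, π, hm, hlfp, hqc, hqs, hS⟩ := h
  haveI := hm; haveI := hlfp; haveI := hqc; haveI := hqs
  haveI : CompactSpace S := QuasiCompact.compactSpace_of_compactSpace π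
  have hloc : ∀ s : S, ∃ (R'' : Type u) (_ : CommRing R'') (_ : Algebra A R'') (q : Spec (CommRingCat.of R'') ⟶ S),
      q ≫ π = Spec.map (CommRingCat.ofHom (algebraMap A R'')) ∧ Flat q ∧ LocallyOfFinitePresentation q ∧
      (∃ x, q x = s) ∧ ∃ (Z : Scheme.{u}) (z : Z ⟶ Spec (CommRingCat.of R'')), Mono z ∧
        LocallyOfFinitePresentation z ∧ QuasiCompact z ∧ QuasiSeparated z ∧
        ∀ (T : Type u) [CommRing T] [Algebra A T] [Algebra R'' T] [IsScalarTower A R'' T], FDim A n T B N ↔
          ∃ l : Spec (CommRingCat.of T) ⟶ Z, l ≫ z = Spec.map (CommRingCat.ofHom (algebraMap R'' T)) := by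
    intro s
    obtain ⟨V, hV, hsV, -⟩ := exists_isAffineOpen_mem_and_subset (x := s) (U := ⊤) trivial
    let R := Γ(S, V)
    let e : Spec R ⟶ S := hV.fromSpec
    letI : Algebra A R := (Spec.preimage (e ≫ π)).hom.toAlgebra
    have he : Spec.map (CommRingCat.ofHom (algebraMap A R)) = e ≫ π := by
      rw [RingHom.algebraMap_toAlgebra]
      exact Spec.map_preimage _
    haveI : Algebra.FiniteType A R := by
      have : LocallyOfFiniteType (Spec.map (CommRingCat.ofHom (algebraMap A R))) := by rw [he]; infer_instance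
      rw [HasRingHomProperty.Spec_iff (P := @LocallyOfFiniteType)] at this
      exact RingHom.finiteType_algebraMap.1 this
    haveI : Algebra.QuasiFinite A R := by
      haveI : LocallyOfFiniteType π := inferInstance
      haveI : LocallyQuasiFinite π := inferInstance
      have : LocallyQuasiFinite (Spec.map (CommRingCat.ofHom (algebraMap A R))) := by rw [he]; infer_instance
      rw [HasRingHomProperty.Spec_iff (P := @LocallyQuasiFinite)] at this
      exact RingHom.quasiFinite_algebraMap.1 this
    have hflat : FDim A (n + 1) R B N := (hS R).2 ⟨e, he.symm⟩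
    obtain ⟨x, hx⟩ := hV.range_fromSpec.ge hsV
    obtain ⟨R'', _, _, het, ⟨p'', hp'', hpp⟩, Z, z, h1, h2, h3, h4, hZ⟩ :=
      exists_local_of_affine hpure n R hflat (x : PrimeSpectrum R).asIdeal
    letI : Algebra A R'' := ((algebraMap R R'').comp (algebraMap A R)).toAlgebra
    haveI : IsScalarTower A R R'' := IsScalarTower.of_algebraMap_eq fun _ => rfl
    haveI := het
    let e' : Spec (CommRingCat.of R'') ⟶ Spec R := Spec.map (CommRingCat.ofHom (algebraMap R R''))
    haveI : Etale e' := by
      rw [HasRingHomProperty.Spec_iff (P := @Etale)]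
      exact RingHom.etale_algebraMap.2 inferInstance
    refine ⟨R'', inferInstance, inferInstance, e' ≫ e, ?_, inferInstance, inferInstance, ?_, Z, z, h1, h2, h3, h4,
      fun T _ _ _ _ => ?_⟩
    · rw [Category.assoc, ← he, ← Spec.map_comp]
      rfl
    · refine ⟨(⟨p'', hp''⟩ : PrimeSpectrum R''), ?_⟩
      rw [Scheme.Hom.comp_apply, show e' (⟨p'', hp''⟩ : PrimeSpectrum R'') = x from PrimeSpectrum.ext hpp, hx]
    · letI : Algebra R T := ((algebraMap R'' T).comp (algebraMap R R'')).toAlgebra
      haveI : IsScalarTower R R'' T := IsScalarTower.of_algebraMap_eq fun _ => rfl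
      haveI : IsScalarTower A R T := IsScalarTower.of_algebraMap_eq fun a => by
        rw [IsScalarTower.algebraMap_apply A R'' T, IsScalarTower.algebraMap_apply A R R'',
          ← IsScalarTower.algebraMap_apply R R'' T]
      exact hZ T
  choose Ak cr al q hq hfl hlp hx Z z h1 h2 h3 h4 hZ using hloc
  obtain ⟨t, ht⟩ := isCompact_univ.elim_finite_subcover (fun s => Set.range (q s))
    (fun s => by
      haveI := hfl s; haveI := hlp s
      haveI : UniversallyOpen (q s) := inferInstance
      exact (q s).isOpenMap.isOpen_range)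
    (fun s _ => Set.mem_iUnion.2 ⟨s, hx s⟩)
  refine rep_of_cover (fun T _ _ => FDim A n T B N) π (fun R R' _ _ _ _ _ _ h => h.baseChange R')
    (fun R _ _ h => fdim_of_cover h) (fun R _ _ h => (hS R).1 (h.mono (Nat.le_succ n)))
    (ι := (t : Set S)) (fun k => Ak k) (fun k => q k) (fun k => hq k) ?_ (fun k => Z k) (fun k => z k)
    (fun k => hZ k)
  intro s
  obtain ⟨k, hk⟩ := Set.mem_iUnion.1 (ht (Set.mem_univ s))
  obtain ⟨hkt, x, hx'⟩ := Set.mem_iUnion.1 hk
  exact ⟨⟨k, hkt⟩, x, hx'⟩

theorem rep_all {A B N : Type u} [CommRing A] [CommRing B] [Algebra A B] [Algebra.FinitePresentation A B]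
    [AddCommGroup N] [Module B N] [Module A N] [IsScalarTower A B N] [Module.FinitePresentation B N]
    (hpure : FlatCA.IsPure A B N) (n : ℕ) : Rep A fun T _ _ => FDim A n T B N := by
  obtain ⟨a, ψ, hψ⟩ := Algebra.FiniteType.iff_quotient_mvPolynomial''.1 (inferInstance : Algebra.FiniteType A B)
  have key : ∀ k m, a + 1 ≤ m + k → Rep A fun T _ _ => FDim A m T B N := by
    intro k
    induction k with
    | zero => exact fun m hm => Rep.top fun T _ _ => fdim_of_gen ψ hψ (by omega) T
    | succ k ih => exact fun m hm => rep_step hpure m (ih (m + 1) (by omega))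
  exact key (a + 1) n (by omega)

/-- The statement with arbitrary models. -/
theorem exists_mono_repr {A B : Type u} [CommRing A] [CommRing B] [Algebra A B] [Algebra.FinitePresentation A B]
    (N : Type u) [AddCommGroup N] [Module B N] [Module A N] [IsScalarTower A B N] [Module.FinitePresentation B N]
    (hpure : FlatCA.IsPure A B N) (n : ℕ) :
    ∃ (Z : Scheme.{u}) (i : Z ⟶ Spec (CommRingCat.of A)), Mono i ∧ LocallyOfFinitePresentation i ∧ QuasiCompact i ∧
      QuasiSeparated i ∧
      ∀ (A' B' N' : Type u) [CommRing A'] [CommRing B'] [Algebra A A'] [Algebra B B'] [Algebra A' B'] [Algebra A B']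
        [IsScalarTower A B B'] [IsScalarTower A A' B'] [Algebra.IsPushout A B A' B']
        [AddCommGroup N'] [Module B' N'] [Module B N'] [IsScalarTower B B' N'] [Module A' N'] [IsScalarTower A' B' N']
        (f : N →ₗ[B] N'), IsBaseChange B' f →
        (FlatCA.FlatInDimGE n A' B' N' ↔
          ∃ g : Spec (CommRingCat.of A') ⟶ Z, g ≫ i = Spec.map (CommRingCat.ofHom (algebraMap A A'))) := by
  obtain ⟨Z, i, h1, h2, h3, h4, hZ⟩ := rep_all hpure n
  exact ⟨Z, i, h1, h2, h3, h4, fun A' B' N' _ _ _ _ _ _ _ _ _ _ _ _ _ _ _ f hf =>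
    (fdim_iff_model f hf).symm.trans (hZ A')⟩

end PureFlatLib
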