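import Groth.Agent.FlatInDimLib.Rep
import Mathlib

/-!
# Glueing monomorphisms given by their universal property
-/

set_option autoImplicit false
set_option linter.all false
set_option maxHeartbeats 1000000
set_option backward.isDefEq.respectTransparency false
set_option backward.isDefEq.respectTransparency.types false

universe u

open CategoryTheory CategoryTheory.Limits AlgebraicGeometry

namespace PureFlatLib

/-- A condition on morphisms to `S`, local on the source, which is representable by monomorphisms over the affine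
opens of `S`, is representable by a monomorphism. -/
theorem exists_mono_of_local {S : Scheme.{u}} (Q : ∀ (T : Scheme.{u}), (T ⟶ S) → Prop)
    (hstab : ∀ (T T' : Scheme.{u}) (g : T' ⟶ T) (t : T ⟶ S), Q T t → Q T' (g ≫ t))
    (hloc : ∀ (T : Scheme.{u}) (t : T ⟶ S), (∀ x : T, ∃ V : T.Opens, x ∈ V ∧ Q V (V.ι ≫ t)) → Q T t)
    (h : ∀ U : S.affineOpens, ∃ (Z : Scheme.{u}) (i : Z ⟶ (U.1 : Scheme.{u})), Mono i ∧ LocallyOfFinitePresentation i ∧
      QuasiCompact i ∧ ∀ (T : Scheme.{u}) (t : T ⟶ (U.1 : Scheme.{u})), Q T (t ≫ U.1.ι) ↔ ∃ l, l ≫ i = t) :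
    ∃ (S' : Scheme.{u}) (ι : S' ⟶ S), Mono ι ∧ LocallyOfFinitePresentation ι ∧ QuasiCompact ι ∧
      ∀ (T : Scheme.{u}) (t : T ⟶ S), Q T t ↔ ∃ t' : T ⟶ S', t' ≫ ι = t := by
  classical
  choose Z i hm hlfp hqc hZ using h
  haveI : ∀ U, Mono (i U) := hm
  have huniv : ∀ U, Q (Z U) (i U ≫ U.1.ι) := fun U => (hZ U _ _).2 ⟨𝟙 _, Category.id_comp _⟩
  have hmap : ∀ {U V : S.affineOpens} (hle : U ≤ V), ∃ l, l ≫ i V = i U ≫ S.homOfLE hle := fun {U V} hle =>
    (hZ V _ _).1 (by rw [Category.assoc, Scheme.homOfLE_ι]; exact huniv U)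
  choose m hm' using @hmap
  let 𝒰 := S.directedAffineCover
  haveI : Quiver.IsThin 𝒰.I₀ := inferInstanceAs (Quiver.IsThin S.affineOpens)
  haveI : Small.{u} 𝒰.I₀ := inferInstanceAs (Small.{u} S.affineOpens)
  let F : 𝒰.I₀ ⥤ Scheme.{u} :=
    { obj := Z
      map := fun {U V} f => m (leOfHom f)
      map_id := fun U => (cancel_mono (i U)).1 (by rw [hm', Category.id_comp]; simp)
      map_comp := fun {U V W} f g => (cancel_mono (i W)).1 (by
        rw [Category.assoc, hm', hm', ← Category.assoc (m (leOfHom f)), hm', Category.assoc, Scheme.homOfLE_homOfLE]) }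
  let d : Scheme.Cover.RelativeGluingData 𝒰 :=
    { functor := F
      natTrans :=
        { app := i
          naturality := fun U V f => hm' (leOfHom f) }
      equifibered := fun U V f => by
        refine ⟨⟨hm' (leOfHom f)⟩, ⟨PullbackCone.IsLimit.mk _ (fun s => ((hZ U _ s.snd).1 ?_).choose) ?_ ?_ ?_⟩⟩
        · have h1 : (s.fst ≫ i V) ≫ V.1.ι = s.snd ≫ U.1.ι := by
            have := s.condition
            change s.fst ≫ i V = s.snd ≫ S.homOfLE (leOfHom f) at this
            rw [this, Category.assoc, Scheme.homOfLE_ι]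
          rw [← h1]
          exact (hZ V _ _).2 ⟨s.fst, rfl⟩
        · intro s
          refine (cancel_mono (i V)).1 ?_
          rw [Category.assoc]
          show _ ≫ m (leOfHom f) ≫ i V = _
          rw [hm', ← Category.assoc]
          exact (congrArg (· ≫ S.homOfLE (leOfHom f)) (Exists.choose_spec (p := fun l => l ≫ i U = s.snd) _)).trans
            s.condition.symm
        · exact fun s => Exists.choose_spec (p := fun l => l ≫ i U = s.snd) _
        · intro s n _ h2
          refine (cancel_mono (i U)).1 ?_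
          exact h2.trans (Exists.choose_spec (p := fun l => l ≫ i U = s.snd) _).symm }
  haveI i1 : (d.functor ⋙ Scheme.forget).IsLocallyDirected :=
    Scheme.Cover.RelativeGluingData.instIsLocallyDirectedI₀CompFunctorForgetOfIsThin d
  haveI i2 : ∀ {i j : 𝒰.I₀} (f : i ⟶ j), IsOpenImmersion (d.functor.map f) := fun f =>
    Scheme.Cover.RelativeGluingData.instIsOpenImmersionMapI₀Functor d f
  have hloc' : ∀ (P : MorphismProperty Scheme.{u}) [IsZariskiLocalAtTarget P], (∀ U, P (i U)) → P d.toBase := by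
    intro P _ hP
    refine IsZariskiLocalAtTarget.of_openCover (P := P) 𝒰 fun U => ?_
    have hpb := (d.isPullback_natTrans_ι_toBase U).flip
    show P (pullback.snd d.toBase (𝒰.f U))
    rw [← hpb.isoPullback_inv_snd]
    exact (P.cancel_left_of_respectsIso _ _).2 (hP U)
  haveI : IsZariskiLocalAtTarget (MorphismProperty.monomorphisms Scheme.{u}) := inferInstance
  haveI hmono : Mono d.toBase := hloc' (MorphismProperty.monomorphisms _) fun U => hm U
  refine ⟨d.glued, d.toBase, hmono, hloc' _ hlfp, hloc' _ hqc, fun T t => ⟨fun hQ => ?_, ?_⟩⟩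
  · refine FlatInDimLib.exists_lift_of_local d.toBase t fun x => ?_
    obtain ⟨U, hU, hxU, -⟩ := exists_isAffineOpen_mem_and_subset (x := t x) (U := ⊤) trivial
    let V : T.Opens := t ⁻¹ᵁ U
    have hV : (t ∣_ U) ≫ U.ι = V.ι ≫ t := morphismRestrict_ι t U
    obtain ⟨l, hl⟩ := (hZ ⟨U, hU⟩ V (t ∣_ U)).1 (by rw [hV]; exact hstab _ _ _ _ hQ)
    refine ⟨V, hxU, l ≫ colimit.ι d.functor ⟨U, hU⟩, ?_⟩
    rw [Category.assoc, d.ι_toBase]
    show l ≫ i ⟨U, hU⟩ ≫ U.ι = _
    rw [reassoc_of% hl, hV]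
  · rintro ⟨t', rfl⟩
    refine hstab _ _ _ _ (hloc _ _ fun z => ?_)
    obtain ⟨U, y, rfl⟩ : ∃ (U : 𝒰.I₀) (y : d.functor.obj U), colimit.ι d.functor U y = z :=
      Scheme.IsLocallyDirected.ι_jointly_surjective _ z
    refine ⟨(colimit.ι d.functor U).opensRange, ⟨y, rfl⟩, ?_⟩
    rw [← (colimit.ι d.functor U).isoOpensRange_inv_comp, Category.assoc, d.ι_toBase]
    exact hstab _ _ _ _ (huniv U)

end PureFlatLib
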