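import Groth.Agent.PureFlatLib.GlueRep
import Groth.Agent.PureFlatLib.MonoGlue
import Groth.Agent.FlatLib.NilFlatScheme
import Groth.Agent.KFlatLib.AffinePull
import Groth.Agent.RichLib.ModFlatGlobal
import Groth.Agent.S4655
import Groth.Agent.S1178
import Mathlib

/-!
# The flattening monomorphism of a proper morphism
-/

set_option autoImplicit false
set_option linter.all false
set_option maxHeartbeats 1000000
set_option backward.isDefEq.respectTransparency false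
set_option backward.isDefEq.respectTransparency.types false

universe u

open scoped TensorProduct
open CategoryTheory CategoryTheory.Limits AlgebraicGeometry

namespace PureFlatLib

attribute [local instance] Algebra.TensorProduct.rightAlgebra

theorem fdim_zero_iff_flat {A B N R : Type u} [CommRing A] [CommRing B] [Algebra A B] [AddCommGroup N] [Module B N]
    [Module A N] [IsScalarTower A B N] [CommRing R] [Algebra A R] :
    FDim A 0 R B N ↔ Module.Flat R (R ⊗[A] N) := by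
  haveI : Algebra.IsPushout A R B (R ⊗[A] B) := inferInstance
  let e := Algebra.IsPushout.cancelBaseChange A R B (R ⊗[A] B) N
  refine (fdim_zero_iff.trans (Iff.trans ?_ (FlatLib.flat_iff_forall_mem_flatLocus (R := R) (S := R ⊗[A] B)
    (M := (R ⊗[A] B) ⊗[B] N)).symm)).trans
    ⟨fun _ => Module.Flat.of_linearEquiv e.symm, fun _ => Module.Flat.of_linearEquiv e⟩
  exact ⟨fun h q => h q.asIdeal, fun h Q hQ => h ⟨Q, hQ⟩⟩

/-- An affine étale atlas along which points with values in local rings lift. -/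
theorem exists_atlas (X : Scheme.{u}) [CompactSpace X] :
    ∃ (U : Scheme.{u}) (_ : IsAffine U) (q : U ⟶ X), Etale q ∧ Surjective q ∧
      ∀ (R : Type u) [CommRing R] [IsLocalRing R] (σ : Spec (CommRingCat.of R) ⟶ X),
        ∃ χ : Spec (CommRingCat.of R) ⟶ U, χ ≫ q = σ := by
  let 𝒰 := X.affineCover.finiteSubcover
  haveI : ∀ i, IsAffine (𝒰.X i) := fun i => Scheme.isAffine_affineCover _ _
  refine ⟨∐ 𝒰.X, inferInstance, Sigma.desc 𝒰.f, IsZariskiLocalAtSource.sigmaDesc (P := @Etale) fun i => inferInstance,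
    ⟨fun x => ?_⟩, fun R _ _ σ => ?_⟩
  · obtain ⟨i, y, hy⟩ := 𝒰.exists_eq x
    exact ⟨Sigma.ι 𝒰.X i y, by rw [← Scheme.Hom.comp_apply, Sigma.ι_desc, hy]⟩
  · let m : Spec (CommRingCat.of R) := (⟨IsLocalRing.maximalIdeal R, inferInstance⟩ : PrimeSpectrum R)
    obtain ⟨i, hi⟩ := 𝒰.exists_eq (σ m)
    have hrange : Set.range σ ⊆ Set.range (𝒰.f i) := by
      rintro _ ⟨x, rfl⟩
      have hsp : x ⤳ m := (PrimeSpectrum.le_iff_specializes (x : PrimeSpectrum R) m).1
        (IsLocalRing.le_maximalIdeal (x : PrimeSpectrum R).isPrime.ne_top)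
      exact (hsp.map σ.continuous).mem_open (𝒰.f i).opensRange.2 hi
    exact ⟨IsOpenImmersion.lift (𝒰.f i) σ hrange ≫ Sigma.ι 𝒰.X i, by
      rw [Category.assoc, Sigma.ι_desc, IsOpenImmersion.lift_fac]⟩

theorem isBC_pb {P U : Scheme.{u}} [IsAffine P] [IsAffine U] (g : P ⟶ U) (M : U.Modules) [Coh.IsQCoh M]
    (M' : P.Modules) (e : KFlatLib.pb g M ≅ M') :
    IsBC g.appTop.hom Γ(M, (⊤ : U.Opens)) Γ(M', (⊤ : P.Opens)) := by
  letI : Algebra Γ(U, ⊤) Γ(P, ⊤) := g.appTop.hom.toAlgebra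
  letI : Module Γ(U, ⊤) Γ(KFlatLib.pb g M, (⊤ : P.Opens)) := Module.compHom _ g.appTop.hom
  haveI : IsScalarTower Γ(U, ⊤) Γ(P, ⊤) Γ(KFlatLib.pb g M, (⊤ : P.Opens)) :=
    IsScalarTower.of_algebraMap_smul fun _ _ => rfl
  letI : Module Γ(U, ⊤) Γ(M', (⊤ : P.Opens)) := Module.compHom _ g.appTop.hom
  haveI : IsScalarTower Γ(U, ⊤) Γ(P, ⊤) Γ(M', (⊤ : P.Opens)) := IsScalarTower.of_algebraMap_smul fun _ _ => rfl
  have hle : (⊤ : P.Opens) ≤ g ⁻¹ᵁ ⊤ := le_top
  have happ : g.appLE ⊤ ⊤ hle = g.appTop := by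
    rw [Scheme.Hom.appTop, Scheme.Hom.app_eq_appLE]
    rfl
  let ψ : Γ(M, (⊤ : U.Opens)) →ₗ[Γ(U, ⊤)] Γ(KFlatLib.pb g M, (⊤ : P.Opens)) :=
    { toFun := KFlatLib.puSecLE g M hle
      map_add' := map_add _
      map_smul' := fun r m => by rw [KFlatLib.puSecLE_smul, happ, RingHom.id_apply]; rfl }
  have hψ : IsBaseChange Γ(P, ⊤) ψ :=
    KFlatLib.isBaseChange_puSec g M (isAffineOpen_top _) (isAffineOpen_top _) hle
      (fun r => by rw [happ]; rfl) ψ fun _ => rfl
  let e' : Γ(KFlatLib.pb g M, (⊤ : P.Opens)) ≃ₗ[Γ(P, ⊤)] Γ(M', (⊤ : P.Opens)) :=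
    { toFun := fun y => e.hom.app ⊤ y
      invFun := fun y => e.inv.app ⊤ y
      map_add' := fun a b => map_add _ a b
      map_smul' := fun r y => QCohLib.app_smul e.hom ⊤ r y
      left_inv := fun y => congr($(congr_arg (fun φ : KFlatLib.pb g M ⟶ KFlatLib.pb g M => φ.app ⊤) e.hom_inv_id) y)
      right_inv := fun y => congr($(congr_arg (fun φ : M' ⟶ M' => φ.app ⊤) e.inv_hom_id) y) }
  refine IsBC.of_map (RingHom.algebraMap_toAlgebra _).symm ((e'.toLinearMap.restrictScalars Γ(U, ⊤)).comp ψ) ?_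
  exact hψ.comp (IsBaseChange.ofEquiv e')

section Affine

variable {X S U : Scheme.{u}} [IsAffine S] [IsAffine U] (f : X ⟶ S) (F : X.Modules) (q : U ⟶ X)

theorem exists_glue [IsProper f] [Coh.IsQCoh F] [Etale q]
    (hlift : ∀ (R : Type u) [CommRing R] [IsLocalRing R] (σ : Spec (CommRingCat.of R) ⟶ X),
      ∃ χ : Spec (CommRingCat.of R) ⟶ U, χ ≫ q = σ) :
    letI := (q ≫ f).appTop.hom.toAlgebra
    Nonempty (Glue Γ(S, ⊤) Γ(U, ⊤) Γ(KFlatLib.pb q F, (⊤ : U.Opens))) := by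
  haveI : IsAffineHom (q ≫ f) := inferInstance
  haveI : IsAffineHom q := MorphismProperty.of_postcomp (W := @IsAffineHom) (W' := @IsSeparated) q f inferInstance inferInstance
  let P := pullback q q
  let p₁ : P ⟶ U := pullback.fst q q
  let p₂ : P ⟶ U := pullback.snd q q
  haveI : IsAffine P := isAffine_of_isAffineHom p₁
  have hcond : p₁ ≫ q = p₂ ≫ q := pullback.condition
  letI : Algebra Γ(S, ⊤) Γ(U, ⊤) := (q ≫ f).appTop.hom.toAlgebra
  letI : Algebra Γ(S, ⊤) Γ(P, ⊤) := (p₁ ≫ q ≫ f).appTop.hom.toAlgebra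
  let s : Γ(U, ⊤) →ₐ[Γ(S, ⊤)] Γ(P, ⊤) :=
    { p₁.appTop.hom with commutes' := fun a => (by
        show p₁.appTop.hom ((q ≫ f).appTop.hom a) = (p₁ ≫ q ≫ f).appTop.hom a
        rw [Scheme.Hom.comp_appTop p₁]
        rfl) }
  let t : Γ(U, ⊤) →ₐ[Γ(S, ⊤)] Γ(P, ⊤) :=
    { p₂.appTop.hom with commutes' := fun a => (by
        show p₂.appTop.hom ((q ≫ f).appTop.hom a) = (p₁ ≫ q ≫ f).appTop.hom a
        rw [← Category.assoc p₁, hcond, Category.assoc, Scheme.Hom.comp_appTop p₂]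
        rfl) }
  haveI : Etale p₁ := MorphismProperty.pullback_fst _ _ inferInstance
  haveI : Etale p₂ := MorphismProperty.pullback_snd _ _ inferInstance
  let M := KFlatLib.pb q F
  haveI : Coh.IsQCoh M := KFlatLib.isQCoh_pullback q F
  let θ : KFlatLib.pb p₂ M ≅ KFlatLib.pb p₁ M :=
    (Scheme.Modules.pullbackComp p₂ q).app F ≪≫ (Scheme.Modules.pullbackCongr hcond.symm).app F ≪≫
      ((Scheme.Modules.pullbackComp p₁ q).app F).symm
  refine ⟨{ BB := Γ(P, ⊤)
            s := s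
            t := t
            hs := (HasRingHomProperty.iff_of_isAffine (P := @Etale)).1 inferInstance
            ht := (HasRingHomProperty.iff_of_isAffine (P := @Etale)).1 inferInstance
            NN := Γ(KFlatLib.pb p₁ M, (⊤ : P.Opens))
            hsN := isBC_pb p₁ M _ (Iso.refl _)
            htN := isBC_pb p₂ M _ θ
            lift := fun K _ _ V hV φ => ?_ }⟩
  let jK : V →+* K := V.subtype
  let jA : Γ(S, ⊤) →+* V := (algebraMap Γ(S, ⊤) K).codRestrict V.toSubring hV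
  have hj : jK.comp jA = algebraMap Γ(S, ⊤) K := RingHom.ext fun _ => rfl
  let a : Spec (CommRingCat.of K) ⟶ U := Spec.map (CommRingCat.ofHom φ.toRingHom) ≫ U.isoSpec.inv
  let b : Spec (CommRingCat.of V) ⟶ S := Spec.map (CommRingCat.ofHom jA) ≫ S.isoSpec.inv
  have ha : a ≫ U.isoSpec.hom = Spec.map (CommRingCat.ofHom φ.toRingHom) := by
    rw [Category.assoc, Iso.inv_hom_id, Category.comp_id]
  have hab : a ≫ q ≫ f = Spec.map (CommRingCat.ofHom jK) ≫ b := by
    rw [← cancel_mono S.isoSpec.hom, Category.assoc, ← Scheme.isoSpec_hom_naturality, reassoc_of% ha, ← Spec.map_comp]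
    show _ = (_ ≫ _ ≫ S.isoSpec.inv) ≫ S.isoSpec.hom
    rw [Category.assoc, Category.assoc, Iso.inv_hom_id, Category.comp_id, ← Spec.map_comp]
    congr 1
    ext x
    exact φ.commutes x
  have hex : ValuativeCriterion.Existence f := by
    have h := (inferInstance : UniversallyClosed f)
    rw [UniversallyClosed.eq_valuativeCriterion] at h
    exact h.1
  have sq : CommSq (a ≫ q) (Spec.map (CommRingCat.ofHom (algebraMap V K))) f b := ⟨by
    rw [Category.assoc, hab]; rfl⟩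
  obtain ⟨⟨l, hl₁, hl₂⟩⟩ := (hex ⟨V, K, a ≫ q, b, sq⟩).exists_lift
  obtain ⟨χ, hχ⟩ := hlift V l
  let w : Spec (CommRingCat.of K) ⟶ P :=
    pullback.lift (Spec.map (CommRingCat.ofHom (algebraMap V K)) ≫ χ) a (by rw [Category.assoc, hχ]; exact hl₁)
  let ψ₀ : CommRingCat.of Γ(P, ⊤) ⟶ CommRingCat.of K := Spec.preimage (w ≫ P.isoSpec.hom)
  have key : ∀ g : P ⟶ U, Spec.map (g.appTop ≫ ψ₀) = (w ≫ g) ≫ U.isoSpec.hom := fun g => by
    rw [Spec.map_comp, Spec.map_preimage, Category.assoc, Scheme.isoSpec_hom_naturality, Category.assoc]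
  have ht : p₂.appTop ≫ ψ₀ = CommRingCat.ofHom φ.toRingHom :=
    Spec.map_injective (by rw [key, show w ≫ p₂ = a from pullback.lift_snd _ _ _, ha])
  have hs : p₁.appTop ≫ ψ₀ = Spec.preimage (χ ≫ U.isoSpec.hom) ≫ CommRingCat.ofHom (algebraMap V K) :=
    Spec.map_injective (by
      rw [key, show w ≫ p₁ = _ from pullback.lift_fst _ _ _, Spec.map_comp, Spec.map_preimage, Category.assoc])
  have htx : ∀ x, ψ₀.hom (t x) = φ x := fun x => RingHom.congr_fun (congrArg CommRingCat.Hom.hom ht) x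
  refine ⟨{ ψ₀.hom with commutes' := fun x => (by
    show ψ₀.hom (algebraMap Γ(S, ⊤) Γ(P, ⊤) x) = _
    rw [← t.commutes, htx, φ.commutes]) }, htx, fun x => ?_⟩
  show ψ₀.hom (p₁.appTop.hom x) ∈ V
  rw [show ψ₀.hom (p₁.appTop.hom x) = _ from RingHom.congr_fun (congrArg CommRingCat.Hom.hom hs) x]
  exact SetLike.coe_mem _

/-- Flatness over an affine test scheme. -/
theorem isFlatOver_iff_fdim [Coh.IsQCoh F] [Etale q] [Surjective q] {T : Scheme.{u}} [IsAffine T] (t : T ⟶ S) :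
    letI := (q ≫ f).appTop.hom.toAlgebra
    letI := t.appTop.hom.toAlgebra
    (FlatMod.IsFlatOver (pullback.snd f t) ((Scheme.Modules.pullback (pullback.fst f t)).obj F) ↔
      FDim Γ(S, ⊤) 0 Γ(T, ⊤) Γ(U, ⊤) Γ(KFlatLib.pb q F, (⊤ : U.Opens))) := by
  letI : Algebra Γ(S, ⊤) Γ(U, ⊤) := (q ≫ f).appTop.hom.toAlgebra
  letI : Algebra Γ(S, ⊤) Γ(T, ⊤) := t.appTop.hom.toAlgebra
  let M := KFlatLib.pb q F
  haveI : Coh.IsQCoh M := KFlatLib.isQCoh_pullback q F
  letI : Module Γ(S, ⊤) Γ(M, (⊤ : U.Opens)) := Module.compHom _ (q ≫ f).appTop.hom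
  haveI : IsScalarTower Γ(S, ⊤) Γ(U, ⊤) Γ(M, (⊤ : U.Opens)) := IsScalarTower.of_algebraMap_smul fun _ _ => rfl
  let q' := pullback.snd q (pullback.fst f t)
  let e := pullbackRightPullbackFstIso f t q
  have hsnd : e.hom ≫ pullback.snd (q ≫ f) t = q' ≫ pullback.snd f t := pullbackRightPullbackFstIso_hom_snd _ _ _
  have hfst : q' ≫ pullback.fst f t = (e.hom ≫ pullback.fst (q ≫ f) t) ≫ q := by
    rw [pullbackRightPullbackFstIso_hom_fst]
    exact pullback.condition.symm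
  haveI : Coh.IsQCoh (KFlatLib.pb (pullback.fst f t) F) := KFlatLib.isQCoh_pullback _ _
  refine (Groth.Agent.S4655.result q' (pullback.snd f t) _ ‹_›).trans ?_
  let M₀ := KFlatLib.pb (pullback.fst (q ≫ f) t) M
  let θ : KFlatLib.pb q' (KFlatLib.pb (pullback.fst f t) F) ≅ KFlatLib.pb e.hom M₀ :=
    (Scheme.Modules.pullbackComp q' (pullback.fst f t)).app F ≪≫ (Scheme.Modules.pullbackCongr hfst).app F ≪≫
      ((Scheme.Modules.pullbackComp (e.hom ≫ pullback.fst (q ≫ f) t) q).app F).symm ≪≫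
      ((Scheme.Modules.pullbackComp e.hom (pullback.fst (q ≫ f) t)).app M).symm
  have h1 : ∀ x, FlatMod.IsFlatOverAt (q' ≫ pullback.snd f t) (KFlatLib.pb q' (KFlatLib.pb (pullback.fst f t) F)) x ↔
      FlatMod.IsFlatOverAt (pullback.snd (q ≫ f) t) M₀ (e.hom x) := fun x => by
    rw [RichLib.ModFlat.isFlatOverAt_iso _ θ x, ← hsnd]
    exact RichLib.ModFlat.isFlatOverAt_comp_source e.hom _ M₀ x
  have h2 : (∀ y, FlatMod.IsFlatOverAt (pullback.snd (q ≫ f) t) M₀ y) ↔ Module.Flat Γ(T, ⊤) (Γ(T, ⊤) ⊗[Γ(S, ⊤)] Γ(M, (⊤ : U.Opens))) := by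
    have h := FlatLib.flat_pullback_sections_iff (q ≫ f) M (isAffineOpen_top U) t
    have ea : (q ≫ f).appLE ⊤ ⊤ le_top = (q ≫ f).appTop := by rw [Scheme.Hom.appTop, Scheme.Hom.app_eq_appLE]; rfl
    have et : t.appLE ⊤ ⊤ le_top = t.appTop := by rw [Scheme.Hom.appTop, Scheme.Hom.app_eq_appLE]; rfl
    erw [ea, et] at h
    exact Iff.trans ⟨fun hh y _ => hh y, fun hh y => hh y trivial⟩ h
  refine Iff.trans ⟨fun hh y => ?_, fun hh x => (h1 x).2 (hh _)⟩ (h2.trans fdim_zero_iff_flat.symm)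
  obtain ⟨x, rfl⟩ := e.hom.surjective y
  exact (h1 x).1 (hh x)

end Affine

/-- The flattening monomorphism over an affine base. -/
theorem exists_mono_affine {X S : Scheme.{u}} [IsAffine S] (f : X ⟶ S) [IsProper f] [LocallyOfFinitePresentation f]
    (F : X.Modules) [Coh.IsQCoh F] (hF : CohB1.IsFP F) :
    ∃ (Z : Scheme.{u}) (i : Z ⟶ S), Mono i ∧ LocallyOfFinitePresentation i ∧ QuasiCompact i ∧
      ∀ (T : Scheme.{u}) [IsAffine T] (t : T ⟶ S),
        FlatMod.IsFlatOver (pullback.snd f t) ((Scheme.Modules.pullback (pullback.fst f t)).obj F) ↔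
          ∃ t' : T ⟶ Z, t' ≫ i = t := by
  haveI : CompactSpace X := QuasiCompact.compactSpace_of_compactSpace f
  obtain ⟨U, _, q, _, _, hlift⟩ := exists_atlas X
  letI : Algebra Γ(S, ⊤) Γ(U, ⊤) := (q ≫ f).appTop.hom.toAlgebra
  let N := Γ(KFlatLib.pb q F, (⊤ : U.Opens))
  obtain ⟨G⟩ := exists_glue f F q hlift
  letI : Module Γ(S, ⊤) N := Module.compHom _ (q ≫ f).appTop.hom
  haveI : IsScalarTower Γ(S, ⊤) Γ(U, ⊤) N := IsScalarTower.of_algebraMap_smul fun _ _ => rfl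
  haveI : Algebra.FinitePresentation Γ(S, ⊤) Γ(U, ⊤) :=
    RingHom.finitePresentation_algebraMap.1 ((HasRingHomProperty.iff_of_isAffine (P := @LocallyOfFinitePresentation)).1
      (inferInstance : LocallyOfFinitePresentation (q ≫ f)))
  haveI : Coh.IsQCoh (KFlatLib.pb q F) := KFlatLib.isQCoh_pullback q F
  haveI : Module.FinitePresentation Γ(U, ⊤) N :=
    Groth.Agent.S1178.finitePresentation_affine _ (RichLib.ModFlat.isFP_pullback q hF) (isAffineOpen_top U)
  obtain ⟨Z, i, h1, h2, h3, -, hZ⟩ := rep_all_glue G 0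
  refine ⟨Z, i ≫ S.isoSpec.inv, inferInstance, inferInstance, inferInstance, fun T _ t => ?_⟩
  letI : Algebra Γ(S, ⊤) Γ(T, ⊤) := t.appTop.hom.toAlgebra
  refine (isFlatOver_iff_fdim f F q t).trans ((hZ Γ(T, ⊤)).trans ?_)
  have hsp : Spec.map (CommRingCat.ofHom (algebraMap Γ(S, ⊤) Γ(T, ⊤))) = T.isoSpec.inv ≫ t ≫ S.isoSpec.hom := by
    rw [← Scheme.isoSpec_hom_naturality, Iso.inv_hom_id_assoc]
    rfl
  constructor
  · rintro ⟨k, hk⟩
    exact ⟨T.isoSpec.hom ≫ k, by rw [Category.assoc, reassoc_of% hk, reassoc_of% hsp]; simp⟩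
  · rintro ⟨t', ht'⟩
    exact ⟨T.isoSpec.inv ≫ t', by rw [hsp, ← ht']; simp⟩

/-- Flatness of the pullback, read after an open immersion of the test scheme. -/
theorem isFlatOverAt_open {X S T V : Scheme.{u}} (f : X ⟶ S) (F : X.Modules) (j : V ⟶ T) [IsOpenImmersion j]
    (t : T ⟶ S) (y : ↥(pullback f (j ≫ t))) :
    FlatMod.IsFlatOverAt (pullback.snd f (j ≫ t)) ((Scheme.Modules.pullback (pullback.fst f (j ≫ t))).obj F) y ↔
      FlatMod.IsFlatOverAt (pullback.snd f t) ((Scheme.Modules.pullback (pullback.fst f t)).obj F)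
        ((pullback.map f (j ≫ t) f t (𝟙 X) j (𝟙 S) (by simp) (by simp)) y) := by
  let k := pullback.map f (j ≫ t) f t (𝟙 X) j (𝟙 S) (by simp) (by simp)
  have hk₁ : k ≫ pullback.fst f t = pullback.fst f (j ≫ t) := by simp [k]
  have hk₂ : k ≫ pullback.snd f t = pullback.snd f (j ≫ t) ≫ j := by simp [k]
  haveI : IsOpenImmersion k := inferInstance
  rw [← RichLib.ModFlat.isFlatOverAt_comp_source k, ← RichLib.ModFlat.isFlatOverAt_comp_target _ j, hk₂]
  exact RichLib.ModFlat.isFlatOverAt_iso _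
    ((Scheme.Modules.pullbackCongr hk₁.symm).app F ≪≫ ((Scheme.Modules.pullbackComp k (pullback.fst f t)).app F).symm) y

theorem isFlatOver_open {X S T V : Scheme.{u}} (f : X ⟶ S) (F : X.Modules) (j : V ⟶ T) [IsOpenImmersion j]
    (t : T ⟶ S) (h : FlatMod.IsFlatOver (pullback.snd f t) ((Scheme.Modules.pullback (pullback.fst f t)).obj F)) :
    FlatMod.IsFlatOver (pullback.snd f (j ≫ t)) ((Scheme.Modules.pullback (pullback.fst f (j ≫ t))).obj F) :=
  fun y => (isFlatOverAt_open f F j t y).2 (h _)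

theorem isFlatOver_of_local {X S T : Scheme.{u}} (f : X ⟶ S) (F : X.Modules) (t : T ⟶ S)
    (h : ∀ x : T, ∃ V : T.Opens, x ∈ V ∧
      FlatMod.IsFlatOver (pullback.snd f (V.ι ≫ t)) ((Scheme.Modules.pullback (pullback.fst f (V.ι ≫ t))).obj F)) :
    FlatMod.IsFlatOver (pullback.snd f t) ((Scheme.Modules.pullback (pullback.fst f t)).obj F) := by
  intro z
  obtain ⟨V, hV, hfl⟩ := h ((pullback.snd f t) z)
  let k := pullback.map f (V.ι ≫ t) f t (𝟙 X) V.ι (𝟙 S) (by simp) (by simp)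
  have hpb : IsPullback k (pullback.snd f (V.ι ≫ t)) (pullback.snd f t) V.ι :=
    (IsPullback.of_right (by simpa [k] using IsPullback.of_hasPullback f (V.ι ≫ t) |>.flip |>.flip) (by simp [k])
      (IsPullback.of_hasPullback f t))
  obtain ⟨y, hy, -⟩ := Scheme.exists_preimage_of_isPullback hpb z ⟨(pullback.snd f t) z, hV⟩ rfl
  exact hy ▸ (isFlatOverAt_open f F V.ι t y).1 (hfl y)

/-- Over a field everything is flat. -/
theorem isFlatOver_field {X S : Scheme.{u}} (f : X ⟶ S) (F : X.Modules) [Coh.IsQCoh F] (K : Type u) [Field K]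
    (t : Spec (CommRingCat.of K) ⟶ S) :
    FlatMod.IsFlatOver (pullback.snd f t) ((Scheme.Modules.pullback (pullback.fst f t)).obj F) := by
  intro x
  haveI : Coh.IsQCoh (KFlatLib.pb (pullback.fst f t) F) := KFlatLib.isQCoh_pullback _ _
  obtain ⟨V, hV, hxV, -⟩ := exists_isAffineOpen_mem_and_subset (x := x) (U := ⊤) trivial
  letI : Algebra Γ(Spec (CommRingCat.of K), ⊤) Γ(pullback f t, V) := ((pullback.snd f t).appLE ⊤ V le_top).hom.toAlgebra
  letI : Module Γ(Spec (CommRingCat.of K), ⊤) Γ(KFlatLib.pb (pullback.fst f t) F, V) :=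
    Module.compHom _ ((pullback.snd f t).appLE ⊤ V le_top).hom
  haveI : IsScalarTower Γ(Spec (CommRingCat.of K), ⊤) Γ(pullback f t, V) Γ(KFlatLib.pb (pullback.fst f t) F, V) :=
    IsScalarTower.of_algebraMap_smul fun _ _ => rfl
  letI : Field Γ(Spec (CommRingCat.of K), ⊤) :=
    ((Scheme.ΓSpecIso (CommRingCat.of K)).commRingCatIsoToRingEquiv.toMulEquiv.isField (Field.toIsField K)).toField
  exact (FlatLib.forall_isFlatOverAt_iff (pullback.snd f t) _ ⊤ (isAffineOpen_top _) V hV le_top rfl).2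
    inferInstance x hxV

/-- The flattening monomorphism of a proper morphism of finite presentation. -/
theorem exists_flattening_mono {X S : Scheme.{u}} (f : X ⟶ S) [IsProper f] [LocallyOfFinitePresentation f]
    (F : X.Modules) (hF : CohB1.IsFP F) :
    ∃ (S' : Scheme.{u}) (ι : S' ⟶ S), Mono ι ∧ LocallyOfFinitePresentation ι ∧ QuasiCompact ι ∧ Surjective ι ∧
      ∀ (T : Scheme.{u}) (t : T ⟶ S), FlatMod.IsFlatOver (pullback.snd f t)
        ((Scheme.Modules.pullback (pullback.fst f t)).obj F) ↔ ∃ t' : T ⟶ S', t' ≫ ι = t := by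
  haveI : Coh.IsQCoh F := (have := hF; inferInstance)
  let Q : ∀ (T : Scheme.{u}), (T ⟶ S) → Prop := fun T t => ∀ (V : T.Opens), IsAffineOpen V →
    FlatMod.IsFlatOver (pullback.snd f (V.ι ≫ t)) ((Scheme.Modules.pullback (pullback.fst f (V.ι ≫ t))).obj F)
  have hQ : ∀ (T : Scheme.{u}) (t : T ⟶ S), FlatMod.IsFlatOver (pullback.snd f t)
      ((Scheme.Modules.pullback (pullback.fst f t)).obj F) ↔ Q T t := fun T t =>
    ⟨fun h V _ => isFlatOver_open f F V.ι t h, fun h => isFlatOver_of_local f F t fun x => by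
      obtain ⟨V, hV, hxV, -⟩ := exists_isAffineOpen_mem_and_subset (x := x) (U := ⊤) trivial
      exact ⟨V, hxV, h V hV⟩⟩
  have haff : ∀ U : S.affineOpens, ∃ (Z : Scheme.{u}) (i : Z ⟶ (U.1 : Scheme.{u})), Mono i ∧
      LocallyOfFinitePresentation i ∧ QuasiCompact i ∧
      ∀ (T : Scheme.{u}) (t : T ⟶ (U.1 : Scheme.{u})), FlatMod.IsFlatOver (pullback.snd f (t ≫ U.1.ι))
        ((Scheme.Modules.pullback (pullback.fst f (t ≫ U.1.ι))).obj F) ↔ ∃ l, l ≫ i = t := by
    intro U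
    haveI : IsAffine (U.1 : Scheme.{u}) := U.2
    let fU := pullback.snd f U.1.ι
    let FU := KFlatLib.pb (pullback.fst f U.1.ι) F
    haveI : Coh.IsQCoh FU := KFlatLib.isQCoh_pullback _ _
    obtain ⟨Z, i, h1, h2, h3, hZ⟩ := exists_mono_affine fU FU (RichLib.ModFlat.isFP_pullback _ hF)
    refine ⟨Z, i, h1, h2, h3, fun T t => ?_⟩
    have hiff : ∀ (T : Scheme.{u}) (t : T ⟶ (U.1 : Scheme.{u})), FlatMod.IsFlatOver (pullback.snd fU t)
        ((Scheme.Modules.pullback (pullback.fst fU t)).obj FU) ↔ FlatMod.IsFlatOver (pullback.snd f (t ≫ U.1.ι))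
        ((Scheme.Modules.pullback (pullback.fst f (t ≫ U.1.ι))).obj F) := by
      intro T t
      let e := pullbackLeftPullbackSndIso f U.1.ι t
      have h1 : e.hom ≫ pullback.snd f (t ≫ U.1.ι) = pullback.snd fU t := pullbackLeftPullbackSndIso_hom_snd _ _ _
      have h2 : pullback.fst fU t ≫ pullback.fst f U.1.ι = e.hom ≫ pullback.fst f (t ≫ U.1.ι) :=
        (pullbackLeftPullbackSndIso_hom_fst _ _ _).symm
      let θ : KFlatLib.pb (pullback.fst fU t) FU ≅ KFlatLib.pb e.hom (KFlatLib.pb (pullback.fst f (t ≫ U.1.ι)) F) :=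
        (Scheme.Modules.pullbackComp (pullback.fst fU t) (pullback.fst f U.1.ι)).app F ≪≫
          (Scheme.Modules.pullbackCongr h2).app F ≪≫
          ((Scheme.Modules.pullbackComp e.hom (pullback.fst f (t ≫ U.1.ι))).app F).symm
      have h3 : ∀ x, FlatMod.IsFlatOverAt (pullback.snd fU t) (KFlatLib.pb (pullback.fst fU t) FU) x ↔
          FlatMod.IsFlatOverAt (pullback.snd f (t ≫ U.1.ι)) (KFlatLib.pb (pullback.fst f (t ≫ U.1.ι)) F) (e.hom x) := fun x => by
        rw [RichLib.ModFlat.isFlatOverAt_iso _ θ x, ← h1]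
        exact RichLib.ModFlat.isFlatOverAt_comp_source e.hom _ (KFlatLib.pb (pullback.fst f (t ≫ U.1.ι)) F) x
      refine ⟨fun h y => ?_, fun h x => (h3 x).2 (h _)⟩
      obtain ⟨x, rfl⟩ := e.hom.surjective y
      exact (h3 x).1 (h x)
    constructor
    · intro h
      refine FlatInDimLib.exists_lift_of_local i t fun x => ?_
      obtain ⟨V, hV, hxV, -⟩ := exists_isAffineOpen_mem_and_subset (x := x) (U := ⊤) trivial
      haveI : IsAffine (V : Scheme.{u}) := hV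
      refine ⟨V, hxV, (hZ V (V.ι ≫ t)).1 ((hiff _ _).2 ?_)⟩
      rw [Category.assoc]
      exact isFlatOver_open f F V.ι _ h
    · rintro ⟨l, rfl⟩
      refine isFlatOver_of_local f F _ fun x => ?_
      obtain ⟨V, hV, hxV, -⟩ := exists_isAffineOpen_mem_and_subset (x := x) (U := ⊤) trivial
      haveI : IsAffine (V : Scheme.{u}) := hV
      refine ⟨V, hxV, ?_⟩
      rw [← Category.assoc]
      exact (hiff _ _).1 ((hZ V _).2 ⟨V.ι ≫ l, Category.assoc _ _ _⟩)
  have hcomp : ∀ (T T' : Scheme.{u}) (g : T' ⟶ T) (t : T ⟶ S), Q T t → Q T' (g ≫ t) := by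
    intro T T' g t h V hV
    rw [← Category.assoc]
    refine isFlatOver_of_local f F _ fun x => ?_
    obtain ⟨U, hU, hxU, -⟩ := exists_isAffineOpen_mem_and_subset (x := t ((V.ι ≫ g) x)) (U := ⊤) trivial
    obtain ⟨W, hW, hxW, hWU⟩ := exists_isAffineOpen_mem_and_subset (x := (V.ι ≫ g) x) (U := t ⁻¹ᵁ U) hxU
    obtain ⟨Z, i, -, -, -, hZ⟩ := haff ⟨U, hU⟩
    let tW : (W : Scheme.{u}) ⟶ (U : Scheme.{u}) := T.homOfLE hWU ≫ (t ∣_ U)
    have htW : tW ≫ U.ι = W.ι ≫ t := by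
      rw [Category.assoc, morphismRestrict_ι, Scheme.homOfLE_ι_assoc]
    obtain ⟨l, hl⟩ := (hZ _ tW).1 (by rw [htW]; exact h W hW)
    let O : (V : Scheme.{u}).Opens := (V.ι ≫ g) ⁻¹ᵁ W
    refine ⟨O, hxW, ?_⟩
    have hO : ((V.ι ≫ g) ∣_ W) ≫ W.ι = O.ι ≫ V.ι ≫ g := morphismRestrict_ι _ W
    have h4 := (hZ _ (((V.ι ≫ g) ∣_ W) ≫ tW)).2 ⟨((V.ι ≫ g) ∣_ W) ≫ l, by rw [Category.assoc, hl]⟩
    rw [Category.assoc, htW, reassoc_of% hO] at h4
    rw [Category.assoc]
    exact h4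
  obtain ⟨S', ι, h1, h2, h3, hS⟩ := exists_mono_of_local Q hcomp
    (fun T t h => (hQ T t).1 (isFlatOver_of_local f F t fun x => by
      obtain ⟨V, hxV, hV⟩ := h x
      exact ⟨V, hxV, (hQ _ _).2 hV⟩))
    (fun U => by
      obtain ⟨Z, i, h1, h2, h3, hZ⟩ := haff U
      exact ⟨Z, i, h1, h2, h3, fun T t => (hQ _ _).symm.trans (hZ T t)⟩)
  refine ⟨S', ι, h1, h2, h3, ⟨fun s => ?_⟩, fun T t => (hQ T t).trans (hS T t)⟩
  obtain ⟨l, hl⟩ := (hS _ (S.fromSpecResidueField s)).1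
    ((hQ _ _).1 (isFlatOver_field f F (S.residueField s) _))
  let z : Spec (S.residueField s) := (⟨⊥, Ideal.bot_prime⟩ : PrimeSpectrum (S.residueField s))
  exact ⟨l z, by rw [← Scheme.Hom.comp_apply, hl]; exact S.fromSpecResidueField_apply s z⟩

end PureFlatLib
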