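import Groth.Agent.PureFlatLib.Stage
import Groth.Agent.S1219
import Groth.Agent.S1220
import Groth.Agent.S9005
import Groth.Agent.FlatInjLib.ProjFlat
import Groth.Agent.FlatInjLib.AssFlat
import Groth.Agent.FlatLib.FibEssFP
import Mathlib

/-!
# Pure spreadouts after a finitely generated local quotient
-/

set_option autoImplicit false
set_option linter.all false
set_option maxHeartbeats 1000000
set_option backward.isDefEq.respectTransparency false
set_option backward.isDefEq.respectTransparency.types false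

universe u

open scoped TensorProduct

namespace PureFlatLib

attribute [local instance] Algebra.TensorProduct.rightAlgebra

section Generic

variable {A S A' S' : Type u} [CommRing A] [CommRing S] [CommRing A'] [CommRing S'] [Algebra A S] [Algebra A A']
  [Algebra A' S'] [Algebra S S'] [Algebra A S'] [IsScalarTower A S S'] [IsScalarTower A A' S'] [Algebra.IsPushout A S A' S']
  {M M' : Type u} [AddCommGroup M] [Module S M] [Module A M] [IsScalarTower A S M] [AddCommGroup M'] [Module S' M']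
  [Module S M'] [IsScalarTower S S' M'] [Module A' M'] [IsScalarTower A' S' M'] [Module A M'] [IsScalarTower A S M']
  [IsScalarTower A A' M']

/-- A base change along a pushout is a base change of the underlying modules. -/
theorem isBaseChange_restrict (f : M →ₗ[S] M') (hf : IsBaseChange S' f) : IsBaseChange A' (f.restrictScalars A) := by
  haveI : Algebra.IsPushout A A' S S' := Algebra.IsPushout.symm inferInstance
  refine IsBaseChange.of_equiv
    ((Algebra.IsPushout.cancelBaseChange A A' S S' M).symm.trans (hf.equiv.restrictScalars A')) fun x => ?_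
  show hf.equiv ((Algebra.IsPushout.cancelBaseChange A A' S S' M).symm (1 ⊗ₜ x)) = f x
  rw [Algebra.IsPushout.cancelBaseChange_symm_tmul, map_one, IsBaseChange.equiv_tmul, one_smul]

/-- A base change of the underlying modules is a base change along the pushout. -/
theorem isBaseChange_of_restrict (f : M →ₗ[S] M') (hf : IsBaseChange A' (f.restrictScalars A)) : IsBaseChange S' f := by
  haveI : Algebra.IsPushout A A' S S' := Algebra.IsPushout.symm inferInstance
  let e := TensorProduct.mk S S' M 1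
  have he : IsBaseChange S' e := TensorProduct.isBaseChange S M S'
  let φ := he.lift f
  have h1 := isBaseChange_restrict (A := A) (A' := A') e he
  refine IsBaseChange.of_equiv (LinearEquiv.ofBijective φ ?_) (fun x => he.lift_eq f x)
  have h2 : (φ.restrictScalars A' : S' ⊗[S] M →ₗ[A'] M') = (h1.equiv.symm.trans hf.equiv).toLinearMap := by
    refine h1.algHom_ext _ _ fun x => ?_
    show φ (e x) = hf.equiv (h1.equiv.symm (e.restrictScalars A x))
    rw [IsBaseChange.equiv_symm_apply, IsBaseChange.equiv_tmul, one_smul]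
    exact he.lift_eq f x
  have h3 : (φ : S' ⊗[S] M → M') = h1.equiv.symm.trans hf.equiv := funext fun x => LinearMap.congr_fun h2 x
  rw [h3]
  exact (h1.equiv.symm.trans hf.equiv).bijective

end Generic

/-- The kernel of a base change along a surjection. -/
theorem mem_ker_smul_top_of_isBaseChange {S S' : Type u} [CommRing S] [CommRing S'] [Algebra S S']
    (hs : Function.Surjective (algebraMap S S')) {M M' : Type u} [AddCommGroup M] [Module S M] [AddCommGroup M']
    [Module S M'] [Module S' M'] [IsScalarTower S S' M'] (f : M →ₗ[S] M') (hf : IsBaseChange S' f) (x : M)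
    (hx : f x = 0) : x ∈ RingHom.ker (algebraMap S S') • (⊤ : Submodule S M) := by
  let e : (S ⧸ RingHom.ker (Algebra.ofId S S')) ≃ₗ[S] S' :=
    (Ideal.quotientKerAlgEquivOfSurjective (f := Algebra.ofId S S') hs).toLinearEquiv
  have h0 : (1 : S') ⊗ₜ[S] x = 0 := by rw [← hf.equiv_symm_apply, hx, map_zero]
  have h1 := congrArg (e.symm.rTensor M) h0
  rw [LinearEquiv.rTensor_tmul, map_zero, show e.symm 1 = 1 from map_one
    (Ideal.quotientKerAlgEquivOfSurjective (f := Algebra.ofId S S') hs).symm] at h1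
  exact (LinearMap.ker_tensorProductMk (R := S) (Q := M) (I := RingHom.ker (Algebra.ofId S S'))).le
    (LinearMap.mem_ker.2 h1)

/-- Localisation commutes with base change. -/
theorem isPushout_of_localized {A B A' B₁ L L₁ : Type u} [CommRing A] [CommRing B] [CommRing A'] [CommRing B₁]
    [CommRing L] [CommRing L₁] [Algebra A B] [Algebra A A'] [Algebra A' B₁] [Algebra B B₁] [Algebra A B₁]
    [IsScalarTower A B B₁] [IsScalarTower A A' B₁] [Algebra.IsPushout A B A' B₁]
    [Algebra B L] [Algebra A L] [IsScalarTower A B L] [Algebra B₁ L₁] [Algebra L L₁] [Algebra B L₁] [Algebra A' L₁]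
    [Algebra A L₁] [IsScalarTower B B₁ L₁] [IsScalarTower B L L₁] [IsScalarTower A' B₁ L₁] [IsScalarTower A L L₁]
    [IsScalarTower A A' L₁] [IsScalarTower A B L₁]
    (T : Submonoid B) [IsLocalization T L] [IsLocalization (T.map (algebraMap B B₁)) L₁] :
    Algebra.IsPushout A L A' L₁ := by
  haveI : IsLocalization (Algebra.algebraMapSubmonoid B₁ T) L₁ :=
    (inferInstance : IsLocalization (T.map (algebraMap B B₁)) L₁)
  haveI : Algebra.IsPushout B B₁ L L₁ := Algebra.isPushout_of_isLocalization T L B₁ L₁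
  haveI : Algebra.IsPushout A A' B B₁ := Algebra.IsPushout.symm inferInstance
  haveI : Algebra.IsPushout B L B₁ L₁ := Algebra.IsPushout.symm inferInstance
  haveI : IsScalarTower A B₁ L₁ := IsScalarTower.of_algebraMap_eq fun a => by
    rw [IsScalarTower.algebraMap_apply A A' L₁, IsScalarTower.algebraMap_apply A' B₁ L₁,
      ← IsScalarTower.algebraMap_apply A A' B₁]
  exact (Algebra.IsPushout.comp_iff A B (T := L) A' B₁ (T' := L₁)).2 inferInstance

/-- Flatness at every prime gives flatness. -/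
theorem flat_of_flatAt_all {A B : Type u} [CommRing A] [CommRing B] [Algebra A B] {N : Type u} [AddCommGroup N]
    [Module B N] [Module A N] [IsScalarTower A B N] (h : ∀ (q : Ideal B) [q.IsPrime], FlatCA.FlatAt A q N) :
    Module.Flat A N :=
  Module.flat_of_isLocalized_maximal (R := A) B N (fun P _ => LocalizedModule P.primeCompl N)
    (fun P _ => LocalizedModule.mkLinearMap P.primeCompl N) fun P hP => by
      haveI := hP.isPrime
      exact h P

/-- A module pure along the closed fibre and flat over a local ring is projective. -/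
theorem projective_of_model {R₁ Bt₁ A' C : Type u} [CommRing R₁] [CommRing Bt₁] [CommRing A'] [IsLocalRing A']
    [CommRing C] [Algebra R₁ Bt₁] [Algebra R₁ A'] [Algebra A' C] [Algebra Bt₁ C] [Algebra R₁ C]
    [IsScalarTower R₁ Bt₁ C] [IsScalarTower R₁ A' C] [Algebra.IsPushout R₁ Bt₁ A' C]
    [Algebra.FinitePresentation R₁ Bt₁]
    {M₁ N' : Type u} [AddCommGroup M₁] [Module Bt₁ M₁] [Module R₁ M₁] [IsScalarTower R₁ Bt₁ M₁]
    [Module.FinitePresentation Bt₁ M₁] [Module.Flat R₁ M₁] [AddCommGroup N'] [Module C N'] [Module A' N']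
    [IsScalarTower A' C N'] [Module Bt₁ N'] [IsScalarTower Bt₁ C N']
    (h : M₁ →ₗ[Bt₁] N') (hh : IsBaseChange C h)
    (hpure : FlatCA.IsPureAlong A' C N' (IsLocalRing.maximalIdeal A')) : Module.Projective A' N' := by
  letI : Module R₁ N' := Module.compHom N' (algebraMap R₁ A')
  haveI : IsScalarTower R₁ A' N' := IsScalarTower.of_algebraMap_smul fun _ _ => rfl
  haveI : IsScalarTower R₁ Bt₁ N' := IsScalarTower.of_algebraMap_smul fun r x => by
    show algebraMap R₁ Bt₁ r • x = algebraMap R₁ A' r • x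
    rw [← algebraMap_smul C (algebraMap R₁ Bt₁ r) x, ← algebraMap_smul C (algebraMap R₁ A' r) x,
      ← IsScalarTower.algebraMap_apply, ← IsScalarTower.algebraMap_apply]
  haveI : Module.Flat A' N' := Module.Flat.isBaseChange R₁ A' M₁ N' (isBaseChange_restrict (A := R₁) (A' := A') h hh)
  haveI : Algebra.IsPushout R₁ A' Bt₁ C := Algebra.IsPushout.symm inferInstance
  haveI : Algebra.FinitePresentation A' C := Algebra.FinitePresentation.equiv (Algebra.IsPushout.equiv R₁ A' Bt₁ C)
  haveI : Module.FinitePresentation C N' := FinitePresentation.of_isBaseChange h hh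
  refine (Groth.Agent.S1219.result (A := A') (B := C) N').2 fun p hp => ?_
  have ho := Groth.Agent.S1220.result (A := A') (B := C) N'
  have hc : IsLocalRing.closedPoint A' ∈ {q : PrimeSpectrum A' | FlatCA.IsPureAlong A' C N' q.asIdeal} := hpure
  exact (IsLocalRing.specializes_closedPoint (⟨p, hp⟩ : PrimeSpectrum A')).mem_open ho hc

/-- Flatness over a field is automatic, and so is purity. -/
theorem isPureAlong_of_field {K B : Type u} [Field K] [CommRing B] [Algebra K B] [Algebra.FiniteType K B] (N : Type u)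
    [AddCommGroup N] [Module B N] [Module K N] [IsScalarTower K B N] [Module.Finite B N] (p : Ideal K) [p.IsPrime] :
    FlatCA.IsPureAlong K B N p := by
  have h := Groth.Agent.S9005.result (A := K) (B := B) N p
  intro A' B' N' _ _ _ _ _ _ _ _ _ _ _ _ _ _ f t' t _ _ P _ _
  exact h A' B' N' f t' t P

/-- The finitely generated local quotients have the residue field as colimit. -/
theorem isDirectedColimitRing_quotients (L : Type u) [CommRing L] (m : Ideal L)
    [∀ i : {I : Ideal L // I.FG ∧ I ≤ m}, Algebra (L ⧸ i.1) (L ⧸ m)]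
    (halg : ∀ (i : {I : Ideal L // I.FG ∧ I ≤ m}) (x : L),
      algebraMap (L ⧸ i.1) (L ⧸ m) (Ideal.Quotient.mk _ x) = Ideal.Quotient.mk m x)
    (g : ∀ i j : {I : Ideal L // I.FG ∧ I ≤ m}, i ≤ j → (L ⧸ i.1) →+* (L ⧸ j.1))
    (hg : ∀ i j (h : i ≤ j) (x : L), g i j h (Ideal.Quotient.mk _ x) = Ideal.Quotient.mk _ x) :
    FlatCA.IsDirectedColimitRing (fun i : {I : Ideal L // I.FG ∧ I ≤ m} => L ⧸ i.1) g (L ⧸ m) := by
  refine ⟨⟨fun i j => ⟨⟨i.1 ⊔ j.1, Submodule.FG.sup i.2.1 j.2.1, sup_le i.2.2 j.2.2⟩, le_sup_left (a := i.1),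
      le_sup_right (b := j.1)⟩⟩,
    ⟨⟨⊥, Submodule.fg_bot, bot_le⟩⟩, fun i => Ideal.Quotient.ringHom_ext (RingHom.ext fun x => hg _ _ _ x),
    fun i j k hij hjk => Ideal.Quotient.ringHom_ext (RingHom.ext fun x => ?_),
    fun i j h => Ideal.Quotient.ringHom_ext (RingHom.ext fun x => ?_), fun a => ?_, fun i x hx => ?_⟩
  · show g j k hjk (g i j hij (Ideal.Quotient.mk _ x)) = g i k _ (Ideal.Quotient.mk _ x)
    rw [hg, hg, hg]
  · show algebraMap (L ⧸ j.1) (L ⧸ m) (g i j h (Ideal.Quotient.mk _ x)) = algebraMap (L ⧸ i.1) (L ⧸ m) (Ideal.Quotient.mk _ x)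
    rw [hg, halg, halg]
  · obtain ⟨b, rfl⟩ := Ideal.Quotient.mk_surjective a
    exact ⟨⟨⊥, Submodule.fg_bot, bot_le⟩, Ideal.Quotient.mk _ b, halg _ b⟩
  · obtain ⟨b, rfl⟩ := Ideal.Quotient.mk_surjective x
    rw [halg] at hx
    have hb : b ∈ m := Ideal.Quotient.eq_zero_iff_mem.1 hx
    refine ⟨⟨i.1 ⊔ Ideal.span {b}, Submodule.FG.sup i.2.1 (Submodule.fg_span_singleton b),
      sup_le i.2.2 ((Ideal.span_singleton_le_iff_mem _).2 hb)⟩, le_sup_left (a := i.1), ?_⟩
    rw [hg]
    exact Ideal.Quotient.eq_zero_iff_mem.2 ((le_sup_right (a := i.1)) (Ideal.mem_span_singleton_self b))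

/-- Everything is flat at some stage below a field. -/
theorem exists_stage_flat_field {A : Type u} [CommRing A] {ι : Type u} [Preorder ι] (G : ι → Type u)
    [∀ i, CommRing (G i)] [∀ i, Algebra A (G i)] (g : ∀ i j, i ≤ j → G i →ₐ[A] G j) {K : Type u} [Field K]
    [Algebra A K] [∀ i, Algebra (G i) K] [∀ i, IsScalarTower A (G i) K]
    (hc : FlatCA.IsDirectedColimitRing G (fun i j h => (g i j h).toRingHom) K)
    {Bt : Type u} [CommRing Bt] [Algebra A Bt] [Algebra.FinitePresentation A Bt]
    (Mt : Type u) [AddCommGroup Mt] [Module Bt Mt] [Module A Mt] [IsScalarTower A Bt Mt]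
    [Module.FinitePresentation Bt Mt] :
    ∃ i : ι, ∀ (B₁ M₁ : Type u) [CommRing B₁] [Algebra Bt B₁] [Algebra (G i) B₁] [Algebra A B₁] [IsScalarTower A Bt B₁]
      [IsScalarTower A (G i) B₁] [Algebra.IsPushout A Bt (G i) B₁] [AddCommGroup M₁] [Module B₁ M₁] [Module (G i) M₁]
      [IsScalarTower (G i) B₁ M₁] [Module Bt M₁] [IsScalarTower Bt B₁ M₁] (f : Mt →ₗ[Bt] M₁), IsBaseChange B₁ f →
      ∀ (q : Ideal B₁) [q.IsPrime], FlatCA.FlatAt (G i) q M₁ := by
  haveI : IsLocalization (⊥ : Submonoid Bt) Bt := IsLocalization.self bot_le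
  have hess : FlatCA.EssFinitePresentation A Bt :=
    ⟨Bt, inferInstance, inferInstance, inferInstance, inferInstance, ⊥, inferInstance, inferInstance⟩
  haveI : Algebra.IsPushout A Bt K (K ⊗[A] Bt) := Algebra.IsPushout.symm inferInstance
  obtain ⟨i₁, hi₁⟩ := Groth.Agent.S6928.result hess G (fun i j h => (g i j h).toRingHom)
    (fun i j h => (g i j h).comp_algebraMap) K hc (fun _ => ⊥) (fun i j h => by rw [Ideal.map_bot])
    (S' := K ⊗[A] Bt) (TensorProduct.mk Bt (K ⊗[A] Bt) Mt 1) (TensorProduct.isBaseChange Bt Mt _) ⊥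
    (fun q _ _ => by unfold FlatCA.FlatAt; infer_instance)
  refine ⟨i₁, fun B₁ M₁ => ?_⟩
  intro _ _ _ _ _ _ _ _ _ _ _ _ _ f hf q _
  exact hi₁ B₁ M₁ f hf q (sup_le (Ideal.map_bot.le.trans bot_le) (Ideal.map_bot.le.trans bot_le))

/-- Purity along the image of the closed point at some stage below a field. -/
theorem exists_stage_pure_field {R₁ : Type u} [CommRing R₁] {ι : Type u} [Preorder ι] (G : ι → Type u)
    [∀ i, CommRing (G i)] [∀ i, Algebra R₁ (G i)] (g : ∀ i j, i ≤ j → G i →ₐ[R₁] G j) {K : Type u} [Field K]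
    [Algebra R₁ K] [∀ i, Algebra (G i) K] [∀ i, IsScalarTower R₁ (G i) K]
    (hc : FlatCA.IsDirectedColimitRing G (fun i j h => (g i j h).toRingHom) K)
    {B₁ : Type u} [CommRing B₁] [Algebra R₁ B₁] [Algebra.FinitePresentation R₁ B₁]
    (M₁ : Type u) [AddCommGroup M₁] [Module B₁ M₁] [Module R₁ M₁] [IsScalarTower R₁ B₁ M₁]
    [Module.FinitePresentation B₁ M₁] (hfl : ∀ (q : Ideal B₁) [q.IsPrime], FlatCA.FlatAt R₁ q M₁) :
    ∃ k : ι, ∀ (Bk Nk : Type u) [CommRing Bk] [Algebra (G k) Bk] [Algebra B₁ Bk] [Algebra R₁ Bk] [IsScalarTower R₁ (G k) Bk]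
      [IsScalarTower R₁ B₁ Bk] [Algebra.IsPushout R₁ B₁ (G k) Bk] [AddCommGroup Nk] [Module Bk Nk] [Module (G k) Nk]
      [IsScalarTower (G k) Bk Nk] [Module B₁ Nk] [IsScalarTower B₁ Bk Nk] (h : M₁ →ₗ[B₁] Nk), IsBaseChange Bk h →
      FlatCA.IsPureAlong (G k) Bk Nk ((⊥ : Ideal K).comap (algebraMap (G k) K)) := by
  haveI : Algebra.IsPushout R₁ B₁ K (K ⊗[R₁] B₁) := Algebra.IsPushout.symm inferInstance
  obtain ⟨k, hk⟩ := exists_stage_pure_forall G g hc M₁
    (TensorProduct.mk B₁ (K ⊗[R₁] B₁) M₁ 1) (TensorProduct.isBaseChange B₁ M₁ _) (⊥ : Ideal K)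
    (isPureAlong_of_field ((K ⊗[R₁] B₁) ⊗[B₁] M₁) ⊥) (fun q _ _ => hfl q)
  refine ⟨k, fun Bk Nk => ?_⟩
  intro _ _ _ _ _ _ _ _ _ _ _ _ _ h hh
  exact (hk Bk Nk h hh).1

/-- Projectivity of a model at a stage over a flat stage. -/
theorem projective_of_stage {A R₁ A' Bt B₁ C : Type u} [CommRing A] [CommRing R₁] [CommRing A'] [IsLocalRing A']
    [CommRing Bt] [CommRing B₁] [CommRing C] [Algebra A R₁] [Algebra A A'] [Algebra R₁ A'] [IsScalarTower A R₁ A']
    [Algebra A Bt] [Algebra R₁ B₁] [Algebra Bt B₁] [Algebra A B₁] [IsScalarTower A R₁ B₁] [IsScalarTower A Bt B₁]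
    [Algebra.IsPushout A Bt R₁ B₁] [Algebra.FinitePresentation R₁ B₁]
    [Algebra A' C] [Algebra Bt C] [Algebra A C] [IsScalarTower A Bt C] [IsScalarTower A A' C] [Algebra.IsPushout A Bt A' C]
    {Mt M₁ N' : Type u} [AddCommGroup Mt] [Module Bt Mt] [AddCommGroup M₁] [Module B₁ M₁] [Module Bt M₁]
    [IsScalarTower Bt B₁ M₁] [Module R₁ M₁] [IsScalarTower R₁ B₁ M₁] [Module.FinitePresentation B₁ M₁]
    [Module.Flat R₁ M₁] [AddCommGroup N'] [Module C N'] [Module A' N'] [IsScalarTower A' C N'] [Module Bt N']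
    [IsScalarTower Bt C N'] (f : Mt →ₗ[Bt] M₁) (hf : IsBaseChange B₁ f) (h : Mt →ₗ[Bt] N') (hh : IsBaseChange C h)
    (hpure : ∀ [Algebra B₁ C] [Algebra R₁ C] [IsScalarTower R₁ A' C] [IsScalarTower R₁ B₁ C]
      [Algebra.IsPushout R₁ B₁ A' C] [Module B₁ N'] [IsScalarTower B₁ C N'] (h₁ : M₁ →ₗ[B₁] N'), IsBaseChange C h₁ →
      FlatCA.IsPureAlong A' C N' (IsLocalRing.maximalIdeal A')) : Module.Projective A' N' := by
  letI : Algebra R₁ C := ((algebraMap A' C).comp (algebraMap R₁ A')).toAlgebra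
  haveI : IsScalarTower R₁ A' C := IsScalarTower.of_algebraMap_eq fun _ => rfl
  haveI : IsScalarTower A R₁ C := IsScalarTower.of_algebraMap_eq fun a => by
    rw [IsScalarTower.algebraMap_apply R₁ A' C, ← IsScalarTower.algebraMap_apply A R₁ A',
      ← IsScalarTower.algebraMap_apply A A' C]
  letI : Algebra B₁ C := (Algebra.pushoutDesc B₁ (R := A) (S := Bt) (R' := R₁) (IsScalarTower.toAlgHom A Bt C)
    (IsScalarTower.toAlgHom A R₁ C) fun _ _ => mul_comm _ _).toRingHom.toAlgebra
  haveI : IsScalarTower R₁ B₁ C := IsScalarTower.of_algebraMap_eq (R := R₁) (S := B₁) (A := C) fun x =>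
    (Algebra.pushoutDesc_right B₁ (R := A) (S := Bt) (R' := R₁) (IsScalarTower.toAlgHom A Bt C)
      (IsScalarTower.toAlgHom A R₁ C) _ x).symm
  haveI : IsScalarTower Bt B₁ C := IsScalarTower.of_algebraMap_eq (R := Bt) (S := B₁) (A := C) fun x =>
    (Algebra.pushoutDesc_left B₁ (R := A) (S := Bt) (R' := R₁) (IsScalarTower.toAlgHom A Bt C)
      (IsScalarTower.toAlgHom A R₁ C) _ x).symm
  haveI : Algebra.IsPushout A R₁ Bt B₁ := Algebra.IsPushout.symm inferInstance
  haveI : Algebra.IsPushout A A' Bt C := Algebra.IsPushout.symm inferInstance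
  haveI : Algebra.IsPushout R₁ A' B₁ C :=
    (Algebra.IsPushout.comp_iff A R₁ (T := A') Bt B₁ (T' := C)).1 inferInstance
  haveI : Algebra.IsPushout R₁ B₁ A' C := Algebra.IsPushout.symm inferInstance
  letI : Module B₁ N' := Module.compHom N' (algebraMap B₁ C)
  haveI : IsScalarTower B₁ C N' := IsScalarTower.of_algebraMap_smul fun _ _ => rfl
  haveI : IsScalarTower Bt B₁ N' := IsScalarTower.of_algebraMap_smul fun b x => by
    show algebraMap B₁ C (algebraMap Bt B₁ b) • x = b • x
    rw [← IsScalarTower.algebraMap_apply, algebraMap_smul]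
  have hh₁ : IsBaseChange C (hf.lift h) := IsBaseChange.of_comp hf (by rw [hf.lift_comp]; exact hh)
  exact projective_of_model (R₁ := R₁) (C := C) (hf.lift h) hh₁ (hpure (hf.lift h) hh₁)

/-- Purity along equal primes. -/
theorem pureAlong_congr {A B : Type u} [CommRing A] [CommRing B] [Algebra A B] {N : Type u} [AddCommGroup N]
    [Module B N] {p q : Ideal A} [p.IsPrime] [q.IsPrime] (h : p = q) (hp : FlatCA.IsPureAlong A B N p) :
    FlatCA.IsPureAlong A B N q := by
  subst h
  exact hp

/-- Projectivity at a stage below a field, for local stages. -/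
theorem exists_stage_projective_field {A : Type u} [CommRing A] {ι : Type u} [Preorder ι] (G : ι → Type u)
    [∀ i, CommRing (G i)] [∀ i, IsLocalRing (G i)] [∀ i, Algebra A (G i)] (g : ∀ i j, i ≤ j → G i →ₐ[A] G j)
    {K : Type u} [Field K] [Algebra A K] [∀ i, Algebra (G i) K] [∀ i, IsScalarTower A (G i) K]
    (hc : FlatCA.IsDirectedColimitRing G (fun i j h => (g i j h).toRingHom) K)
    (hclosed : ∀ i, (⊥ : Ideal K).comap (algebraMap (G i) K) = IsLocalRing.maximalIdeal (G i))
    {Bt : Type u} [CommRing Bt] [Algebra A Bt] [Algebra.FinitePresentation A Bt]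
    (Mt : Type u) [AddCommGroup Mt] [Module Bt Mt] [Module A Mt] [IsScalarTower A Bt Mt]
    [Module.FinitePresentation Bt Mt] :
    ∃ k : ι, ∀ (C N' : Type u) [CommRing C] [Algebra (G k) C] [Algebra Bt C] [Algebra A C] [IsScalarTower A Bt C]
        [IsScalarTower A (G k) C] [Algebra.IsPushout A Bt (G k) C] [AddCommGroup N'] [Module C N']
        [Module (G k) N'] [IsScalarTower (G k) C N'] [Module Bt N'] [IsScalarTower Bt C N']
        (h : Mt →ₗ[Bt] N'), IsBaseChange C h → Module.Projective (G k) N' := by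
  obtain ⟨i₁, hi₁⟩ := exists_stage_flat_field (A := A) (Bt := Bt) G g hc Mt
  haveI : Algebra.IsPushout A Bt (G i₁) (G i₁ ⊗[A] Bt) := Algebra.IsPushout.symm inferInstance
  let f₁ := TensorProduct.mk Bt (G i₁ ⊗[A] Bt) Mt 1
  have hf₁ : IsBaseChange (G i₁ ⊗[A] Bt) f₁ := TensorProduct.isBaseChange Bt Mt _
  have hfl : ∀ (q : Ideal (G i₁ ⊗[A] Bt)) [q.IsPrime], FlatCA.FlatAt (G i₁) q ((G i₁ ⊗[A] Bt) ⊗[Bt] Mt) := fun q _ =>
    hi₁ (G i₁ ⊗[A] Bt) _ f₁ hf₁ q
  haveI := flat_of_flatAt_all (B := G i₁ ⊗[A] Bt) hfl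
  haveI : Module.FinitePresentation (G i₁ ⊗[A] Bt) ((G i₁ ⊗[A] Bt) ⊗[Bt] Mt) :=
    FinitePresentation.of_isBaseChange f₁ hf₁
  have hc₁ := isDirectedColimitRing_above hc i₁
  obtain ⟨-, -, -, hcomp, hcompat, -, -⟩ := hc
  letI : ∀ j : {j // i₁ ≤ j}, Algebra (G i₁) (G j.1) := fun j => (g i₁ j.1 j.2).toRingHom.toAlgebra
  haveI : ∀ j : {j // i₁ ≤ j}, IsScalarTower (G i₁) (G j.1) K := fun j => IsScalarTower.of_algebraMap_eq fun x =>
    (RingHom.congr_fun (hcompat i₁ j.1 j.2) x).symm
  let g₁ : ∀ j k : {j // i₁ ≤ j}, j ≤ k → G j.1 →ₐ[G i₁] G k.1 := fun j k h =>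
    { (g j.1 k.1 h).toRingHom with commutes' := fun x => RingHom.congr_fun (hcomp i₁ j.1 k.1 j.2 h) x }
  obtain ⟨k, hk⟩ := exists_stage_pure_field (R₁ := G i₁) (B₁ := G i₁ ⊗[A] Bt) (fun j : {j // i₁ ≤ j} => G j.1) g₁ hc₁
    ((G i₁ ⊗[A] Bt) ⊗[Bt] Mt) hfl
  refine ⟨k.1, fun C N' => ?_⟩
  intro _ _ _ _ _ _ _ _ _ _ _ _ _ h hh
  haveI : IsScalarTower A (G i₁) (G k.1) := IsScalarTower.of_algebraMap_eq fun a => ((g i₁ k.1 k.2).commutes a).symm
  refine projective_of_stage (A := A) (R₁ := G i₁) (A' := G k.1) (B₁ := G i₁ ⊗[A] Bt) (C := C) f₁ hf₁ h hh ?_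
  intro _ _ _ _ _ _ _ h₁ hh₁
  exact pureAlong_congr (hclosed k.1) (hk C N' h₁ hh₁)

/-- A finitely presented module is projective over a finitely generated local quotient. -/
theorem exists_projective_stage {A : Type u} [CommRing A] (Lc : Type u) [CommRing Lc] [IsLocalRing Lc] [Algebra A Lc]
    {Bt : Type u} [CommRing Bt] [Algebra A Bt] [Algebra.FinitePresentation A Bt]
    (Mt : Type u) [AddCommGroup Mt] [Module Bt Mt] [Module A Mt] [IsScalarTower A Bt Mt] [Module.FinitePresentation Bt Mt] :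
    ∃ I : Ideal Lc, I.FG ∧ I ≤ IsLocalRing.maximalIdeal Lc ∧
      ∀ (C N' : Type u) [CommRing C] [Algebra (Lc ⧸ I) C] [Algebra Bt C] [Algebra A C] [IsScalarTower A Bt C]
        [IsScalarTower A (Lc ⧸ I) C] [Algebra.IsPushout A Bt (Lc ⧸ I) C] [AddCommGroup N'] [Module C N']
        [Module (Lc ⧸ I) N'] [IsScalarTower (Lc ⧸ I) C N'] [Module Bt N'] [IsScalarTower Bt C N']
        (h : Mt →ₗ[Bt] N'), IsBaseChange C h → Module.Projective (Lc ⧸ I) N' := by
  let m := IsLocalRing.maximalIdeal Lc
  let ι := {I : Ideal Lc // I.FG ∧ I ≤ m}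
  letI : Field (Lc ⧸ m) := Ideal.Quotient.field m
  let g : ∀ i j : ι, i ≤ j → (Lc ⧸ i.1) →ₐ[A] (Lc ⧸ j.1) := fun i j h => Ideal.Quotient.factorₐ A h
  letI : ∀ i : ι, Algebra (Lc ⧸ i.1) (Lc ⧸ m) := fun i => (Ideal.Quotient.factor i.2.2).toAlgebra
  haveI : ∀ i : ι, IsScalarTower A (Lc ⧸ i.1) (Lc ⧸ m) := fun i => IsScalarTower.of_algebraMap_eq fun a => rfl
  have hc : FlatCA.IsDirectedColimitRing (fun i : ι => Lc ⧸ i.1) (fun i j h => (g i j h).toRingHom) (Lc ⧸ m) :=
    isDirectedColimitRing_quotients Lc m (fun _ _ => rfl) _ (fun _ _ _ _ => rfl)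
  haveI : ∀ i : ι, IsLocalRing (Lc ⧸ i.1) := fun i =>
    haveI : Nontrivial (Lc ⧸ i.1) := Ideal.Quotient.nontrivial_iff.2
      (fun he => IsLocalRing.maximalIdeal.isMaximal Lc |>.ne_top (top_le_iff.1 (he.ge.trans i.2.2)))
    .of_surjective' (Ideal.Quotient.mk i.1) Ideal.Quotient.mk_surjective
  have hclosed : ∀ i : ι, (⊥ : Ideal (Lc ⧸ m)).comap (algebraMap (Lc ⧸ i.1) (Lc ⧸ m)) =
      IsLocalRing.maximalIdeal (Lc ⧸ i.1) := fun i =>
    IsLocalRing.eq_maximalIdeal (Ideal.comap_isMaximal_of_surjective _ (Ideal.Quotient.factor_surjective i.2.2))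
  obtain ⟨k, hk⟩ := exists_stage_projective_field (A := A) (Bt := Bt) (fun i : ι => Lc ⧸ i.1) g hc hclosed Mt
  exact ⟨k.1, k.2.1, k.2.2, hk⟩

section Assembly

/-- A common bound for the torsion over a field. -/
theorem exists_torsion_bound {A B : Type u} [CommRing A] [CommRing B] [Algebra A B] [Algebra.FiniteType A B]
    (T : Submonoid B) (M₀ : Type u) [AddCommGroup M₀] [Module B M₀] [Module.Finite B M₀] (K : Type u) [Field K]
    [Algebra A K] :
    ∃ t ∈ T, ∀ w : (K ⊗[A] B) ⊗[B] M₀, (∃ s ∈ T, algebraMap B (K ⊗[A] B) s • w = 0) →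
      algebraMap B (K ⊗[A] B) t • w = 0 := by
  classical
  haveI : Algebra.FiniteType K (K ⊗[A] B) := inferInstance
  haveI : IsNoetherianRing (K ⊗[A] B) := Algebra.FiniteType.isNoetherianRing K _
  haveI : IsNoetherian (K ⊗[A] B) ((K ⊗[A] B) ⊗[B] M₀) := isNoetherian_of_isNoetherianRing_of_finite _ _
  let Kt : Submodule (K ⊗[A] B) ((K ⊗[A] B) ⊗[B] M₀) :=
    { carrier := {w | ∃ s ∈ T, algebraMap B (K ⊗[A] B) s • w = 0}
      zero_mem' := ⟨1, T.one_mem, smul_zero _⟩
      add_mem' := fun {a b} ⟨s, hs, ha⟩ ⟨s', hs', hb⟩ => ⟨s * s', mul_mem hs hs', by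
        rw [map_mul, smul_add, mul_smul, mul_smul, hb, smul_zero, smul_comm, ha, smul_zero, add_zero]⟩
      smul_mem' := fun c a ⟨s, hs, ha⟩ => ⟨s, hs, by rw [smul_comm, ha, smul_zero]⟩ }
  obtain ⟨S, hS⟩ := IsNoetherian.noetherian Kt
  have hall : ∀ F : Finset ((K ⊗[A] B) ⊗[B] M₀), (∀ w ∈ F, w ∈ Kt) →
      ∃ t ∈ T, ∀ w ∈ F, algebraMap B (K ⊗[A] B) t • w = 0 := fun F => by
    induction F using Finset.induction_on with
    | empty => exact fun _ => ⟨1, T.one_mem, fun w hw => absurd hw (Finset.notMem_empty w)⟩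
    | insert a F _ ih =>
      intro hF
      obtain ⟨s, hs, ha⟩ := hF a (Finset.mem_insert_self a F)
      obtain ⟨t, ht, htF⟩ := ih fun w hw => hF w (Finset.mem_insert_of_mem hw)
      refine ⟨s * t, mul_mem hs ht, fun w hw => ?_⟩
      rw [map_mul]
      obtain rfl | hw := Finset.mem_insert.1 hw
      · rw [mul_comm, mul_smul, ha, smul_zero]
      · rw [mul_smul, htF w hw, smul_zero]
  obtain ⟨t, ht, htS⟩ := hall S fun w hw => hS.le (Submodule.subset_span hw)
  refine ⟨t, ht, fun w hw => ?_⟩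
  have hw' : w ∈ Submodule.span (K ⊗[A] B) (S : Set ((K ⊗[A] B) ⊗[B] M₀)) := hS.ge hw
  induction hw' using Submodule.span_induction with
  | mem x hx => exact htS x hx
  | zero => exact smul_zero _
  | add x y hx hy ihx ihy => rw [smul_add, ihx (hS.le hx), ihy (hS.le hy), add_zero]
  | smul c x hx ih => rw [smul_comm, ih (hS.le hx), smul_zero]

/-- Torsion freeness after inverting the bound. -/
theorem eq_zero_of_smul_eq_zero {B Bk W V : Type u} [CommRing B] [CommRing Bk] [Algebra B Bk] [AddCommGroup W]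
    [Module Bk W] [AddCommGroup V] [Module Bk V] (T : Submonoid B) (t : B) (ht : t ∈ T) (π : W →ₗ[Bk] V)
    [IsLocalizedModule (Submonoid.powers (algebraMap B Bk t)) π]
    (hW : ∀ w : W, (∃ s ∈ T, algebraMap B Bk s • w = 0) → algebraMap B Bk t • w = 0)
    (s : B) (hs : s ∈ T) (z : V) (hz : algebraMap B Bk s • z = 0) : z = 0 := by
  have hu : ∀ v : V, algebraMap B Bk t • v = 0 → v = 0 := fun v hv =>
    IsLocalizedModule.smul_injective π (⟨_, Submonoid.mem_powers _⟩ : Submonoid.powers (algebraMap B Bk t))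
      (hv.trans (smul_zero _).symm)
  obtain ⟨⟨w, ⟨d, n, rfl⟩⟩, hd⟩ := IsLocalizedModule.surj (Submonoid.powers (algebraMap B Bk t)) π z
  have hd' : algebraMap B Bk t ^ n • z = π w := hd
  have h1 : π (algebraMap B Bk s • w) = 0 := by rw [map_smul, ← hd', smul_comm, hz, smul_zero]
  obtain ⟨⟨c, j, rfl⟩, hc⟩ := (IsLocalizedModule.eq_zero_iff (Submonoid.powers (algebraMap B Bk t)) π).1 h1
  have hc' : algebraMap B Bk t ^ j • algebraMap B Bk s • w = 0 := hc
  have h2 := hW w ⟨t ^ j * s, mul_mem (pow_mem ht j) hs, by rw [map_mul, map_pow, mul_smul]; exact hc'⟩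
  have h3 : π w = 0 := hu _ (by rw [← map_smul, h2, map_zero])
  refine IsLocalizedModule.smul_injective π (⟨algebraMap B Bk t ^ n, n, rfl⟩ : Submonoid.powers (algebraMap B Bk t)) ?_
  show algebraMap B Bk t ^ n • z = algebraMap B Bk t ^ n • (0 : V)
  rw [hd', h3, smul_zero]

/-- An element whose image lies in the maximal ideal times the localisation. -/
theorem exists_smul_mem_of_localized {A' C N' N₁ : Type u} [CommRing A'] [CommRing C] [Algebra A' C] [AddCommGroup N']
    [Module C N'] [Module A' N'] [IsScalarTower A' C N'] [AddCommGroup N₁] [Module C N₁] [Module A' N₁]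
    [IsScalarTower A' C N₁] (S : Submonoid C) (g : N' →ₗ[C] N₁) [IsLocalizedModule S g] (m : Ideal A') (y : N')
    (hy : g y ∈ m • (⊤ : Submodule A' N₁)) : ∃ s ∈ S, s • y ∈ m • (⊤ : Submodule A' N') := by
  have key : ∀ n ∈ m • (⊤ : Submodule A' N₁), ∃ s ∈ S, ∃ z ∈ m • (⊤ : Submodule A' N'), s • n = g z := fun n hn => by
    refine Submodule.smul_induction_on hn (fun a ha x _ => ?_) fun x x' hx hx' => ?_
    · obtain ⟨⟨x₀, s⟩, hs⟩ := IsLocalizedModule.surj S g x
      refine ⟨s, s.2, a • x₀, Submodule.smul_mem_smul ha trivial, ?_⟩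
      show (s : C) • a • x = g (a • x₀)
      rw [smul_comm, ← Submonoid.smul_def, hs, g.map_smul_of_tower]
    · obtain ⟨s, hs, z, hz, he⟩ := hx
      obtain ⟨s', hs', z', hz', he'⟩ := hx'
      have hm : ∀ (c : C) (w : N'), w ∈ m • (⊤ : Submodule A' N') → c • w ∈ m • (⊤ : Submodule A' N') := fun c w hw =>
        Submodule.smul_mono le_rfl le_top ((Submodule.map_smul'' m ⊤ ((LinearMap.lsmul C N' c).restrictScalars A')).le
          (Submodule.mem_map_of_mem hw))
      refine ⟨s * s', mul_mem hs hs', s' • z + s • z', add_mem (hm _ _ hz) (hm _ _ hz'), ?_⟩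
      rw [map_add, map_smul, map_smul, ← he, ← he', smul_add, smul_smul, smul_smul, mul_comm s' s]
  obtain ⟨s, hs, z, hz, he⟩ := key _ hy
  rw [← map_smul] at he
  obtain ⟨c, hc⟩ := (IsLocalizedModule.eq_iff_exists S g).1 he
  refine ⟨c * s, mul_mem c.2 hs, ?_⟩
  rw [mul_smul, ← Submonoid.smul_def, hc]
  exact Submodule.smul_mono le_rfl le_top ((Submodule.map_smul'' m ⊤ ((LinearMap.lsmul C N' (c : C)).restrictScalars A')).le
    (Submodule.mem_map_of_mem hz))

end Assembly

section Fibre

variable {A B A' B₁ C K : Type u} [CommRing A] [CommRing B] [CommRing A'] [CommRing B₁] [CommRing C] [CommRing K]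
  [Algebra A B] [Algebra A A'] [Algebra A' B₁] [Algebra B B₁] [Algebra A B₁] [IsScalarTower A B B₁]
  [IsScalarTower A A' B₁] [Algebra.IsPushout A B A' B₁] [Algebra A K] [Algebra A' K] [IsScalarTower A A' K]
  [Algebra B₁ C] [Algebra B C] [Algebra A' C] [IsScalarTower B B₁ C] [IsScalarTower A' B₁ C]
  {M₀ N' : Type u} [AddCommGroup M₀] [Module B M₀] [AddCommGroup N'] [Module C N'] [Module B N'] [IsScalarTower B C N']
  [Module A' N'] [IsScalarTower A' C N'] (f₀ : M₀ →ₗ[B] N') (hf₀ : IsBaseChange C f₀)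

include hf₀ in
/-- Torsion freeness of the fibre of a model, with the fibre abstract. -/
theorem mem_smul_of_smul_mem_core (hK : Function.Surjective (algebraMap A' K)) (T : Submonoid B) (t : B) (ht : t ∈ T)
    [IsLocalization (Submonoid.powers (algebraMap B B₁ t)) C]
    {Bk Bkt W V : Type u} [CommRing Bk] [Algebra A Bk] [Algebra B Bk] [Algebra K Bk] [IsScalarTower A B Bk]
    [IsScalarTower A K Bk] [Algebra.IsPushout A B K Bk] [CommRing Bkt] [Algebra Bk Bkt] [Algebra B Bkt] [Algebra K Bkt]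
    [IsScalarTower B Bk Bkt] [IsScalarTower K Bk Bkt] [IsLocalization (Submonoid.powers (algebraMap B Bk t)) Bkt]
    [AddCommGroup W] [Module Bk W] [Module B W] [IsScalarTower B Bk W] [AddCommGroup V] [Module Bk V] [Module Bkt V]
    [IsScalarTower Bk Bkt V] [Module B V] [IsScalarTower B Bk V] [Module K V] [IsScalarTower K Bkt V]
    (w₀ : M₀ →ₗ[B] W) (hw₀ : IsBaseChange Bk w₀) (π : W →ₗ[Bk] V) (hπ : IsBaseChange Bkt π)
    (hW : ∀ w : W, (∃ s ∈ T, algebraMap B Bk s • w = 0) → algebraMap B Bk t • w = 0)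
    (s : B) (hs : s ∈ T) (y : N')
    (hy : algebraMap B C s • y ∈ RingHom.ker (algebraMap A' K) • (⊤ : Submodule A' N')) :
    y ∈ RingHom.ker (algebraMap A' K) • (⊤ : Submodule A' N') := by
  letI : Algebra B₁ Bk := (Algebra.pushoutDesc B₁ (R := A) (S := B) (R' := A') (IsScalarTower.toAlgHom A B Bk)
    ((IsScalarTower.toAlgHom A K Bk).comp (IsScalarTower.toAlgHom A A' K)) fun _ _ => mul_comm _ _).toRingHom.toAlgebra
  letI : Algebra A' Bk := ((algebraMap K Bk).comp (algebraMap A' K)).toAlgebra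
  haveI : IsScalarTower A' K Bk := IsScalarTower.of_algebraMap_eq fun _ => rfl
  haveI : IsScalarTower A' B₁ Bk := IsScalarTower.of_algebraMap_eq (R := A') (S := B₁) (A := Bk) fun x =>
    (Algebra.pushoutDesc_right B₁ (R := A) (S := B) (R' := A') (IsScalarTower.toAlgHom A B Bk)
      ((IsScalarTower.toAlgHom A K Bk).comp (IsScalarTower.toAlgHom A A' K)) _ x).symm
  haveI : IsScalarTower B B₁ Bk := IsScalarTower.of_algebraMap_eq (R := B) (S := B₁) (A := Bk) fun x =>
    (Algebra.pushoutDesc_left B₁ (R := A) (S := B) (R' := A') (IsScalarTower.toAlgHom A B Bk)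
      ((IsScalarTower.toAlgHom A K Bk).comp (IsScalarTower.toAlgHom A A' K)) _ x).symm
  haveI : Algebra.IsPushout A A' B B₁ := Algebra.IsPushout.symm inferInstance
  haveI : Algebra.IsPushout A K B Bk := Algebra.IsPushout.symm inferInstance
  haveI : Algebra.IsPushout A' K B₁ Bk :=
    (Algebra.IsPushout.comp_iff A A' (T := K) B B₁ (T' := Bk)).1 inferInstance
  haveI : Algebra.IsPushout A' B₁ K Bk := Algebra.IsPushout.symm inferInstance
  letI : Algebra B₁ Bkt := ((algebraMap Bk Bkt).comp (algebraMap B₁ Bk)).toAlgebra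
  haveI : IsScalarTower B₁ Bk Bkt := IsScalarTower.of_algebraMap_eq fun _ => rfl
  have htt : algebraMap B₁ Bk (algebraMap B B₁ t) = algebraMap B Bk t := (IsScalarTower.algebraMap_apply B B₁ Bk t).symm
  letI : Algebra C Bkt := (IsLocalization.lift (M := Submonoid.powers (algebraMap B B₁ t))
    (g := algebraMap B₁ Bkt) fun u => by
      obtain ⟨n, hn⟩ := u.2
      rw [← hn, map_pow, IsScalarTower.algebraMap_apply B₁ Bk Bkt, htt]
      exact (IsLocalization.map_units Bkt (⟨_, Submonoid.mem_powers _⟩ :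
        Submonoid.powers (algebraMap B Bk t))).pow n).toAlgebra
  haveI : IsScalarTower B₁ C Bkt := IsScalarTower.of_algebraMap_eq fun x => (IsLocalization.lift_eq _ x).symm
  letI : Algebra A' Bkt := ((algebraMap K Bkt).comp (algebraMap A' K)).toAlgebra
  haveI : IsScalarTower A' K Bkt := IsScalarTower.of_algebraMap_eq fun _ => rfl
  haveI : IsScalarTower A' B₁ Bkt := IsScalarTower.of_algebraMap_eq fun x => by
    rw [IsScalarTower.algebraMap_apply B₁ Bk Bkt, ← IsScalarTower.algebraMap_apply A' B₁ Bk,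
      IsScalarTower.algebraMap_apply A' K Bk, ← IsScalarTower.algebraMap_apply K Bk Bkt,
      ← IsScalarTower.algebraMap_apply A' K Bkt]
  haveI : IsScalarTower A' C Bkt := IsScalarTower.of_algebraMap_eq fun x => by
    rw [IsScalarTower.algebraMap_apply A' B₁ C, ← IsScalarTower.algebraMap_apply B₁ C Bkt,
      ← IsScalarTower.algebraMap_apply A' B₁ Bkt]
  haveI : IsScalarTower B C Bkt := IsScalarTower.of_algebraMap_eq fun x => by
    rw [IsScalarTower.algebraMap_apply B B₁ C, ← IsScalarTower.algebraMap_apply B₁ C Bkt,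
      IsScalarTower.algebraMap_apply B₁ Bk Bkt, ← IsScalarTower.algebraMap_apply B B₁ Bk,
      ← IsScalarTower.algebraMap_apply B Bk Bkt]
  haveI : IsLocalization ((Submonoid.powers (algebraMap B B₁ t)).map (algebraMap B₁ Bk)) Bkt := by
    rw [Submonoid.map_powers, htt]
    infer_instance
  haveI : Algebra.IsPushout A' C K Bkt :=
    isPushout_of_localized (A := A') (B := B₁) (A' := K) (B₁ := Bk) (Submonoid.powers (algebraMap B B₁ t))
  letI : Module C V := Module.compHom V (algebraMap C Bkt)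
  haveI : IsScalarTower C Bkt V := IsScalarTower.of_algebraMap_smul fun _ _ => rfl
  letI : Module A' V := Module.compHom V (algebraMap A' K)
  haveI : IsScalarTower A' K V := IsScalarTower.of_algebraMap_smul fun _ _ => rfl
  haveI : IsScalarTower A' C V := IsScalarTower.of_algebraMap_smul fun a x => by
    show algebraMap C Bkt (algebraMap A' C a) • x = algebraMap A' K a • x
    rw [← IsScalarTower.algebraMap_apply, IsScalarTower.algebraMap_apply A' K Bkt,
      algebraMap_smul Bkt (algebraMap A' K a) x]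
  haveI : IsScalarTower B C V := IsScalarTower.of_algebraMap_smul fun b x => by
    show algebraMap C Bkt (algebraMap B C b) • x = b • x
    rw [← IsScalarTower.algebraMap_apply, IsScalarTower.algebraMap_apply B Bk Bkt, algebraMap_smul, algebraMap_smul]
  haveI : IsScalarTower B Bkt V := IsScalarTower.of_algebraMap_smul fun b x => by
    rw [IsScalarTower.algebraMap_apply B Bk Bkt, algebraMap_smul, algebraMap_smul]
  let c : M₀ →ₗ[B] V := (π.restrictScalars B).comp w₀
  have hc : IsBaseChange Bkt c := hw₀.comp hπ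
  let f : N' →ₗ[C] V := hf₀.lift c
  have hf : IsBaseChange Bkt f := IsBaseChange.of_comp hf₀ (by rw [hf₀.lift_comp]; exact hc)
  have hfK : IsBaseChange K (f.restrictScalars A') := isBaseChange_restrict (A := A') (A' := K) f hf
  have hkill : ∀ z ∈ RingHom.ker (algebraMap A' K) • (⊤ : Submodule A' N'), f z = 0 := fun z hz => by
    refine Submodule.smul_induction_on hz (fun a ha x _ => ?_) fun x x' hx hx' => by rw [map_add, hx, hx', add_zero]
    rw [f.map_smul_of_tower]
    show algebraMap A' K a • f x = 0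
    rw [RingHom.mem_ker.1 ha, zero_smul]
  have h1 := hkill _ hy
  rw [map_smul, algebraMap_smul, ← algebraMap_smul Bk s] at h1
  haveI : IsLocalizedModule (Submonoid.powers (algebraMap B Bk t)) π :=
    (isLocalizedModule_iff_isBaseChange (Submonoid.powers (algebraMap B Bk t)) Bkt π).2 hπ
  refine mem_ker_smul_top_of_isBaseChange hK (f.restrictScalars A') hfK y ?_
  exact eq_zero_of_smul_eq_zero T t ht π hW s hs (f y) h1

include hf₀ in
/-- Torsion freeness of the fibre of a model. -/
theorem mem_smul_of_smul_mem (hK : Function.Surjective (algebraMap A' K)) (T : Submonoid B) (t : B) (ht : t ∈ T)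
    [IsLocalization (Submonoid.powers (algebraMap B B₁ t)) C]
    (hW : ∀ w : (K ⊗[A] B) ⊗[B] M₀, (∃ s ∈ T, algebraMap B (K ⊗[A] B) s • w = 0) → algebraMap B (K ⊗[A] B) t • w = 0)
    (s : B) (hs : s ∈ T) (y : N')
    (hy : algebraMap B C s • y ∈ RingHom.ker (algebraMap A' K) • (⊤ : Submodule A' N')) :
    y ∈ RingHom.ker (algebraMap A' K) • (⊤ : Submodule A' N') := by
  haveI : Algebra.IsPushout A B K (K ⊗[A] B) := Algebra.IsPushout.symm inferInstance
  let Bkt := Localization.Away (algebraMap B (K ⊗[A] B) t)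
  haveI : IsLocalization (Submonoid.powers (algebraMap B (K ⊗[A] B) t)) Bkt := Localization.isLocalization
  exact mem_smul_of_smul_mem_core (A := A) (B := B) (A' := A') (B₁ := B₁) (C := C) (K := K) f₀ hf₀ hK T t ht
    (Bk := K ⊗[A] B) (Bkt := Bkt) (TensorProduct.mk B (K ⊗[A] B) M₀ 1) (TensorProduct.isBaseChange B M₀ _)
    (TensorProduct.mk (K ⊗[A] B) Bkt ((K ⊗[A] B) ⊗[B] M₀) 1) (TensorProduct.isBaseChange _ _ _) hW s hs y hy

end Fibre

section Final

open AlgebraicGeometry

/-- The pure spreadout over a local base with the given residue field. -/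
theorem hasPureSpreadout_of_projective {A B A' B₁ K : Type u} [CommRing A] [CommRing B] [CommRing A'] [IsLocalRing A']
    [CommRing B₁] [CommRing K] [Algebra A B] [Algebra A A'] [Algebra A' B₁] [Algebra B B₁] [Algebra A B₁]
    [IsScalarTower A B B₁] [IsScalarTower A A' B₁] [Algebra.IsPushout A B A' B₁] [Algebra A K] [Algebra A' K]
    [IsScalarTower A A' K] (hK : Function.Surjective (algebraMap A' K))
    (hKm : RingHom.ker (algebraMap A' K) = IsLocalRing.maximalIdeal A')
    (T : Submonoid B) (t : B) (ht : t ∈ T) {M₀ : Type u} [AddCommGroup M₀] [Module B M₀] [Module.FinitePresentation B M₀]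
    (hW : ∀ w : (K ⊗[A] B) ⊗[B] M₀, (∃ s ∈ T, algebraMap B (K ⊗[A] B) s • w = 0) → algebraMap B (K ⊗[A] B) t • w = 0)
    (hproj : ∀ (C N' : Type u) [CommRing C] [Algebra A' C] [Algebra (Localization.Away t) C] [Algebra A C]
        [IsScalarTower A (Localization.Away t) C] [IsScalarTower A A' C]
        [Algebra.IsPushout A (Localization.Away t) A' C] [AddCommGroup N'] [Module C N'] [Module A' N']
        [IsScalarTower A' C N'] [Module (Localization.Away t) N'] [IsScalarTower (Localization.Away t) C N']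
        (h : (Localization.Away t ⊗[B] M₀) →ₗ[Localization.Away t] N'), IsBaseChange C h → Module.Projective A' N')
    {C : Type u} [CommRing C] [Algebra B₁ C] [IsLocalization.Away (algebraMap B B₁ t) C]
    {N : Type u} [AddCommGroup N] [Module (Localization T) N] [Module B N] [Module A N]
    [IsScalarTower B (Localization T) N] [IsScalarTower A (Localization T) N] [IsScalarTower A B N]
    (g₀ : M₀ →ₗ[B] N) [IsLocalizedModule T g₀]
    {N₁ : Type u} [AddCommGroup N₁] [Module (Localization (T.map (algebraMap B B₁))) N₁] [Module A' N₁]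
    [IsScalarTower A' (Localization (T.map (algebraMap B B₁))) N₁] [Module B N₁]
    [IsScalarTower B (Localization (T.map (algebraMap B B₁))) N₁] [Module A N₁] [IsScalarTower A A' N₁]
    [IsScalarTower A B N₁] (h : N →ₗ[B] N₁) (hh : IsBaseChange A' (h.restrictScalars A)) :
    FlatCA.HasPureSpreadout A' B₁ (T.map (algebraMap B B₁)) N₁ := by
  let T₁ := T.map (algebraMap B B₁)
  let L := Localization T
  let L₁ := Localization T₁
  letI : Algebra L L₁ := (IsLocalization.map L₁ (algebraMap B B₁) (T := T₁)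
    (Submonoid.le_comap_map T) : L →+* L₁).toAlgebra
  haveI : IsScalarTower B L L₁ := IsScalarTower.of_algebraMap_eq fun x => by
    rw [IsScalarTower.algebraMap_apply B B₁ L₁]
    exact (IsLocalization.map_eq (Submonoid.le_comap_map T) x).symm
  haveI : IsScalarTower A L L₁ := IsScalarTower.of_algebraMap_eq fun x => by
    rw [IsScalarTower.algebraMap_apply A B L, ← IsScalarTower.algebraMap_apply B L L₁,
      IsScalarTower.algebraMap_apply B B₁ L₁, ← IsScalarTower.algebraMap_apply A B B₁,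
      ← IsScalarTower.algebraMap_apply A B₁ L₁]
  haveI : IsScalarTower A A' L₁ := IsScalarTower.of_algebraMap_eq fun x => by
    rw [IsScalarTower.algebraMap_apply A' B₁ L₁, ← IsScalarTower.algebraMap_apply A A' B₁,
      ← IsScalarTower.algebraMap_apply A B₁ L₁]
  haveI : IsScalarTower A B L₁ := IsScalarTower.of_algebraMap_eq fun x => by
    rw [IsScalarTower.algebraMap_apply A B₁ L₁, IsScalarTower.algebraMap_apply B B₁ L₁,
      ← IsScalarTower.algebraMap_apply A B B₁]
  haveI : Algebra.IsPushout A L A' L₁ := isPushout_of_localized (A := A) (B := B) (A' := A') (B₁ := B₁) T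
  letI : Module L N₁ := Module.compHom N₁ (algebraMap L L₁)
  haveI : IsScalarTower L L₁ N₁ := IsScalarTower.of_algebraMap_smul fun _ _ => rfl
  haveI : IsScalarTower B L N₁ := IsScalarTower.of_algebraMap_smul fun b x => by
    show algebraMap L L₁ (algebraMap B L b) • x = b • x
    rw [← IsScalarTower.algebraMap_apply, algebraMap_smul]
  haveI : IsScalarTower A L N₁ := IsScalarTower.of_algebraMap_smul fun a x => by
    show algebraMap L L₁ (algebraMap A L a) • x = a • x
    rw [← IsScalarTower.algebraMap_apply, IsScalarTower.algebraMap_apply A B L₁, algebraMap_smul, algebraMap_smul]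
  have hL : IsBaseChange L₁ (h.extendScalarsOfIsLocalization T L) :=
    isBaseChange_of_restrict (A := A) (A' := A') _ (by exact hh)
  let c : M₀ →ₗ[B] N₁ := ((h.extendScalarsOfIsLocalization T L).restrictScalars B).comp g₀
  have hc : IsBaseChange L₁ c := ((isLocalizedModule_iff_isBaseChange T L g₀).1 inferInstance).comp hL
  -- the open
  letI : Algebra B C := ((algebraMap B₁ C).comp (algebraMap B B₁)).toAlgebra
  haveI : IsScalarTower B B₁ C := IsScalarTower.of_algebraMap_eq fun _ => rfl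
  letI : Algebra A' C := ((algebraMap B₁ C).comp (algebraMap A' B₁)).toAlgebra
  haveI : IsScalarTower A' B₁ C := IsScalarTower.of_algebraMap_eq fun _ => rfl
  letI : Algebra A C := ((algebraMap A' C).comp (algebraMap A A')).toAlgebra
  haveI : IsScalarTower A A' C := IsScalarTower.of_algebraMap_eq fun _ => rfl
  haveI : IsScalarTower A B C := IsScalarTower.of_algebraMap_eq fun x => by
    show algebraMap B₁ C (algebraMap A' B₁ (algebraMap A A' x)) = algebraMap B₁ C (algebraMap B B₁ (algebraMap A B x))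
    rw [← IsScalarTower.algebraMap_apply A A' B₁, ← IsScalarTower.algebraMap_apply A B B₁]
  have hle : Submonoid.powers (algebraMap B B₁ t) ≤ T₁ := Submonoid.powers_le.2 (Submonoid.mem_map_of_mem _ ht)
  letI : Algebra C L₁ := (IsLocalization.lift (M := Submonoid.powers (algebraMap B B₁ t)) (g := algebraMap B₁ L₁)
    fun u => IsLocalization.map_units L₁ (⟨u.1, hle u.2⟩ : T₁)).toAlgebra
  haveI : IsScalarTower B₁ C L₁ := IsScalarTower.of_algebraMap_eq fun x => (IsLocalization.lift_eq _ x).symm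
  haveI : IsScalarTower A' C L₁ := IsScalarTower.of_algebraMap_eq fun x => by
    rw [IsScalarTower.algebraMap_apply A' B₁ C, ← IsScalarTower.algebraMap_apply B₁ C L₁,
      ← IsScalarTower.algebraMap_apply A' B₁ L₁]
  haveI : IsScalarTower B C L₁ := IsScalarTower.of_algebraMap_eq fun x => by
    rw [IsScalarTower.algebraMap_apply B B₁ C, ← IsScalarTower.algebraMap_apply B₁ C L₁,
      ← IsScalarTower.algebraMap_apply B B₁ L₁]
  haveI : IsLocalization (T₁.map (algebraMap B₁ C)) L₁ :=
    IsLocalization.isLocalization_of_submonoid_le C L₁ (Submonoid.powers (algebraMap B B₁ t)) T₁ hle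
  letI : Module C N₁ := Module.compHom N₁ (algebraMap C L₁)
  haveI : IsScalarTower C L₁ N₁ := IsScalarTower.of_algebraMap_smul fun _ _ => rfl
  haveI : IsScalarTower A' C N₁ := IsScalarTower.of_algebraMap_smul fun a x => by
    show algebraMap C L₁ (algebraMap A' C a) • x = a • x
    rw [← IsScalarTower.algebraMap_apply, algebraMap_smul]
  haveI : IsScalarTower B C N₁ := IsScalarTower.of_algebraMap_smul fun b x => by
    show algebraMap C L₁ (algebraMap B C b) • x = b • x
    rw [← IsScalarTower.algebraMap_apply, algebraMap_smul]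
  let N' := C ⊗[B] M₀
  let f₀ : M₀ →ₗ[B] N' := TensorProduct.mk B C M₀ 1
  have hf₀ : IsBaseChange C f₀ := TensorProduct.isBaseChange B M₀ C
  letI : Module A' N' := Module.compHom N' (algebraMap A' C)
  haveI : IsScalarTower A' C N' := IsScalarTower.of_algebraMap_smul fun _ _ => rfl
  let g : N' →ₗ[C] N₁ := hf₀.lift c
  have hg : IsBaseChange L₁ g := IsBaseChange.of_comp hf₀ (by rw [hf₀.lift_comp]; exact hc)
  haveI : IsLocalizedModule (T₁.map (algebraMap B₁ C)) g := (isLocalizedModule_iff_isBaseChange _ L₁ g).2 hg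
  haveI hp : Module.Projective A' N' := by
    let Bt := Localization.Away t
    haveI : IsLocalization (Submonoid.powers t) Bt := Localization.isLocalization
    letI : Algebra Bt C := (IsLocalization.lift (M := Submonoid.powers t) (g := algebraMap B C) fun u => by
      obtain ⟨n, hn⟩ := u.2
      rw [← hn, map_pow]
      exact (IsLocalization.map_units C (⟨_, Submonoid.mem_powers _⟩ :
        Submonoid.powers (algebraMap B B₁ t))).pow n).toAlgebra
    haveI : IsScalarTower B Bt C := IsScalarTower.of_algebraMap_eq fun x => (IsLocalization.lift_eq _ x).symm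
    haveI : IsScalarTower A Bt C := IsScalarTower.of_algebraMap_eq fun x => by
      rw [IsScalarTower.algebraMap_apply A B Bt, ← IsScalarTower.algebraMap_apply B Bt C,
        ← IsScalarTower.algebraMap_apply A B C]
    haveI : IsLocalization ((Submonoid.powers t).map (algebraMap B B₁)) C := by
      rw [Submonoid.map_powers]
      infer_instance
    haveI : Algebra.IsPushout A Bt A' C := isPushout_of_localized (A := A) (B := B) (A' := A') (B₁ := B₁) (Submonoid.powers t)
    letI : Module Bt N' := Module.compHom N' (algebraMap Bt C)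
    haveI : IsScalarTower Bt C N' := IsScalarTower.of_algebraMap_smul fun _ _ => rfl
    haveI : IsScalarTower B Bt N' := IsScalarTower.of_algebraMap_smul fun b x => by
      show algebraMap Bt C (algebraMap B Bt b) • x = b • x
      rw [← IsScalarTower.algebraMap_apply, algebraMap_smul]
    let hM := TensorProduct.isBaseChange B M₀ Bt
    exact hproj C N' (hM.lift f₀) (IsBaseChange.of_comp hM (by rw [hM.lift_comp]; exact hf₀))
  haveI : Module.Flat A' N₁ := FlatInjLib.flat_of_isLocalizedModule (S := C) (T₁.map (algebraMap B₁ C)) g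
  refine ⟨C, inferInstance, inferInstance, inferInstance, inferInstance, inferInstance, inferInstance, inferInstance,
    inferInstance, inferInstance, inferInstance, N', inferInstance, inferInstance, inferInstance, inferInstance, g,
    IsOpenImmersion.of_isLocalization (algebraMap B B₁ t), FinitePresentation.of_isBaseChange f₀ hf₀, hg, hp, ?_⟩
  intro Q _ _
  refine FlatInjLib.univInj_of_projective_of_flat (g.restrictScalars A') (fun m hm y hy => ?_) Q
  haveI := hm
  obtain rfl : m = IsLocalRing.maximalIdeal A' := IsLocalRing.eq_maximalIdeal hm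
  obtain ⟨s, ⟨_, ⟨s₀, hs₀, rfl⟩, rfl⟩, hsy⟩ :=
    exists_smul_mem_of_localized (T₁.map (algebraMap B₁ C)) g _ y hy
  rw [← hKm] at hsy ⊢
  rw [← IsScalarTower.algebraMap_apply] at hsy
  exact mem_smul_of_smul_mem (A := A) (B := B) (A' := A') (B₁ := B₁) (C := C) (K := K) f₀ hf₀ hK T t ht hW s₀ hs₀ y hsy

end Final

end PureFlatLib
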