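import Groth.Agent.PureFlatLib.Descend
import Mathlib

/-!
# A pure and flat module along a fibre comes from a pure and flat module at a stage
-/

set_option autoImplicit false
set_option linter.all false
set_option maxHeartbeats 1000000
set_option backward.isDefEq.respectTransparency false
set_option backward.isDefEq.respectTransparency.types false

universe u

open scoped TensorProduct

namespace PureFlatLib

attribute [local instance] Algebra.TensorProduct.rightAlgebra

/-- A condition at the generalisations of a point descends to a stage. -/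
theorem exists_stage_injAt {R : Type u} [CommRing R] {ι : Type u} [Preorder ι] (G : ι → Type u) [∀ i, CommRing (G i)]
    [∀ i, Algebra R (G i)] (g : ∀ i j, i ≤ j → G i →ₐ[R] G j) {A : Type u} [CommRing A] [Algebra R A]
    [∀ i, Algebra (G i) A] [∀ i, IsScalarTower R (G i) A]
    (hc : FlatCA.IsDirectedColimitRing G (fun i j h => (g i j h).toRingHom) A)
    {R' : Type u} [CommRing R'] [Algebra R R'] {E : Set (PrimeSpectrum R')} (hE : Topology.IsConstructible E)
    (P : Ideal (A ⊗[R] R')) [P.IsPrime]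
    (h : ∀ (t : Ideal (A ⊗[R] R')) [t.IsPrime], t ≤ P →
      (⟨t.comap (algebraMap R' (A ⊗[R] R')), Ideal.IsPrime.comap _⟩ : PrimeSpectrum R') ∈ E) :
    ∃ k : ι, ∀ (t : Ideal (G k ⊗[R] R')) [t.IsPrime],
      t ≤ P.comap (Algebra.TensorProduct.map (IsScalarTower.toAlgHom R (G k) A) (AlgHom.id R R')).toRingHom →
      (⟨t.comap (algebraMap R' (G k ⊗[R] R')), Ideal.IsPrime.comap _⟩ : PrimeSpectrum R') ∈ E := by
  classical
  obtain ⟨Sr, _, φ, hφ⟩ := PrimeSpectrum.exists_range_eq_of_isConstructible hE.compl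
  letI : Algebra R' Sr := φ.toAlgebra
  letI : Algebra R Sr := ((algebraMap R' Sr).comp (algebraMap R R')).toAlgebra
  haveI : IsScalarTower R R' Sr := IsScalarTower.of_algebraMap_eq fun _ => rfl
  let χ : ∀ (C : Type u) [CommRing C] [Algebra R C], C ⊗[R] R' →ₐ[R] C ⊗[R] Sr := fun C _ _ =>
    Algebra.TensorProduct.map (AlgHom.id R C) (IsScalarTower.toAlgHom R R' Sr)
  have hχ : ∀ (C : Type u) [CommRing C] [Algebra R C],
      (χ C).toRingHom.comp (algebraMap R' (C ⊗[R] R')) = (algebraMap Sr (C ⊗[R] Sr)).comp φ := fun C _ _ =>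
    RingHom.ext fun x => by
      show χ C (1 ⊗ₜ x) = 1 ⊗ₜ φ x
      simp only [χ, Algebra.TensorProduct.map_tmul, map_one]
      rfl
  obtain ⟨z, hzP, hz⟩ : ∃ z ∉ P, χ A z = 0 := by
    by_contra hno
    push Not at hno
    obtain ⟨Q, hQ, hQP⟩ := Ideal.exists_minimalPrimes_le
      (show RingHom.ker (χ A).toRingHom ≤ P from fun x hx => by_contra fun hxP => hno x hxP hx)
    haveI := hQ.1.1
    obtain ⟨Q', hQ', -, hQQ⟩ := Ideal.exists_comap_eq_of_mem_minimalPrimes (χ A).toRingHom (I := ⊥) Q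
      (by rwa [← RingHom.ker_eq_comap_bot])
    have hE' := h Q hQP
    refine hφ.le ⟨⟨Q'.comap (algebraMap Sr (A ⊗[R] Sr)), Ideal.IsPrime.comap _⟩, PrimeSpectrum.ext ?_⟩ hE'
    show (Q'.comap _).comap φ = Q.comap _
    rw [Ideal.comap_comap, ← hχ A, ← Ideal.comap_comap, hQQ]
  obtain ⟨hex, -⟩ := GeomPureLib.colim_tensor G g A hc R'
  obtain ⟨-, hzero⟩ := GeomPureLib.colim_tensor G g A hc Sr
  obtain ⟨i, x, hx⟩ := hex z
  have hnat : ∀ (C D : Type u) [CommRing C] [CommRing D] [Algebra R C] [Algebra R D] (σ : C →ₐ[R] D) (y : C ⊗[R] R'),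
      σ.toLinearMap.rTensor Sr (χ C y) = χ D (σ.toLinearMap.rTensor R' y) := fun C D _ _ _ _ σ y => by
    induction y using TensorProduct.induction_on with
    | zero => simp
    | add a b ha hb => simp only [map_add, ha, hb]
    | tmul a b => simp [χ]
  obtain ⟨k, hik, hk⟩ := hzero i (χ (G i) x) (by rw [hnat, hx]; exact hz)
  let y := (g i k hik).toLinearMap.rTensor R' x
  have hy : χ (G k) y = 0 := by rw [← hnat]; exact hk
  refine ⟨k, fun t ht htP => by_contra fun hmem => ?_⟩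
  have hyt : y ∉ t := fun hyt => hzP (by
    have h1 := htP hyt
    rw [Ideal.mem_comap] at h1
    convert h1 using 1
    rw [← hx]
    show _ = Algebra.TensorProduct.map (IsScalarTower.toAlgHom R (G k) A) (AlgHom.id R R') ((g i k hik).toLinearMap.rTensor R' x)
    clear hx hy hk htP hyt h1
    induction x using TensorProduct.induction_on with
    | zero => simp
    | add a b ha hb => simp only [map_add, ha, hb]
    | tmul a b =>
      simp only [LinearMap.rTensor_tmul, Algebra.TensorProduct.map_tmul]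
      exact congrArg (· ⊗ₜ[R] b) (RingHom.congr_fun (hc.2.2.2.2.1 i k hik) a).symm)
  obtain ⟨⟨Q₀, hQ₀⟩, hQ₀t⟩ := hφ.ge hmem
  let T := G k ⊗[R] R'
  let U := G k ⊗[R] Sr
  letI : Algebra T U := (χ (G k)).toRingHom.toAlgebra
  letI : Algebra R' U := ((algebraMap Sr U).comp φ).toAlgebra
  haveI : IsScalarTower R' Sr U := IsScalarTower.of_algebraMap_eq fun a => by
    show algebraMap R' U a = 1 ⊗ₜ φ a
    rfl
  haveI : IsScalarTower R' T U := IsScalarTower.of_algebraMap_eq (R := R') (S := T) (A := U) fun a => by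
    rw [IsScalarTower.algebraMap_apply R' Sr U]
    exact (RingHom.congr_fun (hχ (G k)) a).symm
  haveI : IsScalarTower (G k) T U := IsScalarTower.of_algebraMap_eq (R := G k) (S := T) (A := U) fun a => by
    show a ⊗ₜ 1 = χ (G k) (a ⊗ₜ 1)
    simp [χ]
  haveI : Algebra.IsPushout R R' (G k) T := Algebra.IsPushout.symm inferInstance
  haveI : Algebra.IsPushout R Sr (G k) U := Algebra.IsPushout.symm inferInstance
  haveI : Algebra.IsPushout R' Sr T U := (Algebra.IsPushout.comp_iff R R' (T := Sr) (G k) T (T' := U)).1 inferInstance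
  haveI : Algebra.IsPushout R' T Sr U := Algebra.IsPushout.symm inferInstance
  let t₀ := t.comap (algebraMap R' T)
  haveI : t₀.IsPrime := Ideal.IsPrime.comap _
  haveI : t.LiesOver t₀ := ⟨rfl⟩
  haveI : Q₀.LiesOver t₀ := ⟨(congrArg PrimeSpectrum.asIdeal hQ₀t).symm⟩
  obtain ⟨Q', hQ', hQt, -, -⟩ := exists_over (R := R') (B := Sr) (R' := T) (B' := U) t₀ Q₀ t
  refine hyt (hQt.over.ge ?_)
  show χ (G k) y ∈ Q'
  rw [hy]
  exact zero_mem _

/-- Models between the base and the limit. -/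
theorem exists_model_between {R C A B₁ B : Type u} [CommRing R] [CommRing C] [CommRing A] [CommRing B₁] [CommRing B]
    [Algebra R C] [Algebra C A] [Algebra R A] [IsScalarTower R C A] [Algebra R B₁] [Algebra A B] [Algebra B₁ B]
    [Algebra R B] [IsScalarTower R A B] [IsScalarTower R B₁ B] [Algebra.IsPushout R B₁ A B] [Algebra.FinitePresentation R B₁]
    {N₁ N : Type u} [AddCommGroup N₁] [Module B₁ N₁] [Module.FinitePresentation B₁ N₁] [AddCommGroup N] [Module B N]
    [Module B₁ N] [IsScalarTower B₁ B N] (f₁ : N₁ →ₗ[B₁] N) (hf₁ : IsBaseChange B f₁) :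
    ∃ (Bk : Type u) (_ : CommRing Bk) (_ : Algebra C Bk) (_ : Algebra B₁ Bk) (_ : Algebra R Bk) (_ : Algebra Bk B)
      (_ : Algebra C B) (_ : IsScalarTower R C Bk) (_ : IsScalarTower R B₁ Bk) (_ : IsScalarTower C A B)
      (_ : IsScalarTower C Bk B) (_ : Algebra.IsPushout R B₁ C Bk) (_ : Algebra.IsPushout C Bk A B)
      (Nk : Type u) (_ : AddCommGroup Nk) (_ : Module Bk Nk) (_ : Module B₁ Nk) (_ : IsScalarTower B₁ Bk Nk)
      (_ : Module C Nk) (_ : IsScalarTower C Bk Nk) (_ : Module Bk N) (_ : IsScalarTower Bk B N)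
      (h : N₁ →ₗ[B₁] Nk) (f : Nk →ₗ[Bk] N), Algebra.FinitePresentation C Bk ∧ Module.FinitePresentation Bk Nk ∧
        IsBaseChange Bk h ∧ IsBaseChange B f := by
  let Bk := C ⊗[R] B₁
  haveI : Algebra.IsPushout R B₁ C Bk := Algebra.IsPushout.symm inferInstance
  letI : Algebra C B := ((algebraMap A B).comp (algebraMap C A)).toAlgebra
  haveI : IsScalarTower C A B := IsScalarTower.of_algebraMap_eq fun _ => rfl
  let cC : C →ₐ[R] B := { algebraMap C B with commutes' := fun r => (by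
    show algebraMap A B (algebraMap C A (algebraMap R C r)) = _
    rw [← IsScalarTower.algebraMap_apply R C A, ← IsScalarTower.algebraMap_apply R A B]) }
  letI : Algebra Bk B := (Algebra.TensorProduct.lift cC (IsScalarTower.toAlgHom R B₁ B)
    fun _ _ => Commute.all _ _).toRingHom.toAlgebra
  haveI : IsScalarTower C Bk B := IsScalarTower.of_algebraMap_eq (R := C) (S := Bk) (A := B) fun x => by
    show algebraMap C B x = Algebra.TensorProduct.lift cC (IsScalarTower.toAlgHom R B₁ B) _ (x ⊗ₜ 1)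
    rw [Algebra.TensorProduct.lift_tmul, map_one, mul_one]
    rfl
  haveI : IsScalarTower B₁ Bk B := IsScalarTower.of_algebraMap_eq (R := B₁) (S := Bk) (A := B) fun x => by
    show algebraMap B₁ B x = Algebra.TensorProduct.lift cC (IsScalarTower.toAlgHom R B₁ B) _ (1 ⊗ₜ x)
    rw [Algebra.TensorProduct.lift_tmul, map_one, one_mul]
    rfl
  haveI : Algebra.IsPushout R A B₁ B := Algebra.IsPushout.symm inferInstance
  haveI : Algebra.IsPushout R C B₁ Bk := inferInstance
  haveI : Algebra.IsPushout C A Bk B := (Algebra.IsPushout.comp_iff R C (T := A) B₁ Bk (T' := B)).1 inferInstance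
  haveI : Algebra.IsPushout C Bk A B := Algebra.IsPushout.symm inferInstance
  let Nk := Bk ⊗[B₁] N₁
  let h : N₁ →ₗ[B₁] Nk := TensorProduct.mk B₁ Bk N₁ 1
  have hh : IsBaseChange Bk h := TensorProduct.isBaseChange B₁ N₁ Bk
  letI : Module Bk N := Module.compHom N (algebraMap Bk B)
  haveI : IsScalarTower Bk B N := IsScalarTower.of_algebraMap_smul fun _ _ => rfl
  haveI : IsScalarTower B₁ Bk N := IsScalarTower.of_algebraMap_smul fun b x => by
    show algebraMap Bk B (algebraMap B₁ Bk b) • x = b • x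
    rw [← IsScalarTower.algebraMap_apply, algebraMap_smul]
  haveI : Algebra.FinitePresentation C Bk := inferInstance
  haveI : Module.FinitePresentation Bk Nk := FinitePresentation.of_isBaseChange h hh
  exact ⟨Bk, inferInstance, inferInstance, inferInstance, inferInstance, inferInstance, inferInstance, inferInstance,
    inferInstance, inferInstance, inferInstance, inferInstance, inferInstance, Nk, inferInstance, inferInstance,
    inferInstance, inferInstance, inferInstance, inferInstance, inferInstance, inferInstance, h, hh.lift f₁,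
    inferInstance, inferInstance, hh, IsBaseChange.of_comp hh (by rw [hh.lift_comp]; exact hf₁)⟩

/-- Flatness at a prime descends along a flat extension of the base. -/
theorem flatAt_of_flat_baseChange {R B R' B' : Type u} [CommRing R] [CommRing B] [CommRing R'] [CommRing B']
    [Algebra R B] [Algebra R R'] [Algebra B B'] [Algebra R' B'] [Algebra R B'] [IsScalarTower R B B']
    [IsScalarTower R R' B'] [Algebra.IsPushout R B R' B'] [Module.Flat R R']
    {N N' : Type u} [AddCommGroup N] [Module B N] [Module R N] [IsScalarTower R B N]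
    [AddCommGroup N'] [Module B' N'] [Module B N'] [IsScalarTower B B' N'] [Module R' N'] [IsScalarTower R' B' N']
    (f : N →ₗ[B] N') (hf : IsBaseChange B' f) (Q : Ideal B) [Q.IsPrime] (Q' : Ideal B') [Q'.IsPrime] [Q'.LiesOver Q]
    (hfl : FlatCA.FlatAt R' Q' N') : FlatCA.FlatAt R Q N := by
  haveI : Algebra.IsPushout R R' B B' := Algebra.IsPushout.symm inferInstance
  haveI : Module.Flat B B' := Module.Flat.isBaseChange R B R' B' (Algebra.IsPushout.out (R := R) (S := B) (R' := R'))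
  letI : Module R N' := Module.compHom N' (algebraMap R R')
  haveI : IsScalarTower R R' N' := IsScalarTower.of_algebraMap_smul fun _ _ => rfl
  haveI : IsScalarTower R B' N' := IsScalarTower.of_algebraMap_smul fun r x => by
    show algebraMap R B' r • x = algebraMap R R' r • x
    rw [IsScalarTower.algebraMap_apply R R' B', algebraMap_smul B' (algebraMap R R' r) x]
  refine (FlatInjLib.flatAt_iff_of_isBaseChange f hf Q Q').1 ?_
  haveI : Module.Flat R' (LocalizedModule Q'.primeCompl N') := hfl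
  exact Module.Flat.trans R R' (LocalizedModule Q'.primeCompl N')

/-- Purity reaches a stage, for any model of the module at that stage. -/
theorem exists_stage_pure_forall {R : Type u} [CommRing R] {ι : Type u} [Preorder ι] (G : ι → Type u) [∀ i, CommRing (G i)]
    [∀ i, Algebra R (G i)] (g : ∀ i j, i ≤ j → G i →ₐ[R] G j) {A : Type u} [CommRing A] [Algebra R A]
    [∀ i, Algebra (G i) A] [∀ i, IsScalarTower R (G i) A]
    (hc : FlatCA.IsDirectedColimitRing G (fun i j h => (g i j h).toRingHom) A)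
    {B₁ : Type u} [CommRing B₁] [Algebra R B₁] [Algebra.FinitePresentation R B₁]
    (N₁ : Type u) [AddCommGroup N₁] [Module B₁ N₁] [Module R N₁] [IsScalarTower R B₁ N₁] [Module.FinitePresentation B₁ N₁]
    {B : Type u} [CommRing B] [Algebra A B] [Algebra B₁ B] [Algebra R B] [IsScalarTower R A B] [IsScalarTower R B₁ B]
    [Algebra.IsPushout R B₁ A B]
    {N : Type u} [AddCommGroup N] [Module B N] [Module B₁ N] [IsScalarTower B₁ B N] [Module A N] [IsScalarTower A B N]
    (f₁ : N₁ →ₗ[B₁] N) (hf₁ : IsBaseChange B f₁) (p : Ideal A) [p.IsPrime] (hpure : FlatCA.IsPureAlong A B N p)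
    (hflat : ∀ (q : Ideal B₁) [q.IsPrime], q.LiesOver (p.comap (algebraMap R A)) → FlatCA.FlatAt R q N₁) :
    ∃ k : ι, ∀ (Bk Nk : Type u) [CommRing Bk] [Algebra (G k) Bk] [Algebra B₁ Bk] [Algebra R Bk] [IsScalarTower R (G k) Bk]
      [IsScalarTower R B₁ Bk] [Algebra.IsPushout R B₁ (G k) Bk] [AddCommGroup Nk] [Module Bk Nk] [Module (G k) Nk]
      [IsScalarTower (G k) Bk Nk] [Module B₁ Nk] [IsScalarTower B₁ Bk Nk] (h : N₁ →ₗ[B₁] Nk), IsBaseChange Bk h →
      FlatCA.IsPureAlong (G k) Bk Nk (p.comap (algebraMap (G k) A)) ∧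
      ∀ (q : Ideal Bk) [q.IsPrime], q.LiesOver (p.comap (algebraMap (G k) A)) → FlatCA.FlatAt (G k) q Nk := by
  classical
  let p₁ := p.comap (algebraMap R A)
  haveI : p₁.IsPrime := Ideal.IsPrime.comap _
  haveI : p.LiesOver p₁ := ⟨rfl⟩
  obtain ⟨R', S', _, _, _, _, _, _, _, _, p₁', _, hn₁, hetS, hS, hproj⟩ :=
    DevissExLib.exists_projective_cover_over N₁ p₁ hflat
  haveI := hetS
  haveI : Algebra.Etale R R' := hn₁.1
  let BA := R' ⊗[R] B₁
  haveI : Algebra.IsPushout R B₁ R' BA := Algebra.IsPushout.symm inferInstance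
  letI : Algebra BA S' := (Algebra.TensorProduct.lift (IsScalarTower.toAlgHom R R' S')
    (IsScalarTower.toAlgHom R B₁ S') fun _ _ => Commute.all _ _).toRingHom.toAlgebra
  haveI : IsScalarTower R' BA S' := IsScalarTower.of_algebraMap_eq (R := R') (S := BA) (A := S') fun x => by
    show _ = Algebra.TensorProduct.lift _ _ _ (x ⊗ₜ 1)
    rw [Algebra.TensorProduct.lift_tmul, map_one, mul_one]
    rfl
  haveI : IsScalarTower B₁ BA S' := IsScalarTower.of_algebraMap_eq (R := B₁) (S := BA) (A := S') fun x => by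
    show _ = Algebra.TensorProduct.lift _ _ _ (1 ⊗ₜ x)
    rw [Algebra.TensorProduct.lift_tmul, map_one, one_mul]
    rfl
  haveI : Algebra.Etale B₁ BA := Algebra.Etale.of_equiv (Algebra.IsPushout.equiv R B₁ R' BA)
  haveI : Algebra.Etale BA S' := Algebra.Etale.of_restrictScalars B₁ BA S'
  let U : Set (PrimeSpectrum BA) := Set.range (PrimeSpectrum.comap (algebraMap BA S'))
  have hU : IsOpen U :=
    (PrimeSpectrum.isOpenMap_comap_of_hasGoingDown_of_finitePresentation (R := BA) (S := S')).isOpen_range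
  have hUcov : ∀ w : PrimeSpectrum BA, w.asIdeal.comap (algebraMap R' BA) = p₁' → w ∈ U := by
    intro w hw
    let q := w.asIdeal.comap (algebraMap B₁ BA)
    haveI : q.IsPrime := Ideal.IsPrime.comap _
    have hq : q.LiesOver p₁ := ⟨by
      show p₁ = (w.asIdeal.comap (algebraMap B₁ BA)).comap (algebraMap R B₁)
      rw [Ideal.comap_comap, ← IsScalarTower.algebraMap_eq, IsScalarTower.algebraMap_eq R R' BA, ← Ideal.comap_comap, hw]
      obtain ⟨-, hl, -⟩ := hn₁
      exact hl.over⟩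
    haveI := hq
    obtain ⟨q', hq', hq'1, hq'p⟩ := hS q hq
    refine ⟨⟨q', hq'⟩, PrimeSpectrum.ext ?_⟩
    haveI := hq'
    refine nhd_unique p₁ p₁' q hn₁ _ _ ?_ ?_ rfl hw
    · show (q'.comap (algebraMap BA S')).comap (algebraMap B₁ BA) = q
      rw [Ideal.comap_comap, ← IsScalarTower.algebraMap_eq, hq'1]
    · show (q'.comap (algebraMap BA S')).comap (algebraMap R' BA) = p₁'
      rw [Ideal.comap_comap, ← IsScalarTower.algebraMap_eq, hq'p]
  obtain ⟨m, fc, hfcU, hfc⟩ := exists_finite_family p₁' U hU hUcov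
  have hfU : ∀ (Q : Ideal BA) [Q.IsPrime] (j : Fin m), fc j ∉ Q →
      ∃ q' : Ideal S', q'.IsPrime ∧ q'.comap (algebraMap BA S') = Q := fun Q _ j hj => by
    obtain ⟨⟨q', hq'⟩, hqq⟩ := hfcU ⟨Q, inferInstance⟩ j hj
    exact ⟨q', hq', congrArg PrimeSpectrum.asIdeal hqq⟩
  let NA := BA ⊗[B₁] N₁
  let fA : N₁ →ₗ[B₁] NA := TensorProduct.mk B₁ BA N₁ 1
  have hfA : IsBaseChange BA fA := TensorProduct.isBaseChange B₁ N₁ BA
  haveI : Module.FinitePresentation BA NA := FinitePresentation.of_isBaseChange fA hfA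
  haveI : Algebra.FinitePresentation R' BA := inferInstance
  let T := A ⊗[R] R'
  obtain ⟨P, _, hn, hP⟩ := exists_nhd_baseChange (A := A) (T := T) p₁ p₁' p hn₁
  have hinjA : ∀ (t : Ideal T) [t.IsPrime], t ≤ P →
      (⟨t.comap (algebraMap R' T), Ideal.IsPrime.comap _⟩ : PrimeSpectrum R') ∈ injLocus R' NA fc := fun t _ ht =>
    injAt_of_pure_nhd (R := R) (R' := R') (A := A) (T := T) fA hfA fc f₁ hf₁ p₁' p P hn hP (fun Q _ hQ => hfc ⟨Q, inferInstance⟩ hQ) hpure t ht
  obtain ⟨k, hk⟩ := exists_stage_injAt G g hc (isConstructible_injLocus R' NA fc) P hinjA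
  refine ⟨k, fun Bk Nk => ?_⟩
  intro _ _ _ _ _ _ _ _ _ _ _ _ _ h hh
  let pk := p.comap (algebraMap (G k) A)
  haveI : pk.IsPrime := Ideal.IsPrime.comap _
  haveI : pk.LiesOver p₁ := ⟨by
    show p.comap (algebraMap R A) = (p.comap (algebraMap (G k) A)).comap (algebraMap R (G k))
    rw [Ideal.comap_comap, ← IsScalarTower.algebraMap_eq]⟩
  let Tk := G k ⊗[R] R'
  let ρ : Tk →ₐ[R] T := Algebra.TensorProduct.map (IsScalarTower.toAlgHom R (G k) A) (AlgHom.id R R')
  let Pk := P.comap ρ.toRingHom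
  haveI : Pk.IsPrime := Ideal.IsPrime.comap _
  obtain ⟨Pk', _, hnk, hPk'⟩ := exists_nhd_baseChange (A := G k) (T := Tk) p₁ p₁' pk hn₁
  have hPkk : Pk' = Pk := by
    obtain ⟨-, hl, -⟩ := hnk
    obtain ⟨-, hlA, -⟩ := hn
    refine nhd_unique p₁ p₁' pk hn₁ _ _ hl.over.symm hPk' ?_ ?_
    · ext x
      show ρ (x ⊗ₜ 1) ∈ P ↔ algebraMap (G k) A x ∈ p
      rw [Algebra.TensorProduct.map_tmul, map_one, hlA.over]
      rfl
    · ext x
      show ρ (1 ⊗ₜ x) ∈ P ↔ x ∈ p₁'
      rw [Algebra.TensorProduct.map_tmul, map_one, ← hP]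
      rfl
  have hflk : ∀ (q : Ideal Bk) [q.IsPrime], q.LiesOver pk → FlatCA.FlatAt (G k) q Nk := fun q _ hq =>
    Groth.Agent.SmallH9.flatAt_baseChange h hh _ q rfl (hflat (q.comap (algebraMap B₁ Bk)) ⟨by
      show p₁ = (q.comap (algebraMap B₁ Bk)).comap (algebraMap R B₁)
      rw [Ideal.comap_comap, ← IsScalarTower.algebraMap_eq, IsScalarTower.algebraMap_eq R (G k) Bk, ← Ideal.comap_comap,
        ← Ideal.under_def (G k) q, ← hq.over, Ideal.comap_comap, ← IsScalarTower.algebraMap_eq]⟩)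
  refine ⟨?_, hflk⟩
  exact isPureAlong_of_injAt (R := R) (R' := R') (A := G k) (T := Tk) fA hfA fc h hh p₁ p₁' hn₁ pk Pk' hnk hPk' hproj hS hfU hflk
    fun t _ ht => hk t (ht.trans hPkk.le)

/-- From a base at which the module is flat along the fibre. -/
theorem exists_stage_of_flat {R : Type u} [CommRing R] {ι : Type u} [Preorder ι] (G : ι → Type u) [∀ i, CommRing (G i)]
    [∀ i, Algebra R (G i)] (g : ∀ i j, i ≤ j → G i →ₐ[R] G j) {A : Type u} [CommRing A] [Algebra R A]
    [∀ i, Algebra (G i) A] [∀ i, IsScalarTower R (G i) A]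
    (hc : FlatCA.IsDirectedColimitRing G (fun i j h => (g i j h).toRingHom) A)
    {B₁ : Type u} [CommRing B₁] [Algebra R B₁] [Algebra.FinitePresentation R B₁]
    (N₁ : Type u) [AddCommGroup N₁] [Module B₁ N₁] [Module R N₁] [IsScalarTower R B₁ N₁] [Module.FinitePresentation B₁ N₁]
    {B : Type u} [CommRing B] [Algebra A B] [Algebra B₁ B] [Algebra R B] [IsScalarTower R A B] [IsScalarTower R B₁ B]
    [Algebra.IsPushout R B₁ A B]
    {N : Type u} [AddCommGroup N] [Module B N] [Module B₁ N] [IsScalarTower B₁ B N] [Module A N] [IsScalarTower A B N]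
    (f₁ : N₁ →ₗ[B₁] N) (hf₁ : IsBaseChange B f₁) (p : Ideal A) [p.IsPrime] (hpure : FlatCA.IsPureAlong A B N p)
    (hflat : ∀ (q : Ideal B₁) [q.IsPrime], q.LiesOver (p.comap (algebraMap R A)) → FlatCA.FlatAt R q N₁) :
    ∃ (k : ι) (Bi Ni : Type u) (_ : CommRing Bi) (_ : Algebra (G k) Bi) (_ : Algebra Bi B) (_ : Algebra (G k) B)
      (_ : IsScalarTower (G k) A B) (_ : IsScalarTower (G k) Bi B)
      (_ : AddCommGroup Ni) (_ : Module Bi Ni) (_ : Module (G k) Ni) (_ : IsScalarTower (G k) Bi Ni)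
      (_ : Module Bi N) (_ : IsScalarTower Bi B N) (f : Ni →ₗ[Bi] N),
      Algebra.FinitePresentation (G k) Bi ∧ Algebra.IsPushout (G k) Bi A B ∧ Module.FinitePresentation Bi Ni ∧ IsBaseChange B f ∧
      FlatCA.IsPureAlong (G k) Bi Ni (p.comap (algebraMap (G k) A)) ∧
      ∀ (q : Ideal Bi) [q.IsPrime], q.LiesOver (p.comap (algebraMap (G k) A)) → FlatCA.FlatAt (G k) q Ni := by
  obtain ⟨k, hk⟩ := exists_stage_pure_forall G g hc N₁ f₁ hf₁ p hpure hflat
  obtain ⟨Bk, _, _, _, _, _, _, _, _, _, _, _, _, Nk, _, _, _, _, _, _, _, _, h, f, hfp, hmfp, hh, hf⟩ :=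
    exists_model_between (R := R) (C := G k) (A := A) f₁ hf₁
  obtain ⟨h1, h2⟩ := hk Bk Nk h hh
  exact ⟨k, Bk, Nk, inferInstance, inferInstance, inferInstance, inferInstance, inferInstance, inferInstance,
    inferInstance, inferInstance, inferInstance, inferInstance, inferInstance, inferInstance, f, hfp, inferInstance,
    hmfp, hf, h1, h2⟩

/-- The localised system of rings. -/
theorem isDirectedColimitRing_localization {ι : Type u} [Preorder ι] {G : ι → Type u} [∀ i, CommRing (G i)]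
    {g : ∀ i j, i ≤ j → G i →+* G j} {A : Type u} [CommRing A] [∀ i, Algebra (G i) A]
    (hc : FlatCA.IsDirectedColimitRing G g A) (p : Ideal A) [p.IsPrime]
    (L : ι → Type u) [∀ i, CommRing (L i)] [∀ i, Algebra (G i) (L i)]
    [∀ i, IsLocalization (p.comap (algebraMap (G i) A)).primeCompl (L i)]
    (Ap : Type u) [CommRing Ap] [Algebra A Ap] [IsLocalization p.primeCompl Ap] [∀ i, Algebra (L i) Ap]
    (hmap : ∀ i x, algebraMap (L i) Ap (algebraMap (G i) (L i) x) = algebraMap A Ap (algebraMap (G i) A x))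
    (gl : ∀ i j, i ≤ j → L i →+* L j)
    (hgl : ∀ i j h x, gl i j h (algebraMap (G i) (L i) x) = algebraMap (G j) (L j) (g i j h x)) :
    FlatCA.IsDirectedColimitRing L gl Ap := by
  obtain ⟨hdir, hne, hid, hcomp, hcompat, hsurj, hzero⟩ := hc
  have hu : ∀ i (s : G i), algebraMap (G i) A s ∉ p → IsUnit (algebraMap (G i) (L i) s) := fun i s hs =>
    IsLocalization.map_units (L i) (⟨s, hs⟩ : (p.comap (algebraMap (G i) A)).primeCompl)
  refine ⟨hdir, hne, fun i => ?_, fun i j k hij hjk => ?_, fun i j h => ?_, fun a => ?_, fun i x hx => ?_⟩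
  · refine IsLocalization.ringHom_ext (p.comap (algebraMap (G i) A)).primeCompl (RingHom.ext fun x => ?_)
    show gl i i le_rfl (algebraMap (G i) (L i) x) = algebraMap (G i) (L i) x
    rw [hgl]
    exact congrArg _ (RingHom.congr_fun (hid i) x)
  · refine IsLocalization.ringHom_ext (p.comap (algebraMap (G i) A)).primeCompl (RingHom.ext fun x => ?_)
    show gl j k hjk (gl i j hij (algebraMap (G i) (L i) x)) = gl i k _ (algebraMap (G i) (L i) x)
    rw [hgl, hgl, hgl]
    exact congrArg _ (RingHom.congr_fun (hcomp i j k hij hjk) x)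
  · refine IsLocalization.ringHom_ext (p.comap (algebraMap (G i) A)).primeCompl (RingHom.ext fun x => ?_)
    show algebraMap (L j) Ap (gl i j h (algebraMap (G i) (L i) x)) = algebraMap (L i) Ap (algebraMap (G i) (L i) x)
    rw [hgl, hmap, hmap]
    exact congrArg _ (RingHom.congr_fun (hcompat i j h) x)
  · obtain ⟨a₁, s₁, rfl⟩ := IsLocalization.exists_mk'_eq p.primeCompl a
    obtain ⟨i₁, x, hx⟩ := hsurj a₁
    obtain ⟨i₂, y, hy⟩ := hsurj (s₁ : A)
    obtain ⟨j, hj₁, hj₂⟩ := hdir.directed i₁ i₂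
    have hyj : algebraMap (G j) A (g i₂ j hj₂ y) = s₁ := (RingHom.congr_fun (hcompat i₂ j hj₂) y).trans hy
    have hxj : algebraMap (G j) A (g i₁ j hj₁ x) = a₁ := (RingHom.congr_fun (hcompat i₁ j hj₁) x).trans hx
    have hy' : g i₂ j hj₂ y ∈ (p.comap (algebraMap (G j) A)).primeCompl := fun hm =>
      s₁.2 (by rw [← hyj]; exact hm)
    refine ⟨j, IsLocalization.mk' (L j) (g i₁ j hj₁ x) ⟨_, hy'⟩, ?_⟩
    rw [IsLocalization.eq_mk'_iff_mul_eq, ← hyj, ← hxj, ← hmap, ← hmap, ← map_mul]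
    exact congrArg _ (IsLocalization.mk'_spec (L j) _ (⟨_, hy'⟩ : (p.comap (algebraMap (G j) A)).primeCompl))
  · obtain ⟨a₁, s₁, rfl⟩ := IsLocalization.exists_mk'_eq (p.comap (algebraMap (G i) A)).primeCompl x
    have h0 : algebraMap A Ap (algebraMap (G i) A a₁) = 0 := by
      rw [← hmap, ← IsLocalization.mk'_spec (L i) a₁ s₁, map_mul, hx, zero_mul]
    obtain ⟨⟨m, hm⟩, hm0⟩ := (IsLocalization.map_eq_zero_iff p.primeCompl Ap _).1 h0
    obtain ⟨i₂, y, hy⟩ := hsurj m
    obtain ⟨j, hj₁, hj₂⟩ := hdir.directed i i₂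
    have hym : algebraMap (G j) A (g i₂ j hj₂ y) = m := (RingHom.congr_fun (hcompat i₂ j hj₂) y).trans hy
    obtain ⟨k, hk, hk0⟩ := hzero j (g i₂ j hj₂ y * g i j hj₁ a₁) (by
      rw [map_mul, hym, show algebraMap (G j) A (g i j hj₁ a₁) = algebraMap (G i) A a₁ from
        RingHom.congr_fun (hcompat i j hj₁) a₁]
      exact hm0)
    refine ⟨k, hj₁.trans hk, ?_⟩
    have hyk : IsUnit (algebraMap (G k) (L k) (g j k hk (g i₂ j hj₂ y))) := hu k _ (by
      rw [show algebraMap (G k) A (g j k hk (g i₂ j hj₂ y)) = algebraMap (G j) A (g i₂ j hj₂ y) from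
        RingHom.congr_fun (hcompat j k hk) _, hym]
      exact hm)
    have hsk : IsUnit (gl i k (hj₁.trans hk) (algebraMap (G i) (L i) s₁)) := (hu i s₁ s₁.2).map _
    rw [← hsk.mul_left_eq_zero, ← map_mul, IsLocalization.mk'_spec, hgl, ← hyk.mul_right_eq_zero, ← map_mul,
      show g i k (hj₁.trans hk) a₁ = g j k hk (g i j hj₁ a₁) from (RingHom.congr_fun (hcomp i j k hj₁ hk) a₁).symm,
      ← map_mul, hk0, map_zero]

/-- Flatness along the fibre gives flatness at the primes over the stage ideals. -/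
theorem flatAt_of_over_sup {A B : Type u} [CommRing A] [CommRing B] [Algebra A B] {N : Type u} [AddCommGroup N]
    [Module B N] [Module A N] [IsScalarTower A B N] (p : Ideal A) [p.IsPrime]
    (hflat : ∀ (q : Ideal B) [q.IsPrime], q.LiesOver p → FlatCA.FlatAt A q N)
    (Ap : Type u) [CommRing Ap] [IsLocalRing Ap] [Algebra A Ap] [IsLocalization.AtPrime Ap p]
    {Bp : Type u} [CommRing Bp] [Algebra B Bp] [Algebra A Bp] [Algebra Ap Bp] [IsScalarTower A B Bp]
    [IsScalarTower A Ap Bp] [Algebra.IsPushout A B Ap Bp]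
    {Np : Type u} [AddCommGroup Np] [Module Bp Np] [Module B Np] [IsScalarTower B Bp Np] [Module Ap Np]
    [IsScalarTower Ap Bp Np] (fN : N →ₗ[B] Np) (hfN : IsBaseChange Bp fN)
    (q : Ideal Bp) [q.IsPrime] (hq : (IsLocalRing.maximalIdeal Ap).map (algebraMap Ap Bp) ≤ q) :
    FlatCA.FlatAt Ap q Np := by
  refine Groth.Agent.SmallH9.flatAt_baseChange fN hfN (q.comap (algebraMap B Bp)) q rfl
    (hflat (q.comap (algebraMap B Bp)) ⟨?_⟩)
  have h1 : q.comap (algebraMap Ap Bp) = IsLocalRing.maximalIdeal Ap := le_antisymm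
    (IsLocalRing.le_maximalIdeal (Ideal.IsPrime.ne_top inferInstance)) (Ideal.map_le_iff_le_comap.1 hq)
  show p = (q.comap (algebraMap B Bp)).comap (algebraMap A B)
  rw [Ideal.comap_comap, ← IsScalarTower.algebraMap_eq, IsScalarTower.algebraMap_eq A Ap Bp, ← Ideal.comap_comap,
    h1]
  exact (IsLocalization.AtPrime.under_maximalIdeal Ap p).symm

/-- Flatness at a stage from flatness of the localised stage. -/
theorem flatAt_stage_of_localized {R B₀ C L Bi Si : Type u} [CommRing R] [CommRing B₀] [CommRing C] [CommRing L]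
    [IsLocalRing L] [CommRing Bi] [CommRing Si] [Algebra R B₀] [Algebra R C] [Algebra C L] [Algebra R L]
    [IsScalarTower R C L] [Algebra C Bi] [Algebra B₀ Bi] [Algebra R Bi] [IsScalarTower R C Bi] [IsScalarTower R B₀ Bi]
    [Algebra.IsPushout R B₀ C Bi] [Algebra Bi Si] [Algebra L Si] [Algebra C Si] [IsScalarTower C Bi Si]
    [IsScalarTower C L Si] [Algebra.IsPushout C Bi L Si] (pC : Ideal C) [pC.IsPrime] [IsLocalization.AtPrime L pC]
    {N₀ Ni : Type u} [AddCommGroup N₀] [Module B₀ N₀] [AddCommGroup Ni] [Module Bi Ni] [Module B₀ Ni]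
    [IsScalarTower B₀ Bi Ni] [Module C Ni] [IsScalarTower C Bi Ni] (f₀ : N₀ →ₗ[B₀] Ni) (hf₀ : IsBaseChange Bi f₀)
    (hi : ∀ (S M : Type u) [CommRing S] [Algebra B₀ S] [Algebra L S] [Algebra R S] [IsScalarTower R B₀ S]
      [IsScalarTower R L S] [Algebra.IsPushout R B₀ L S] [AddCommGroup M] [Module S M] [Module L M]
      [IsScalarTower L S M] [Module B₀ M] [IsScalarTower B₀ S M] (fi : N₀ →ₗ[B₀] M), IsBaseChange S fi →
      ∀ (q : Ideal S) [q.IsPrime], (IsLocalRing.maximalIdeal L).map (algebraMap L S) ≤ q → FlatCA.FlatAt L q M)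
    (q : Ideal Bi) [q.IsPrime] [q.LiesOver pC] : FlatCA.FlatAt C q Ni := by
  letI : Algebra B₀ Si := ((algebraMap Bi Si).comp (algebraMap B₀ Bi)).toAlgebra
  haveI : IsScalarTower B₀ Bi Si := IsScalarTower.of_algebraMap_eq fun _ => rfl
  letI : Algebra R Si := ((algebraMap C Si).comp (algebraMap R C)).toAlgebra
  haveI : IsScalarTower R C Si := IsScalarTower.of_algebraMap_eq fun _ => rfl
  haveI : IsScalarTower R L Si := IsScalarTower.of_algebraMap_eq fun r => by
    rw [IsScalarTower.algebraMap_apply R C L, ← IsScalarTower.algebraMap_apply C L Si,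
      ← IsScalarTower.algebraMap_apply R C Si]
  haveI : IsScalarTower R B₀ Si := IsScalarTower.of_algebraMap_eq fun r => by
    rw [IsScalarTower.algebraMap_apply B₀ Bi Si, ← IsScalarTower.algebraMap_apply R B₀ Bi,
      IsScalarTower.algebraMap_apply R C Bi, ← IsScalarTower.algebraMap_apply C Bi Si,
      ← IsScalarTower.algebraMap_apply R C Si]
  haveI : IsScalarTower R Bi Si := IsScalarTower.of_algebraMap_eq fun r => by
    rw [IsScalarTower.algebraMap_apply R C Si, IsScalarTower.algebraMap_apply C Bi Si,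
      ← IsScalarTower.algebraMap_apply R C Bi]
  haveI : Algebra.IsPushout R C B₀ Bi := Algebra.IsPushout.symm inferInstance
  haveI : Algebra.IsPushout C L Bi Si := Algebra.IsPushout.symm inferInstance
  haveI : Algebra.IsPushout R L B₀ Si := (Algebra.IsPushout.comp_iff R C (T := L) B₀ Bi (T' := Si)).2 inferInstance
  haveI : Algebra.IsPushout R B₀ L Si := Algebra.IsPushout.symm inferInstance
  haveI : (IsLocalRing.maximalIdeal L).LiesOver pC :=
    ⟨(IsLocalization.AtPrime.under_maximalIdeal L pC).symm⟩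
  let Mi := Si ⊗[Bi] Ni
  let k : Ni →ₗ[Bi] Mi := TensorProduct.mk Bi Si Ni 1
  have hk : IsBaseChange Si k := TensorProduct.isBaseChange Bi Ni Si
  haveI : IsScalarTower B₀ Si Mi := inferInstance
  haveI : IsScalarTower B₀ Bi Mi := IsScalarTower.of_algebraMap_smul fun b x => by
    rw [← algebraMap_smul Si (algebraMap B₀ Bi b) x, ← IsScalarTower.algebraMap_apply, algebraMap_smul]
  obtain ⟨Q, hQ, hQm, hQq, -⟩ :=
    exists_over (R := C) (B := Bi) (R' := L) (B' := Si) pC q (IsLocalRing.maximalIdeal L)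
  haveI := hQq
  haveI : Module.Flat C L := IsLocalization.flat L pC.primeCompl
  refine flatAt_of_flat_baseChange (R := C) (R' := L) k hk q Q (hi Si Mi ((k.restrictScalars B₀).comp f₀)
    (hf₀.comp hk) Q ?_)
  rw [Ideal.map_le_iff_le_comap]
  exact hQm.over.le

/-- Flatness along the fibre at a localised stage, with the local rings abstract. -/
theorem exists_stage_flat_localized {R : Type u} [CommRing R] {ι : Type u} [Preorder ι] (G : ι → Type u)
    [∀ i, CommRing (G i)] [∀ i, Algebra R (G i)] {A : Type u} [CommRing A] [Algebra R A] [∀ i, Algebra (G i) A]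
    (hsurj : ∀ a : A, ∃ (i : ι) (x : G i), algebraMap (G i) A x = a) (p : Ideal A) [p.IsPrime]
    (L : ι → Type u) [∀ i, CommRing (L i)] [∀ i, IsLocalRing (L i)] [∀ i, Algebra (G i) (L i)]
    [∀ i, IsLocalization.AtPrime (L i) (p.comap (algebraMap (G i) A))] [∀ i, Algebra R (L i)]
    (gl : ∀ i j, i ≤ j → L i →+* L j)
    (hgR : ∀ i j (h : i ≤ j), (gl i j h).comp (algebraMap R (L i)) = algebraMap R (L j))
    (hloc : ∀ i j (h : i ≤ j), (IsLocalRing.maximalIdeal (L i)).map (gl i j h) ≤ IsLocalRing.maximalIdeal (L j))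
    (Ap : Type u) [CommRing Ap] [IsLocalRing Ap] [Algebra A Ap] [IsLocalization.AtPrime Ap p] [∀ i, Algebra (L i) Ap]
    [Algebra R Ap] [IsScalarTower R A Ap] [∀ i, IsScalarTower R (L i) Ap]
    (hmap : ∀ i x, algebraMap (L i) Ap (algebraMap (G i) (L i) x) = algebraMap A Ap (algebraMap (G i) A x))
    (hcL : FlatCA.IsDirectedColimitRing L gl Ap)
    {B₀ : Type u} [CommRing B₀] [Algebra R B₀] [Algebra.FinitePresentation R B₀]
    (N₀ : Type u) [AddCommGroup N₀] [Module B₀ N₀] [Module R N₀] [IsScalarTower R B₀ N₀] [Module.FinitePresentation B₀ N₀]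
    {B : Type u} [CommRing B] [Algebra A B] [Algebra B₀ B] [Algebra R B] [IsScalarTower R A B] [IsScalarTower R B₀ B]
    [Algebra.IsPushout R B₀ A B]
    {N : Type u} [AddCommGroup N] [Module B N] [Module B₀ N] [IsScalarTower B₀ B N] [Module A N] [IsScalarTower A B N]
    (f₀ : N₀ →ₗ[B₀] N) (hf₀ : IsBaseChange B f₀)
    (hflat : ∀ (q : Ideal B) [q.IsPrime], q.LiesOver p → FlatCA.FlatAt A q N)
    {Bp : Type u} [CommRing Bp] [Algebra B Bp] [Algebra A Bp] [Algebra Ap Bp] [Algebra R Bp] [IsScalarTower A B Bp]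
    [IsScalarTower A Ap Bp] [IsScalarTower R A Bp] [IsScalarTower R Ap Bp] [Algebra.IsPushout A B Ap Bp]
    {Np : Type u} [AddCommGroup Np] [Module Bp Np] [Module B Np] [IsScalarTower B Bp Np] [Module Ap Np]
    [IsScalarTower Ap Bp Np] (fN : N →ₗ[B] Np) (hfN : IsBaseChange Bp fN) :
    ∃ i : ι, ∀ (S M : Type u) [CommRing S] [Algebra B₀ S] [Algebra (L i) S] [Algebra R S] [IsScalarTower R B₀ S]
      [IsScalarTower R (L i) S] [Algebra.IsPushout R B₀ (L i) S] [AddCommGroup M] [Module S M] [Module (L i) M]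
      [IsScalarTower (L i) S M] [Module B₀ M] [IsScalarTower B₀ S M] (fi : N₀ →ₗ[B₀] M), IsBaseChange S fi →
      ∀ (q : Ideal S) [q.IsPrime], (IsLocalRing.maximalIdeal (L i)).map (algebraMap (L i) S) ≤ q →
        FlatCA.FlatAt (L i) q M := by
  letI : Algebra B₀ Bp := ((algebraMap B Bp).comp (algebraMap B₀ B)).toAlgebra
  haveI : IsScalarTower B₀ B Bp := IsScalarTower.of_algebraMap_eq fun _ => rfl
  haveI : IsScalarTower R B₀ Bp := IsScalarTower.of_algebraMap_eq fun r => by
    rw [IsScalarTower.algebraMap_apply B₀ B Bp, ← IsScalarTower.algebraMap_apply R B₀ B,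
      IsScalarTower.algebraMap_apply R A B, ← IsScalarTower.algebraMap_apply A B Bp,
      ← IsScalarTower.algebraMap_apply R A Bp]
  haveI : IsScalarTower R B Bp := IsScalarTower.of_algebraMap_eq fun r => by
    rw [IsScalarTower.algebraMap_apply R A Bp, IsScalarTower.algebraMap_apply A B Bp,
      ← IsScalarTower.algebraMap_apply R A B]
  haveI : Algebra.IsPushout R A B₀ B := Algebra.IsPushout.symm inferInstance
  haveI : Algebra.IsPushout A Ap B Bp := Algebra.IsPushout.symm inferInstance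
  haveI : Algebra.IsPushout R Ap B₀ Bp := (Algebra.IsPushout.comp_iff R A (T := Ap) B₀ B (T' := Bp)).2 inferInstance
  haveI : Algebra.IsPushout R B₀ Ap Bp := Algebra.IsPushout.symm inferInstance
  letI : Module B₀ Np := Module.compHom Np (algebraMap B₀ B)
  haveI : IsScalarTower B₀ B Np := IsScalarTower.of_algebraMap_smul fun _ _ => rfl
  haveI : IsScalarTower B₀ Bp Np := IsScalarTower.of_algebraMap_smul fun b x => by
    show algebraMap B Bp (algebraMap B₀ B b) • x = algebraMap B₀ B b • x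
    rw [algebraMap_smul Bp (algebraMap B₀ B b) x]
  haveI : IsLocalization (⊥ : Submonoid B₀) B₀ := IsLocalization.self bot_le
  have hess : FlatCA.EssFinitePresentation R B₀ :=
    ⟨B₀, inferInstance, inferInstance, inferInstance, inferInstance, ⊥, inferInstance, inferInstance⟩
  obtain ⟨i, hi⟩ := Groth.Agent.S6928.result hess L gl hgR Ap hcL (fun i => IsLocalRing.maximalIdeal (L i)) hloc
    (S' := Bp) ((fN.restrictScalars B₀).comp f₀) (hf₀.comp hfN) ⊥ (fun q _ hq => by
      refine flatAt_of_over_sup p hflat Ap fN hfN q (le_trans ?_ (le_sup_left.trans hq))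
      refine Ideal.map_mono ?_
      rw [← IsLocalization.AtPrime.map_eq_maximalIdeal p Ap, Ideal.map_le_iff_le_comap]
      intro a ha
      obtain ⟨i, x, rfl⟩ := hsurj a
      refine (le_iSup (fun i => (IsLocalRing.maximalIdeal (L i)).map (algebraMap (L i) Ap)) i) ?_
      rw [← hmap]
      exact Ideal.mem_map_of_mem _
        ((IsLocalization.AtPrime.to_map_mem_maximal_iff (L i) (p.comap (algebraMap (G i) A)) x).2 ha))
  refine ⟨i, fun S M => ?_⟩
  intro _ _ _ _ _ _ _ _ _ _ _ _ _ fi hfi q _ hq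
  exact hi S M fi hfi q (sup_le hq (Ideal.map_bot.le.trans bot_le))

/-- Flatness along the fibre at a localised stage, without models. -/
theorem exists_stage_flat_localized' {R : Type u} [CommRing R] {ι : Type u} [Preorder ι] (G : ι → Type u)
    [∀ i, CommRing (G i)] [∀ i, Algebra R (G i)] {A : Type u} [CommRing A] [Algebra R A] [∀ i, Algebra (G i) A]
    (hsurj : ∀ a : A, ∃ (i : ι) (x : G i), algebraMap (G i) A x = a) (p : Ideal A) [p.IsPrime]
    (L : ι → Type u) [∀ i, CommRing (L i)] [∀ i, IsLocalRing (L i)] [∀ i, Algebra (G i) (L i)]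
    [∀ i, IsLocalization.AtPrime (L i) (p.comap (algebraMap (G i) A))] [∀ i, Algebra R (L i)]
    (gl : ∀ i j, i ≤ j → L i →+* L j)
    (hgR : ∀ i j (h : i ≤ j), (gl i j h).comp (algebraMap R (L i)) = algebraMap R (L j))
    (hloc : ∀ i j (h : i ≤ j), (IsLocalRing.maximalIdeal (L i)).map (gl i j h) ≤ IsLocalRing.maximalIdeal (L j))
    (Ap : Type u) [CommRing Ap] [IsLocalRing Ap] [Algebra A Ap] [IsLocalization.AtPrime Ap p] [∀ i, Algebra (L i) Ap]
    [Algebra R Ap] [IsScalarTower R A Ap] [∀ i, IsScalarTower R (L i) Ap]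
    (hmap : ∀ i x, algebraMap (L i) Ap (algebraMap (G i) (L i) x) = algebraMap A Ap (algebraMap (G i) A x))
    (hcL : FlatCA.IsDirectedColimitRing L gl Ap)
    {B₀ : Type u} [CommRing B₀] [Algebra R B₀] [Algebra.FinitePresentation R B₀]
    (N₀ : Type u) [AddCommGroup N₀] [Module B₀ N₀] [Module R N₀] [IsScalarTower R B₀ N₀] [Module.FinitePresentation B₀ N₀]
    {B : Type u} [CommRing B] [Algebra A B] [Algebra B₀ B] [Algebra R B] [IsScalarTower R A B] [IsScalarTower R B₀ B]
    [Algebra.IsPushout R B₀ A B]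
    {N : Type u} [AddCommGroup N] [Module B N] [Module B₀ N] [IsScalarTower B₀ B N] [Module A N] [IsScalarTower A B N]
    (f₀ : N₀ →ₗ[B₀] N) (hf₀ : IsBaseChange B f₀)
    (hflat : ∀ (q : Ideal B) [q.IsPrime], q.LiesOver p → FlatCA.FlatAt A q N) :
    ∃ i : ι, ∀ (S M : Type u) [CommRing S] [Algebra B₀ S] [Algebra (L i) S] [Algebra R S] [IsScalarTower R B₀ S]
      [IsScalarTower R (L i) S] [Algebra.IsPushout R B₀ (L i) S] [AddCommGroup M] [Module S M] [Module (L i) M]
      [IsScalarTower (L i) S M] [Module B₀ M] [IsScalarTower B₀ S M] (fi : N₀ →ₗ[B₀] M), IsBaseChange S fi →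
      ∀ (q : Ideal S) [q.IsPrime], (IsLocalRing.maximalIdeal (L i)).map (algebraMap (L i) S) ≤ q →
        FlatCA.FlatAt (L i) q M := by
  haveI : Algebra.IsPushout A B Ap (Ap ⊗[A] B) := Algebra.IsPushout.symm inferInstance
  exact exists_stage_flat_localized (R := R) (A := A) G hsurj p L gl hgR hloc Ap hmap hcL N₀ f₀ hf₀ hflat
    (Bp := Ap ⊗[A] B) (TensorProduct.mk B (Ap ⊗[A] B) N 1) (TensorProduct.isBaseChange B N _)

/-- Flatness along the fibre descends to a stage. -/
theorem exists_stage_flat {R : Type u} [CommRing R] {ι : Type u} [Preorder ι] (G : ι → Type u) [∀ i, CommRing (G i)]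
    [∀ i, Algebra R (G i)] (g : ∀ i j, i ≤ j → G i →ₐ[R] G j) {A : Type u} [CommRing A] [Algebra R A]
    [∀ i, Algebra (G i) A] [∀ i, IsScalarTower R (G i) A]
    (hc : FlatCA.IsDirectedColimitRing G (fun i j h => (g i j h).toRingHom) A)
    {B₀ : Type u} [CommRing B₀] [Algebra R B₀] [Algebra.FinitePresentation R B₀]
    (N₀ : Type u) [AddCommGroup N₀] [Module B₀ N₀] [Module R N₀] [IsScalarTower R B₀ N₀] [Module.FinitePresentation B₀ N₀]
    {B : Type u} [CommRing B] [Algebra A B] [Algebra B₀ B] [Algebra R B] [IsScalarTower R A B] [IsScalarTower R B₀ B]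
    [Algebra.IsPushout R B₀ A B]
    {N : Type u} [AddCommGroup N] [Module B N] [Module B₀ N] [IsScalarTower B₀ B N] [Module A N] [IsScalarTower A B N]
    (f₀ : N₀ →ₗ[B₀] N) (hf₀ : IsBaseChange B f₀) (p : Ideal A) [p.IsPrime]
    (hflat : ∀ (q : Ideal B) [q.IsPrime], q.LiesOver p → FlatCA.FlatAt A q N) :
    ∃ i : ι, ∀ (q : Ideal (G i ⊗[R] B₀)) [q.IsPrime], q.LiesOver (p.comap (algebraMap (G i) A)) →
      FlatCA.FlatAt (G i) q ((G i ⊗[R] B₀) ⊗[B₀] N₀) := by
  classical
  have hcompat := hc.2.2.2.2.1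
  have hsurj := hc.2.2.2.2.2.1
  let pI := fun i => p.comap (algebraMap (G i) A)
  let L := fun i => Localization.AtPrime (pI i)
  let Ap := Localization.AtPrime p
  have hpI : ∀ i j (h : i ≤ j), pI i = (pI j).comap (g i j h).toRingHom := fun i j h => by
    show p.comap (algebraMap (G i) A) = _
    rw [Ideal.comap_comap]
    exact congrArg (Ideal.comap · p) (hcompat i j h).symm
  let gl : ∀ i j, i ≤ j → L i →+* L j := fun i j h => Localization.localRingHom (pI i) (pI j) (g i j h).toRingHom (hpI i j h)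
  have hgl : ∀ i j h x, gl i j h (algebraMap (G i) (L i) x) = algebraMap (G j) (L j) (g i j h x) := fun i j h x =>
    Localization.localRingHom_to_map _ _ _ _ x
  letI aLA : ∀ i, Algebra (L i) Ap := fun i => (Localization.localRingHom (pI i) p (algebraMap (G i) A) rfl).toAlgebra
  have hLA : ∀ i x, algebraMap (L i) Ap (algebraMap (G i) (L i) x) = algebraMap A Ap (algebraMap (G i) A x) := fun i x =>
    Localization.localRingHom_to_map _ _ _ _ x
  haveI : ∀ i, IsScalarTower R (L i) Ap := fun i => IsScalarTower.of_algebraMap_eq fun r => by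
    rw [IsScalarTower.algebraMap_apply R (G i) (L i), hLA, ← IsScalarTower.algebraMap_apply R (G i) A,
      ← IsScalarTower.algebraMap_apply R A Ap]
  have hcL : FlatCA.IsDirectedColimitRing L gl Ap := isDirectedColimitRing_localization hc p L Ap hLA gl hgl
  have hloc : ∀ i j (h : i ≤ j),
      (IsLocalRing.maximalIdeal (L i)).map (gl i j h) ≤ IsLocalRing.maximalIdeal (L j) := fun i j h => by
    have hl : IsLocalHom (gl i j h) := Localization.isLocalHom_localRingHom _ _ _ (hpI i j h)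
    rw [Ideal.map_le_iff_le_comap]
    exact fun x hx hu => hx (hl.map_nonunit x hu)
  obtain ⟨i, hi⟩ := exists_stage_flat_localized' (R := R) (A := A) G hsurj p L gl
    (fun i j h => RingHom.ext fun r => by
      show gl i j h (algebraMap R (L i) r) = algebraMap R (L j) r
      rw [IsScalarTower.algebraMap_apply R (G i) (L i), hgl, AlgHom.commutes, ← IsScalarTower.algebraMap_apply])
    hloc Ap hLA hcL N₀ f₀ hf₀ hflat
  refine ⟨i, fun q _ hq => ?_⟩
  haveI := hq
  haveI : Algebra.IsPushout R B₀ (G i) (G i ⊗[R] B₀) := Algebra.IsPushout.symm inferInstance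
  haveI : Algebra.IsPushout (G i) (G i ⊗[R] B₀) (L i) (L i ⊗[G i] (G i ⊗[R] B₀)) :=
    Algebra.IsPushout.symm inferInstance
  exact flatAt_stage_of_localized (R := R) (L := L i) (Si := L i ⊗[G i] (G i ⊗[R] B₀)) (pI i)
    (TensorProduct.mk B₀ (G i ⊗[R] B₀) N₀ 1) (TensorProduct.isBaseChange B₀ N₀ _) hi q

/-- Descent of a pure flat module along a directed colimit. -/
theorem exists_stage {ι : Type u} [Preorder ι] {G : ι → Type u} [∀ i, CommRing (G i)]
    {g : ∀ i j, i ≤ j → G i →+* G j} {A : Type u} [CommRing A] [∀ i, Algebra (G i) A]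
    (hc : FlatCA.IsDirectedColimitRing G g A) {B : Type u} [CommRing B] [Algebra A B] [Algebra.FinitePresentation A B]
    (N : Type u) [AddCommGroup N] [Module B N] [Module A N] [IsScalarTower A B N] [Module.FinitePresentation B N]
    (p : Ideal A) [p.IsPrime] (hpure : FlatCA.IsPureAlong A B N p)
    (hflat : ∀ (q : Ideal B) [q.IsPrime], q.LiesOver p → FlatCA.FlatAt A q N) :
    ∃ (i : ι) (Bi Ni : Type u) (_ : CommRing Bi) (_ : Algebra (G i) Bi) (_ : Algebra Bi B) (_ : Algebra (G i) B)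
      (_ : IsScalarTower (G i) A B) (_ : IsScalarTower (G i) Bi B)
      (_ : AddCommGroup Ni) (_ : Module Bi Ni) (_ : Module (G i) Ni) (_ : IsScalarTower (G i) Bi Ni)
      (_ : Module Bi N) (_ : IsScalarTower Bi B N) (f : Ni →ₗ[Bi] N),
      Algebra.FinitePresentation (G i) Bi ∧ Algebra.IsPushout (G i) Bi A B ∧ Module.FinitePresentation Bi Ni ∧ IsBaseChange B f ∧
      FlatCA.IsPureAlong (G i) Bi Ni (p.comap (algebraMap (G i) A)) ∧
      ∀ (q : Ideal Bi) [q.IsPrime], q.LiesOver (p.comap (algebraMap (G i) A)) → FlatCA.FlatAt (G i) q Ni := by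
  obtain ⟨i₀, B₀, N₀, _, _, _, _, _, _, _, _, _, _, _, _, f₀, hB₀, hpo, hN₀, hf₀⟩ := exists_stage_model hc (B := B) N
  haveI := hB₀; haveI := hpo; haveI := hN₀
  have hc₁ := isDirectedColimitRing_above hc i₀
  obtain ⟨-, -, -, hcomp, hcompat, -, -⟩ := hc
  -- the system above the first stage
  letI : ∀ j : {j // i₀ ≤ j}, Algebra (G i₀) (G j.1) := fun j => (g i₀ j.1 j.2).toAlgebra
  haveI : ∀ j : {j // i₀ ≤ j}, IsScalarTower (G i₀) (G j.1) A := fun j => IsScalarTower.of_algebraMap_eq fun x =>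
    (RingHom.congr_fun (hcompat i₀ j.1 j.2) x).symm
  let g₁ : ∀ j k : {j // i₀ ≤ j}, j ≤ k → G j.1 →ₐ[G i₀] G k.1 := fun j k h =>
    { g j.1 k.1 h with commutes' := fun x => RingHom.congr_fun (hcomp i₀ j.1 k.1 j.2 h) x }
  obtain ⟨i₁, hi₁⟩ := exists_stage_flat (fun j : {j // i₀ ≤ j} => G j.1) g₁ hc₁ N₀ f₀ hf₀ p hflat
  let R₁ := G i₁.1
  obtain ⟨B₁, _, _, _, _, _, _, _, _, _, _, _, _, N₁, _, _, _, _, _, _, _, _, h, f₁, hB₁, hN₁, hh, hf₁⟩ :=
    exists_model_between (R := G i₀) (C := R₁) (A := A) f₀ hf₀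
  haveI := hB₁; haveI := hN₁
  -- flatness of the model at the stage
  have hflat₁ : ∀ (q : Ideal B₁) [q.IsPrime], q.LiesOver (p.comap (algebraMap R₁ A)) → FlatCA.FlatAt R₁ q N₁ := by
    haveI : Algebra.IsPushout (G i₀) R₁ B₀ B₁ := Algebra.IsPushout.symm inferInstance
    let e := Algebra.IsPushout.equiv (G i₀) R₁ B₀ B₁
    letI : Algebra (R₁ ⊗[G i₀] B₀) B₁ := e.toRingEquiv.toRingHom.toAlgebra
    haveI : IsScalarTower R₁ (R₁ ⊗[G i₀] B₀) B₁ := IsScalarTower.of_algebraMap_eq (R := R₁) fun x => (e.commutes x).symm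
    haveI : IsScalarTower B₀ (R₁ ⊗[G i₀] B₀) B₁ := IsScalarTower.of_algebraMap_eq (R := B₀) fun x => by
      show _ = e (1 ⊗ₜ x)
      rw [Algebra.IsPushout.equiv_tmul, map_one, one_mul]
    letI : Module (R₁ ⊗[G i₀] B₀) N₁ := Module.compHom N₁ (algebraMap (R₁ ⊗[G i₀] B₀) B₁)
    haveI : IsScalarTower (R₁ ⊗[G i₀] B₀) B₁ N₁ := IsScalarTower.of_algebraMap_smul fun _ _ => rfl
    haveI : IsScalarTower B₀ (R₁ ⊗[G i₀] B₀) N₁ := IsScalarTower.of_algebraMap_smul fun b x => by
      show algebraMap (R₁ ⊗[G i₀] B₀) B₁ (algebraMap B₀ _ b) • x = b • x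
      rw [← IsScalarTower.algebraMap_apply, algebraMap_smul]
    haveI : IsScalarTower (G i₀) (R₁ ⊗[G i₀] B₀) B₁ := IsScalarTower.of_algebraMap_eq (R := G i₀) fun x => by
      rw [IsScalarTower.algebraMap_apply (G i₀) B₀ B₁, IsScalarTower.algebraMap_apply B₀ (R₁ ⊗[G i₀] B₀) B₁,
        ← IsScalarTower.algebraMap_apply (G i₀) B₀ (R₁ ⊗[G i₀] B₀)]
    haveI : Algebra.IsPushout R₁ (R₁ ⊗[G i₀] B₀) R₁ B₁ := by
      haveI : Algebra.IsPushout (G i₀) B₀ R₁ (R₁ ⊗[G i₀] B₀) := Algebra.IsPushout.symm inferInstance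
      haveI : Algebra.IsPushout (G i₀) R₁ B₀ (R₁ ⊗[G i₀] B₀) := inferInstance
      haveI : Algebra.IsPushout R₁ R₁ (R₁ ⊗[G i₀] B₀) B₁ :=
        (Algebra.IsPushout.comp_iff (G i₀) R₁ (T := R₁) B₀ (R₁ ⊗[G i₀] B₀) (T' := B₁)).1 inferInstance
      exact Algebra.IsPushout.symm inferInstance
    intro q _ hq
    haveI := hq
    refine Groth.Agent.SmallH9.flatAt_baseChange (R := R₁) ((TensorProduct.isBaseChange B₀ N₀ (R₁ ⊗[G i₀] B₀)).lift h)
      (IsBaseChange.of_comp (TensorProduct.isBaseChange B₀ N₀ (R₁ ⊗[G i₀] B₀)) (by rw [IsBaseChange.lift_comp]; exact hh))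
      _ q rfl (hi₁ _ ⟨?_⟩)
    show p.comap (algebraMap R₁ A) = (q.comap (algebraMap (R₁ ⊗[G i₀] B₀) B₁)).comap (algebraMap R₁ _)
    rw [Ideal.comap_comap, ← IsScalarTower.algebraMap_eq, hq.over]
  have hc₂ := isDirectedColimitRing_above hc₁ i₁
  letI : ∀ j : {j : {j // i₀ ≤ j} // i₁ ≤ j}, Algebra R₁ (G j.1.1) := fun j => (g i₁.1 j.1.1 j.2).toAlgebra
  haveI : ∀ j : {j : {j // i₀ ≤ j} // i₁ ≤ j}, IsScalarTower R₁ (G j.1.1) A := fun j =>
    IsScalarTower.of_algebraMap_eq fun x => (RingHom.congr_fun (hcompat i₁.1 j.1.1 j.2) x).symm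
  let g₂ : ∀ j k : {j : {j // i₀ ≤ j} // i₁ ≤ j}, j ≤ k → G j.1.1 →ₐ[R₁] G k.1.1 := fun j k h =>
    { g j.1.1 k.1.1 h with commutes' := fun x => RingHom.congr_fun (hcomp i₁.1 j.1.1 k.1.1 j.2 h) x }
  obtain ⟨k, r⟩ := exists_stage_of_flat (fun j : {j : {j // i₀ ≤ j} // i₁ ≤ j} => G j.1.1) g₂ hc₂ N₁ f₁ hf₁ p hpure hflat₁
  exact ⟨k.1.1, r⟩

end PureFlatLib
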