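import Groth.Agent.PureFlatLib.InjConstr
import Groth.Agent.RichLib.FlatColimit
import Groth.Agent.GeomPureLib.Impurity.Colim
import Mathlib

/-!
# Models of finitely presented data at a stage of a directed colimit
-/

set_option autoImplicit false
set_option linter.all false
set_option maxHeartbeats 1000000
set_option backward.isDefEq.respectTransparency false
set_option backward.isDefEq.respectTransparency.types false

universe u

open scoped TensorProduct

namespace PureFlatLib

variable {ι : Type u} [Preorder ι] {G : ι → Type u} [∀ i, CommRing (G i)] {g : ∀ i j, i ≤ j → G i →+* G j}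
  {A : Type u} [CommRing A] [∀ i, Algebra (G i) A]

/-- The part of a system above a stage. -/
theorem isDirectedColimitRing_above (hc : FlatCA.IsDirectedColimitRing G g A) (i₀ : ι) :
    FlatCA.IsDirectedColimitRing (fun j : {j // i₀ ≤ j} => G j.1) (fun j k h => g j.1 k.1 h) A := by
  obtain ⟨hdir, hne, hid, hcomp, hcompat, hsurj, hzero⟩ := hc
  refine ⟨⟨fun j k => ?_⟩, ⟨⟨i₀, le_rfl⟩⟩, fun j => hid j.1, fun j k l hjk hkl => hcomp j.1 k.1 l.1 hjk hkl,
    fun j k h => hcompat j.1 k.1 h, fun a => ?_, fun j x hx => ?_⟩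
  · obtain ⟨l, hl₁, hl₂⟩ := hdir.directed j.1 k.1
    exact ⟨⟨l, j.2.trans hl₁⟩, hl₁, hl₂⟩
  · obtain ⟨i, x, rfl⟩ := hsurj a
    obtain ⟨l, hl₁, hl₂⟩ := hdir.directed i₀ i
    exact ⟨⟨l, hl₁⟩, g i l hl₂ x, RingHom.congr_fun (hcompat i l hl₂) x⟩
  · obtain ⟨k, hk, h0⟩ := hzero j.1 x hx
    exact ⟨⟨k, j.2.trans hk⟩, hk, h0⟩

theorem exists_module_stage (i : ι) {B : Type u} [CommRing B] [Algebra A B]
    {N : Type u} [AddCommGroup N] [Module B N] {a b : ℕ} (π : (Fin a → B) →ₗ[B] N) (hπ : Function.Surjective π)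
    (v : Fin b → Fin a → B) (hv : Submodule.span B (Set.range v) = LinearMap.ker π)
    {Bi : Type u} [CommRing Bi] [Algebra (G i) Bi] [Algebra Bi B] [Algebra (G i) B] [IsScalarTower (G i) A B]
    [IsScalarTower (G i) Bi B] [Algebra.FinitePresentation (G i) Bi] [Algebra.IsPushout (G i) Bi A B]
    (w : Fin b → Fin a → Bi) (hw : ∀ k l, algebraMap Bi B (w k l) = v k l) :
    ∃ (i : ι) (Bi Ni : Type u) (_ : CommRing Bi) (_ : Algebra (G i) Bi) (_ : Algebra Bi B) (_ : Algebra (G i) B)
      (_ : IsScalarTower (G i) A B) (_ : IsScalarTower (G i) Bi B)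
      (_ : AddCommGroup Ni) (_ : Module Bi Ni) (_ : Module (G i) Ni) (_ : IsScalarTower (G i) Bi Ni)
      (_ : Module Bi N) (_ : IsScalarTower Bi B N) (f : Ni →ₗ[Bi] N),
      Algebra.FinitePresentation (G i) Bi ∧ Algebra.IsPushout (G i) Bi A B ∧ Module.FinitePresentation Bi Ni ∧
        IsBaseChange B f := by
  classical
  letI : Module Bi N := Module.compHom N (algebraMap Bi B)
  haveI : IsScalarTower Bi B N := IsScalarTower.of_algebraMap_smul fun _ _ => rfl
  obtain ⟨f, hf⟩ := exists_module_model π hπ v hv.symm w hw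
  let Ni := (Fin a → Bi) ⧸ Submodule.span Bi (Set.range w)
  haveI : Module.FinitePresentation Bi Ni := Module.finitePresentation_of_surjective (Submodule.mkQ _)
    (Submodule.mkQ_surjective _) (by rw [Submodule.ker_mkQ]; exact Submodule.fg_span (Set.finite_range w))
  exact ⟨i, Bi, Ni, inferInstance, inferInstance, inferInstance, inferInstance, inferInstance, inferInstance,
    inferInstance, inferInstance, inferInstance, inferInstance, inferInstance, inferInstance, f,
    inferInstance, inferInstance, inferInstance, hf⟩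

theorem exists_stage_model_aux (hc : FlatCA.IsDirectedColimitRing G g A) {B : Type u} [CommRing B] [Algebra A B]
    (N : Type u) [AddCommGroup N] [Module B N] {a b : ℕ} (π : (Fin a → B) →ₗ[B] N) (hπ : Function.Surjective π)
    (v : Fin b → Fin a → B) (hv : Submodule.span B (Set.range v) = LinearMap.ker π)
    {A₀ B₀ : Type u} [CommRing A₀] [CommRing B₀] [Algebra A₀ B₀] [Algebra.FinitePresentation A₀ B₀] [Algebra A₀ A]
    [Algebra A₀ B] [IsScalarTower A₀ A B] (e : A ⊗[A₀] B₀ ≃ₐ[A] B) (i : ι) (θ' : A₀ →+* G i)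
    (hθ : (algebraMap (G i) A).comp θ' = algebraMap A₀ A) :
    ∃ (i : ι) (Bi Ni : Type u) (_ : CommRing Bi) (_ : Algebra (G i) Bi) (_ : Algebra Bi B) (_ : Algebra (G i) B)
      (_ : IsScalarTower (G i) A B) (_ : IsScalarTower (G i) Bi B)
      (_ : AddCommGroup Ni) (_ : Module Bi Ni) (_ : Module (G i) Ni) (_ : IsScalarTower (G i) Bi Ni)
      (_ : Module Bi N) (_ : IsScalarTower Bi B N) (f : Ni →ₗ[Bi] N),
      Algebra.FinitePresentation (G i) Bi ∧ Algebra.IsPushout (G i) Bi A B ∧ Module.FinitePresentation Bi Ni ∧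
        IsBaseChange B f := by
  classical
  have hc₀ := hc
  have hc' := isDirectedColimitRing_above hc i
  obtain ⟨-, -, hid, hcomp, hcompat, -, -⟩ := hc₀
  letI : ∀ j : {j // i ≤ j}, Algebra A₀ (G j.1) := fun j => ((g i j.1 j.2).comp θ').toAlgebra
  haveI : ∀ j : {j // i ≤ j}, IsScalarTower A₀ (G j.1) A := fun j => IsScalarTower.of_algebraMap_eq fun x => by
    show algebraMap A₀ A x = algebraMap (G j.1) A (g i j.1 j.2 (θ' x))
    rw [← RingHom.comp_apply (algebraMap (G j.1) A), hcompat i j.1 j.2]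
    exact (RingHom.congr_fun hθ x).symm
  let g' : ∀ j k : {j // i ≤ j}, j ≤ k → G j.1 →ₐ[A₀] G k.1 := fun j k h =>
    { g j.1 k.1 h with commutes' := fun x => (by
        show g j.1 k.1 h (g i j.1 j.2 (θ' x)) = g i k.1 k.2 (θ' x)
        rw [← RingHom.comp_apply (g j.1 k.1 h), hcomp i j.1 k.1 j.2 h]) }
  obtain ⟨hex, -⟩ := GeomPureLib.colim_tensor (fun j : {j // i ≤ j} => G j.1) g' A hc' B₀
  choose st x hx using fun kl : Fin b × Fin a => hex (e.symm (v kl.1 kl.2))
  obtain ⟨hdir', hne', -⟩ := hc'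
  haveI := hdir'
  haveI := hne'
  obtain ⟨j, hj⟩ := (Finset.univ.image st).exists_le
  let Bi := G j.1 ⊗[A₀] B₀
  letI : Algebra (G j.1) B := ((algebraMap A B).comp (algebraMap (G j.1) A)).toAlgebra
  haveI : IsScalarTower (G j.1) A B := IsScalarTower.of_algebraMap_eq fun _ => rfl
  let J : Bi →ₐ[A₀] A ⊗[A₀] B₀ := Algebra.TensorProduct.map (IsScalarTower.toAlgHom A₀ (G j.1) A) (AlgHom.id A₀ B₀)
  letI : Algebra Bi B := (e.toRingEquiv.toRingHom.comp J.toRingHom).toAlgebra
  haveI : IsScalarTower (G j.1) Bi B := IsScalarTower.of_algebraMap_eq (R := G j.1) (S := Bi) (A := B) fun c => by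
    show algebraMap A B (algebraMap (G j.1) A c) = e (J (c ⊗ₜ 1))
    simp only [J, Algebra.TensorProduct.map_tmul, map_one]
    exact (e.commutes _).symm
  letI : Algebra B₀ B := (e.toRingEquiv.toRingHom.comp
    (Algebra.TensorProduct.includeRight : B₀ →ₐ[A₀] A ⊗[A₀] B₀).toRingHom).toAlgebra
  haveI : IsScalarTower A₀ B₀ B := IsScalarTower.of_algebraMap_eq (R := A₀) (S := B₀) (A := B) fun c => by
    show algebraMap A₀ B c = e (1 ⊗ₜ algebraMap A₀ B₀ c)
    rw [show (1 : A) ⊗ₜ[A₀] algebraMap A₀ B₀ c = algebraMap A (A ⊗[A₀] B₀) (algebraMap A₀ A c) by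
      rw [Algebra.TensorProduct.algebraMap_apply, Algebra.algebraMap_self, RingHom.id_apply,
        Algebra.algebraMap_eq_smul_one, Algebra.algebraMap_eq_smul_one, TensorProduct.smul_tmul],
      e.commutes, ← IsScalarTower.algebraMap_apply]
  letI : Algebra B₀ (A ⊗[A₀] B₀) := Algebra.TensorProduct.rightAlgebra
  let e' : A ⊗[A₀] B₀ ≃ₐ[B₀] B := AlgEquiv.ofRingEquiv (f := e.toRingEquiv) fun c => rfl
  haveI : Algebra.IsPushout A₀ A B₀ B := Algebra.IsPushout.of_equiv
    (h := (inferInstance : Algebra.IsPushout A₀ A B₀ (A ⊗[A₀] B₀))) e (RingHom.ext fun c => rfl)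
  letI : Algebra B₀ Bi := Algebra.TensorProduct.rightAlgebra
  haveI : IsScalarTower B₀ Bi B := IsScalarTower.of_algebraMap_eq (R := B₀) (S := Bi) (A := B) fun c => by
    show e (1 ⊗ₜ c) = e (J (1 ⊗ₜ c))
    exact congrArg e ((Algebra.TensorProduct.map_tmul _ _ _ _).trans (by rw [map_one]; rfl)).symm
  haveI : IsScalarTower A₀ Bi B := IsScalarTower.of_algebraMap_eq (R := A₀) (S := Bi) (A := B) fun c => by
    rw [IsScalarTower.algebraMap_apply A₀ (G j.1) Bi, ← IsScalarTower.algebraMap_apply (G j.1) Bi B,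
      IsScalarTower.algebraMap_apply (G j.1) A B, ← IsScalarTower.algebraMap_apply A₀ (G j.1) A,
      ← IsScalarTower.algebraMap_apply A₀ A B]
  haveI : Algebra.IsPushout A₀ (G j.1) B₀ Bi := inferInstanceAs (Algebra.IsPushout A₀ (G j.1) B₀ (G j.1 ⊗[A₀] B₀))
  haveI : Algebra.IsPushout (G j.1) A Bi B :=
    (Algebra.IsPushout.comp_iff A₀ (G j.1) (T := A) B₀ Bi (T' := B)).1 inferInstance
  haveI : Algebra.IsPushout (G j.1) Bi A B := Algebra.IsPushout.symm inferInstance
  let w : Fin b → Fin a → Bi := fun k l =>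
    (g' (st (k, l)) j (hj _ (Finset.mem_image_of_mem st (Finset.mem_univ _)))).toLinearMap.rTensor B₀ (x (k, l))
  have hw : ∀ k l, algebraMap Bi B (w k l) = v k l := fun k l => by
    change e (J (w k l)) = v k l
    refine (congrArg e ?_).trans (e.apply_symm_apply (v k l))
    rw [← hx (k, l)]
    show J (LinearMap.rTensor B₀ _ _) = _
    generalize x (k, l) = z
    induction z using TensorProduct.induction_on with
    | zero => simp
    | add p q hp hq => simp only [map_add, hp, hq]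
    | tmul p q =>
      simp only [LinearMap.rTensor_tmul, J, Algebra.TensorProduct.map_tmul]
      exact congrArg (· ⊗ₜ[A₀] q) (RingHom.congr_fun (hcompat _ j.1 _) p)
  exact exists_module_stage j.1 π hπ v hv w hw

/-- A finitely presented algebra with a finitely presented module over it comes from a stage. -/
theorem exists_stage_model (hc : FlatCA.IsDirectedColimitRing G g A) {B : Type u} [CommRing B] [Algebra A B]
    [Algebra.FinitePresentation A B] (N : Type u) [AddCommGroup N] [Module B N] [Module.FinitePresentation B N] :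
    ∃ (i : ι) (Bi Ni : Type u) (_ : CommRing Bi) (_ : Algebra (G i) Bi) (_ : Algebra Bi B) (_ : Algebra (G i) B)
      (_ : IsScalarTower (G i) A B) (_ : IsScalarTower (G i) Bi B)
      (_ : AddCommGroup Ni) (_ : Module Bi Ni) (_ : Module (G i) Ni) (_ : IsScalarTower (G i) Bi Ni)
      (_ : Module Bi N) (_ : IsScalarTower Bi B N) (f : Ni →ₗ[Bi] N),
      Algebra.FinitePresentation (G i) Bi ∧ Algebra.IsPushout (G i) Bi A B ∧ Module.FinitePresentation Bi Ni ∧
        IsBaseChange B f := by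
  classical
  obtain ⟨a, π, hπ, hK⟩ : ∃ (a : ℕ) (π : (Fin a → B) →ₗ[B] N), Function.Surjective π ∧ (LinearMap.ker π).FG := by
    obtain ⟨a, π, hπ⟩ := Module.Finite.exists_fin' B N
    exact ⟨a, π, hπ, Module.FinitePresentation.fg_ker π hπ⟩
  obtain ⟨b, v, hv⟩ := Submodule.fg_iff_exists_fin_generating_family.1 hK
  let P := Algebra.Presentation.ofFinitePresentation A B
  let A₀ := P.Core
  let B₀ := P.ModelOfHasCoeffs A₀
  let e : A ⊗[A₀] B₀ ≃ₐ[A] B := P.tensorModelOfHasCoeffsEquiv A₀
  obtain ⟨Z, _, ⟨eZ⟩⟩ : ∃ (Z : Type u) (_ : CommRing Z), Nonempty (Z ≃+* ℤ) :=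
    ⟨ULift.{u} ℤ, inferInstance, ⟨ULift.ringEquiv⟩⟩
  letI algZ : ∀ (R : Type u) [CommRing R], Algebra Z R := fun R _ =>
    ((Int.castRingHom R).comp eZ.toRingHom).toAlgebra
  haveI : IsNoetherianRing Z := isNoetherianRing_of_ringEquiv ℤ eZ.symm
  haveI : Algebra.FiniteType ℤ A₀ := inferInstance
  letI : Algebra Z A₀ := algZ A₀
  haveI : Algebra.FiniteType Z A₀ := RingHom.finiteType_algebraMap.1
    ((RingHom.finiteType_algebraMap.2 (inferInstance : Algebra.FiniteType ℤ A₀)).comp
      (RingHom.FiniteType.of_surjective _ eZ.surjective))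
  haveI : Algebra.FinitePresentation Z A₀ := Algebra.FinitePresentation.of_finiteType.1 inferInstance
  haveI : Algebra.FinitePresentation A₀ B₀ := inferInstance
  letI : ∀ i, Algebra Z (G i) := fun i => algZ (G i)
  letI : Algebra Z A := algZ A
  haveI : ∀ i, IsScalarTower Z (G i) A := fun i => IsScalarTower.of_algebraMap_eq fun n =>
    (map_intCast (algebraMap (G i) A) _).symm
  haveI : IsScalarTower Z A₀ A := IsScalarTower.of_algebraMap_eq fun n => (map_intCast (algebraMap A₀ A) _).symm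
  obtain ⟨i, θ', hθ⟩ := RichLib.FlatColimit.exists_algHom_stage (A₀ := Z)
    (fun i j h => { g i j h with commutes' := fun n => map_intCast (g i j h) _ }) hc (R₂ := A₀)
    (IsScalarTower.toAlgHom Z A₀ A)
  obtain ⟨θ', hθ⟩ : ∃ θ' : A₀ →+* G i, (algebraMap (G i) A).comp θ' = algebraMap A₀ A := ⟨θ'.toRingHom, hθ⟩
  haveI : IsScalarTower A₀ A B := inferInstance
  exact exists_stage_model_aux hc N π hπ v hv e i θ' hθ

end PureFlatLib
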